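import Cfsg.Agent.H16.NunLarge
import Cfsg.Agent.KFacts.SuzOut
import Cfsg.Agent.KFacts.SuzY
import Cfsg.Agent.SporRec.SuzCl.Inv
import Cfsg.Agent.Lib.Hoist
import Cfsg.Prelude.Def_Spor_Mathieu
import Cfsg.Agent.OddHalf.Small.Crit
import Cfsg.Agent.J4.M24Invol
import Cfsg.Agent.Sigma.MonsterFin_mg
import Cfsg.Agent.Sigma.USix
import Cfsg.Agent.S1577
import Cfsg.Agent.KFacts.Baby.RowB_m3
import Cfsg.Agent.Sigma.Frame
import Cfsg.Agent.KFacts.RgdLieCharP
import Cfsg.Agent.KFacts.RgdSyl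
import Cfsg.Agent.Schreier.TwFFour
import Cfsg.Agent.ChevalleyStructure.Tits.Main
import Cfsg.Agent.OddCyclic.FFSz
import Cfsg.Agent.GammaTwo.Rows
import Cfsg.Agent.QTUnique.SmallRank_mg
import Cfsg.Agent.QTNorm.Base
import Cfsg.Agent.OddHalf.Small.U43
import Cfsg.Agent.OddHalf.Small.G23
import Cfsg.Agent.OddHalf.Small.M24Char
import Cfsg.Agent.KFacts.MM.OutC_m3
import Cfsg.Agent.OddHalf.Small.Transport
import Cfsg.Agent.QTNorm.LFourThree_mg_m3
import Cfsg.Agent.QTNorm.SporRigid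
import Cfsg.Agent.QTNorm.SporJ4
import Cfsg.Agent.QTUnique.LFourThree
import Cfsg.Agent.HoltZ.CentHe
import Cfsg.Agent.QTUnique.HS
import Cfsg.Agent.KFacts.HN.Classes
import Cfsg.Agent.KFacts.HN.Sheet
import Cfsg.Agent.KFacts.Co3.Syl
import Cfsg.Agent.SporRec.Co3.Model
import Cfsg.Prelude.Def_EvenType
import Cfsg.Agent.QTUnique.Base
import Cfsg.Agent.S0774
import Cfsg.Agent.LieClassical.SympCount
import Cfsg.Agent.KFacts.CoTwo.QuotInst
import Cfsg.Agent.Co2Type.TCard_mg
import Cfsg.Agent.KFacts.Th.Main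
import Cfsg.Agent.Sigma.ThRow
import Cfsg.Agent.ThType.CSideMain_mg
import Cfsg.Agent.SevenCases.SporJ4
import Cfsg.Agent.QTNorm.SporHS
import Cfsg.Agent.QTUnique.Ru
import Cfsg.Agent.QTNorm.SporRu
import Cfsg.Agent.OddTab.GenRowsDone
import Cfsg.Agent.OddTab.BRowsDone
import Cfsg.Agent.NotResT.All
import Cfsg.Agent.GammaTwo.SporDone
import Cfsg.Agent.GammaTwo.OwnRows
import Cfsg.Agent.CharThree.Rows
import Cfsg.Agent.CharThree.SigB
import Cfsg.Agent.LThreeFi22.Rows
import Cfsg.Agent.LThreeFi23.Sig_mg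
import Cfsg.Agent.GTwoRows.ONFin
import Cfsg.Agent.LThreeM.SigRow
import Cfsg.Agent.SporadicA.GolayFast
import Cfsg.Agent.Lib.PackCol
import Cfsg.Agent.FastGrp
import Cfsg.Agent.Prune
set_option linter.all false

section
prune_inst 0x7fbcfcfbaff83ddfffff7e7ffefddffff9fdffffffdffbfbfffcfbffafdf2b0efbc5fb87ffea50ff0ed6e23430b87b53fb7eeeffe26bdd7ffffd5ff45ffbee1ff7febd2c5197b8340fbc6ffff3f17fce7f3fffffffffffffffffffffffffffbeffffffffffff

-- part: UniqLoc/ATwelve_mg
section
prune_inst 0x4003000004800000000180010200000000000000000000000104004000d0e10032003800050e00f001108a86460088048111000d90200000020008200411c0080142932e6807cb104210000c0e803180c00000000000000000000000000041000000000000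
set_option linter.all false
open scoped Cfsg.Agent.FastGrp

-- part: UniqLoc/ATwelve
section
/-!
# S1808: the alternating group `A₁₂`

`nun` : no normalizer of a Sylow 2-subgroup of `A₁₂` lies in exactly one maximal 2-local subgroup.

`T` is the stabilizer in `A₁₂` of the partition of `{0, …, 11}` into the pairs `{2k, 2k + 1}`, of the partition into the
blocks `{4k, …, 4k + 3}` and of the block `{8, …, 11}`.  It is a 2-group and self-normalizing, so a Sylow 2-subgroup, and it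
centralizes `z = (8 9)(10 11)` and `w = (0 1)(2 3) … (10 11)`.  The centralizers of `z` and `w` generate `A₁₂`.
-/

set_option autoImplicit false

namespace Cfsg.Agent.UniqLoc.ATwelve

open Equiv Equiv.Perm

/-- the group -/
abbrev G : Type := ↥(alternatingGroup (Fin 12))

theorem api (σ : Perm (Fin 12)) (x : Fin 12) : σ (σ⁻¹ x) = x := Equiv.apply_symm_apply σ x

theorem iap (σ : Perm (Fin 12)) (x : Fin 12) : σ⁻¹ (σ x) = x := Equiv.symm_apply_apply σ x

/-- The permutation preserves the partitions into pairs and blocks and the last block. -/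
structure St (σ : Perm (Fin 12)) : Prop where
  pr : ∀ i j : Fin 12, i.val / 2 = j.val / 2 ↔ (σ i).val / 2 = (σ j).val / 2
  bl : ∀ i j : Fin 12, i.val / 4 = j.val / 4 ↔ (σ i).val / 4 = (σ j).val / 4
  la : ∀ i : Fin 12, 8 ≤ i.val ↔ 8 ≤ (σ i).val

theorem St.mul {σ τ : Perm (Fin 12)} (h1 : St σ) (h2 : St τ) : St (σ * τ) where
  pr := fun i j => (h2.pr i j).trans (h1.pr _ _)
  bl := fun i j => (h2.bl i j).trans (h1.bl _ _)
  la := fun i => (h2.la i).trans (h1.la _)

theorem St.inv {σ : Perm (Fin 12)} (h : St σ) : St σ⁻¹ where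
  pr := fun i j => by
    have := h.pr (σ⁻¹ i) (σ⁻¹ j)
    rw [api, api] at this
    exact this.symm
  bl := fun i j => by
    have := h.bl (σ⁻¹ i) (σ⁻¹ j)
    rw [api, api] at this
    exact this.symm
  la := fun i => by
    have := h.la (σ⁻¹ i)
    rw [api] at this
    exact this.symm

/-- the Sylow 2-subgroup -/
def T0 : Subgroup G where
  carrier := {σ | St (σ : Perm (Fin 12))}
  one_mem' := ⟨fun _ _ => Iff.rfl, fun _ _ => Iff.rfl, fun _ => Iff.rfl⟩
  mul_mem' := fun h1 h2 => h1.mul h2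
  inv_mem' := fun h => h.inv

theorem mem_T0 {σ : G} : σ ∈ T0 ↔ St (σ : Perm (Fin 12)) := Iff.rfl

/-! ### the 2-group -/

private noncomputable def _root_.Cfsg.Agent.KO8f298df.k0 : type_of% @Decidable.decide := @(fun x0 x1 => @Decidable.rec.{1} _ @(fun x2 => @Bool) @(fun x2 => @Bool.false) @(fun x2 => @Bool.true) @x1)
private theorem _root_.Cfsg.Agent.KO8f298df.e0 : @Decidable.decide = @_root_.Cfsg.Agent.KO8f298df.k0 := by delta _root_.Cfsg.Agent.KO8f298df.k0; rfl'
private noncomputable def _root_.Cfsg.Agent.KO8f298df.k1l (n : Nat) (P : ∀ k, k < n → Prop) (H : ∀ k h, Decidable (P k h)) (m : Nat) : m ≤ n → Bool := @Nat.rec (fun m => m ≤ n → Bool) (fun _ => true) (fun k ih h => @Decidable.rec (P k h) (fun _ => Bool) (fun _ => false) (fun _ => ih (Nat.le_of_succ_le h)) (H k h)) m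
private theorem _root_.Cfsg.Agent.KO8f298df.k1ls (n : Nat) (P : ∀ k, k < n → Prop) (H : ∀ k h, Decidable (P k h)) (m : Nat) : ∀ h : m ≤ n, _root_.Cfsg.Agent.KO8f298df.k1l n P H m h = true ↔ ∀ k (g : k < m), P k (Nat.lt_of_lt_of_le g h) := by induction m with | zero => exact fun _ => ⟨fun _ _ g => absurd g (Nat.not_lt_zero _), fun _ => rfl⟩ | succ m ih => intro h; show @Decidable.rec (P m h) (fun _ => Bool) (fun _ => false) (fun _ => _root_.Cfsg.Agent.KO8f298df.k1l n P H m (Nat.le_of_succ_le h)) (H m h) = true ↔ _; cases H m h with | isFalse q => exact ⟨fun g => absurd g Bool.false_ne_true, fun g => absurd (g m (Nat.lt_succ_self m)) q⟩ | isTrue q => exact ⟨fun g k hk => (Nat.lt_succ_iff_lt_or_eq.1 hk).elim ((ih _).1 g k) fun e => by subst e; exact q, fun g => (ih _).2 fun k hk => g k (Nat.lt_succ_of_lt hk)⟩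
private noncomputable def _root_.Cfsg.Agent.KO8f298df.k1 (n : Nat) (P : ∀ k, k < n → Prop) (H : ∀ k h, Decidable (P k h)) : Decidable (∀ k h, P k h) := @Bool.rec (fun b => _root_.Cfsg.Agent.KO8f298df.k1l n P H n (Nat.le_refl n) = b → Decidable (∀ k h, P k h)) (fun g => isFalse fun q => Bool.false_ne_true (g.symm.trans ((_root_.Cfsg.Agent.KO8f298df.k1ls n P H n _).2 fun k h => q k h))) (fun g => isTrue fun k h => (_root_.Cfsg.Agent.KO8f298df.k1ls n P H n _).1 g k h) (_root_.Cfsg.Agent.KO8f298df.k1l n P H n (Nat.le_refl n)) rfl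
private theorem _root_.Cfsg.Agent.KO8f298df.e1 : @Nat.decidableBallLT = @_root_.Cfsg.Agent.KO8f298df.k1 := funext fun _ => funext fun _ => funext fun _ => Subsingleton.elim _ _
private noncomputable def _root_.Cfsg.Agent.KO8f298df.k2 : type_of% @Nat.decidableForallFin := @(fun x0 x1 x2 => @Decidable.rec.{1} _ @(fun x3 => @Decidable ((x4 : @Fin @x0) → @x1 @x4)) @(fun x3 => @Decidable.isFalse _ (@decidable_of_decidable_of_iff._proof_1 _ _ (@Nat.decidableForallFin._proof_1 _ @x1) @x3)) @(fun x3 => @Decidable.isTrue _ (@Iff.mp _ _ (@Nat.decidableForallFin._proof_1 _ @x1) @x3)) (@Cfsg.Agent.KO8f298df.k1 @x0 @(fun x3 x4 => @x1 (@Fin.mk _ @x3 @x4)) @(fun x3 x4 => @x2 (@Fin.mk _ @x3 @x4))))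
private theorem _root_.Cfsg.Agent.KO8f298df.e2 : @Nat.decidableForallFin = @_root_.Cfsg.Agent.KO8f298df.k2 := by delta _root_.Cfsg.Agent.KO8f298df.k2; rewrite [← Cfsg.Agent.KO8f298df.e1]; rfl'
private noncomputable def _root_.Cfsg.Agent.KO8f298df.k3 : type_of% @forall_prop_decidable := @(fun x0 x1 x2 x3 => @Decidable.rec.{1} _ @(fun x4 => @Decidable ((x5 : @x0) → @x1 @x5)) @(fun x4 => @Decidable.isTrue _ (@forall_prop_decidable._proof_2 _ @x1 @x4)) @(fun x4 => @Decidable.rec.{1} _ @(fun x5 => @Decidable ((x6 : @x0) → @x1 @x6)) @(fun x5 => @Decidable.isFalse _ (@decidable_of_decidable_of_iff._proof_1 _ _ (@forall_prop_decidable._proof_1 _ @x1 @x4) @x5)) @(fun x5 => @Decidable.isTrue _ (@Iff.mp _ _ (@forall_prop_decidable._proof_1 _ @x1 @x4) @x5)) (@x3 @x4)) @x2)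
private theorem _root_.Cfsg.Agent.KO8f298df.e3 : @forall_prop_decidable = @_root_.Cfsg.Agent.KO8f298df.k3 := by delta _root_.Cfsg.Agent.KO8f298df.k3; rfl'
private noncomputable def _root_.Cfsg.Agent.KO8f298df.k4 : type_of% @instDecidableIff := @(fun x0 x1 x2 x3 => @Decidable.rec.{1} _ @(fun x4 => @Decidable (@Iff @x0 @x1)) @(fun x4 => @Decidable.rec.{1} _ @(fun x5 => @Decidable (@Iff @x0 @x1)) @(fun x5 => @Decidable.isTrue _ (@instDecidableIff._proof_4 _ _ @x4 @x5)) @(fun x5 => @Decidable.isFalse _ (@instDecidableIff._proof_3 _ _ @x4 @x5)) @x3) @(fun x4 => @Decidable.rec.{1} _ @(fun x5 => @Decidable (@Iff @x0 @x1)) @(fun x5 => @Decidable.isFalse _ (@instDecidableIff._proof_2 _ _ @x4 @x5)) @(fun x5 => @Decidable.isTrue _ (@instDecidableIff._proof_1 _ _ @x4 @x5)) @x3) @x2)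
private theorem _root_.Cfsg.Agent.KO8f298df.e4 : @instDecidableIff = @_root_.Cfsg.Agent.KO8f298df.k4 := by delta _root_.Cfsg.Agent.KO8f298df.k4; rfl'
private noncomputable def _root_.Cfsg.Agent.KO8f298df.k5 : type_of% @Bool.decEq := @(fun x0 x1 => @Bool.rec.{1} @(fun x2 => @Decidable (@Eq.{1} _ @x2 @x1)) (@Bool.rec.{1} @(fun x2 => @Decidable (@Eq.{1} _ @Bool.false @x2)) (@Decidable.isTrue _ (@rfl.{1} _ _)) (@Decidable.isFalse _ @(fun x2 => @Bool.noConfusion.{0} _ _ _ @x2)) @x1) (@Bool.rec.{1} @(fun x2 => @Decidable (@Eq.{1} _ @Bool.true @x2)) (@Decidable.isFalse _ @(fun x2 => @Bool.noConfusion.{0} _ _ _ @x2)) (@Decidable.isTrue _ (@rfl.{1} _ _)) @x1) @x0)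
private theorem _root_.Cfsg.Agent.KO8f298df.e5 : @Bool.decEq = @_root_.Cfsg.Agent.KO8f298df.k5 := by delta _root_.Cfsg.Agent.KO8f298df.k5; rfl'
private noncomputable def _root_.Cfsg.Agent.KO8f298df.k6 : type_of% @Nat.decLe := @(fun x0 x1 => @Decidable.rec.{1} _ @(fun x2 => @Decidable (@LE.le.{0} _ _ @x0 @x1)) @(fun x2 => @Decidable.isFalse _ (@Nat.not_le_of_not_ble_eq_true _ _ @x2)) @(fun x2 => @Decidable.isTrue _ (@Nat.le_of_ble_eq_true _ _ @x2)) (@Cfsg.Agent.KO8f298df.k5 (@Nat.ble @x0 @x1) @Bool.true))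
private theorem _root_.Cfsg.Agent.KO8f298df.e6 : @Nat.decLe = @_root_.Cfsg.Agent.KO8f298df.k6 := by delta _root_.Cfsg.Agent.KO8f298df.k6; rewrite [← Cfsg.Agent.KO8f298df.e5]; rfl'
private noncomputable def _root_.Cfsg.Agent.KO8f298df.k7 : type_of% @Nat.decEq := @(fun x0 x1 => @Bool.rec.{1} @(fun x2 => (@Eq.{1} _ (@Nat.beq @x0 @x1) @x2) → @Decidable (@Eq.{1} _ @x0 @x1)) @(fun x2 => @Decidable.isFalse _ (@Nat.ne_of_beq_eq_false _ _ @x2)) @(fun x2 => @Decidable.isTrue _ (@Nat.eq_of_beq_eq_true _ _ @x2)) (@Nat.beq @x0 @x1) (@Eq.refl.{1} _ (@Nat.beq @x0 @x1)))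
private theorem _root_.Cfsg.Agent.KO8f298df.e7 : @Nat.decEq = @_root_.Cfsg.Agent.KO8f298df.k7 := by delta _root_.Cfsg.Agent.KO8f298df.k7; rfl'
private noncomputable def _root_.Cfsg.Agent.KO8f298df.k8 : type_of% @instDecidableEqNat := @Cfsg.Agent.KO8f298df.k7
private theorem _root_.Cfsg.Agent.KO8f298df.e8 : @instDecidableEqNat = @_root_.Cfsg.Agent.KO8f298df.k8 := by delta _root_.Cfsg.Agent.KO8f298df.k8; rewrite [← Cfsg.Agent.KO8f298df.e7]; rfl'

theorem aux_bl : ∀ i j k : Fin 12, (8 ≤ i.val ↔ 8 ≤ j.val) → (8 ≤ j.val ↔ 8 ≤ k.val) →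
    (i.val / 4 = j.val / 4 ↔ j.val / 4 = k.val / 4) → k.val / 4 = i.val / 4 := by (first | (refine of_decide_eq_true ?_; rewrite [Cfsg.Agent.KO8f298df.e0, Cfsg.Agent.KO8f298df.e2, Cfsg.Agent.KO8f298df.e3, Cfsg.Agent.KO8f298df.e4, Cfsg.Agent.KO8f298df.e6, Cfsg.Agent.KO8f298df.e8]; decide +kernel) | decide +kernel)

theorem aux_pr : ∀ i j k : Fin 12, j.val / 4 = i.val / 4 → k.val / 4 = j.val / 4 →
    (i.val / 2 = j.val / 2 ↔ j.val / 2 = k.val / 2) → k.val / 2 = i.val / 2 := by (first | (refine of_decide_eq_true ?_; rewrite [Cfsg.Agent.KO8f298df.e0, Cfsg.Agent.KO8f298df.e2, Cfsg.Agent.KO8f298df.e3, Cfsg.Agent.KO8f298df.e8, Cfsg.Agent.KO8f298df.e4]; decide +kernel) | decide +kernel)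

private noncomputable def _root_.Cfsg.Agent.KO8f298df.k9 : type_of% @instDecidableEqFin := @(fun x0 x1 x2 => @Decidable.rec.{1} _ @(fun x3 => @Decidable (@Eq.{1} _ @x1 @x2)) @(fun x3 => @Decidable.isFalse _ (@instDecidableEqFin._proof_1 @x0 @x1 @x2 @x3)) @(fun x3 => @Decidable.isTrue _ (@Fin.eq_of_val_eq _ _ _ @x3)) (@Cfsg.Agent.KO8f298df.k7 (@Fin.val _ @x1) (@Fin.val _ @x2)))
private theorem _root_.Cfsg.Agent.KO8f298df.e9 : @instDecidableEqFin = @_root_.Cfsg.Agent.KO8f298df.k9 := by delta _root_.Cfsg.Agent.KO8f298df.k9; rewrite [← Cfsg.Agent.KO8f298df.e7]; rfl'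

theorem aux_pt : ∀ i j k : Fin 12, j.val / 2 = i.val / 2 → k.val / 2 = j.val / 2 →
    (i = j ↔ j = k) → k = i := by (first | (refine of_decide_eq_true ?_; rewrite [Cfsg.Agent.KO8f298df.e0, Cfsg.Agent.KO8f298df.e2, Cfsg.Agent.KO8f298df.e3, Cfsg.Agent.KO8f298df.e8, Cfsg.Agent.KO8f298df.e4, Cfsg.Agent.KO8f298df.e9]; decide +kernel) | decide +kernel)

theorem pow_eight {σ : Perm (Fin 12)} (h : St σ) : σ ^ 8 = 1 := by
  have h2 : ∀ i, ((σ * σ) i).val / 4 = i.val / 4 := fun i =>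
    aux_bl i (σ i) (σ (σ i)) (h.la i) (h.la _) (h.bl i (σ i))
  have hs := h.mul h
  set τ := σ * σ with hτ
  have h4 : ∀ i, ((τ * τ) i).val / 2 = i.val / 2 := fun i =>
    aux_pr i (τ i) (τ (τ i)) (h2 i) (h2 _) (hs.pr i (τ i))
  set υ := τ * τ with hυ
  have h8 : ∀ i, (υ * υ) i = i := fun i =>
    aux_pt i (υ i) (υ (υ i)) (h4 i) (h4 _) (υ.injective.eq_iff (a := i) (b := υ i)).symm
  have e : σ ^ 8 = υ * υ := by
    rw [hυ, hτ]
    simp only [pow_succ, pow_zero, one_mul, mul_assoc]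
  rw [e]
  exact Equiv.ext h8

theorem isPGroup_T0 : IsPGroup 2 T0 := by
  intro σ
  refine ⟨3, ?_⟩
  apply Subtype.ext
  apply Subtype.ext
  exact pow_eight σ.2

/-! ### elements -/

/-- the transposition of the pair `p` times that of the pair `q` -/
def tt (p q : Fin 6) : Perm (Fin 12) :=
  swap ⟨2 * p.val, by omega⟩ ⟨2 * p.val + 1, by omega⟩ * swap ⟨2 * q.val, by omega⟩ ⟨2 * q.val + 1, by omega⟩

/-- the swap of the pairs `p`, `q` -/
def sw (p q : Fin 6) : Perm (Fin 12) :=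
  swap ⟨2 * p.val, by omega⟩ ⟨2 * q.val, by omega⟩ * swap ⟨2 * p.val + 1, by omega⟩ ⟨2 * q.val + 1, by omega⟩

theorem tt_mem (p q : Fin 6) : tt p q ∈ alternatingGroup (Fin 12) := by
  rw [mem_alternatingGroup, tt, Perm.sign_mul, Perm.sign_swap (by intro h; simp [Fin.ext_iff] at h),
    Perm.sign_swap (by intro h; simp [Fin.ext_iff] at h)]
  rfl

theorem sw_mem {p q : Fin 6} (h : p ≠ q) : sw p q ∈ alternatingGroup (Fin 12) := by
  have h1 : p.val ≠ q.val := fun h1 => h (Fin.ext h1)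
  rw [mem_alternatingGroup, sw, Perm.sign_mul,
    Perm.sign_swap (by intro h2; rw [Fin.ext_iff] at h2; simp only at h2; omega),
    Perm.sign_swap (by intro h2; rw [Fin.ext_iff] at h2; simp only at h2; omega)]
  rfl

theorem tt_pr : ∀ p q : Fin 6, p ≠ q → ∀ i : Fin 12, ((tt p q) i).val / 2 = i.val / 2 := by decide +kernel

theorem tt_St {p q : Fin 6} (h : p ≠ q) : St (tt p q) := by
  have h1 := tt_pr p q h
  have h2 : ∀ i : Fin 12, ((tt p q) i).val / 4 = i.val / 4 := by
    intro i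
    have := h1 i
    omega
  refine ⟨fun i j => ?_, fun i j => ?_, fun i => ?_⟩
  · rw [h1, h1]
  · rw [h2, h2]
  · have := h1 i
    omega

private noncomputable def _root_.Cfsg.Agent.KO8f298df.k10 : type_of% @instDecidableAnd := @(fun x0 x1 x2 x3 => @Decidable.rec.{1} _ @(fun x4 => @Decidable (@And @x0 @x1)) @(fun x4 => @Decidable.isFalse _ (@instDecidableAnd._proof_2 _ _ @x4)) @(fun x4 => @Decidable.rec.{1} _ @(fun x5 => @Decidable (@And @x0 @x1)) @(fun x5 => @Decidable.isFalse _ (@instDecidableAnd._proof_1 _ _ @x5)) @(fun x5 => @Decidable.isTrue _ (@And.intro _ _ @x4 @x5)) @x3) @x2)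
private theorem _root_.Cfsg.Agent.KO8f298df.e10 : @instDecidableAnd = @_root_.Cfsg.Agent.KO8f298df.k10 := by delta _root_.Cfsg.Agent.KO8f298df.k10; rfl'

/-- the element of `T` swapping two pairs of a block -/
theorem sw_St_aux : ∀ p q : Fin 6, p.val / 2 = q.val / 2 →
    (∀ i j : Fin 12, i.val / 2 = j.val / 2 ↔ ((sw p q) i).val / 2 = ((sw p q) j).val / 2) ∧
      ∀ i : Fin 12, ((sw p q) i).val / 4 = i.val / 4 := by (first | (refine of_decide_eq_true ?_; rewrite [Cfsg.Agent.KO8f298df.e0, Cfsg.Agent.KO8f298df.e2, Cfsg.Agent.KO8f298df.e3, Cfsg.Agent.KO8f298df.e8, Cfsg.Agent.KO8f298df.e10, Cfsg.Agent.KO8f298df.e4]; decide +kernel) | decide +kernel)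

theorem sw_St {p q : Fin 6} (h : p.val / 2 = q.val / 2) : St (sw p q) := by
  obtain ⟨h1, h2⟩ := sw_St_aux p q h
  refine ⟨h1, fun i j => ?_, fun i => ?_⟩
  · rw [h2, h2]
  · have := h2 i
    omega

/-- the swap of the first two blocks -/
def bs : Perm (Fin 12) := sw 0 2 * sw 1 3

theorem bs_mem : bs ∈ alternatingGroup (Fin 12) :=
  (alternatingGroup (Fin 12)).mul_mem (sw_mem (by decide)) (sw_mem (by decide))

theorem bs_St : St bs :=
  ⟨by decide +kernel, by decide +kernel, by decide +kernel⟩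

/-! ### the normalizer of `T` -/

theorem fix_pair : ∀ i j : Fin 12, j.val / 2 ≠ i.val / 2 → ∃ p q : Fin 6, p ≠ q ∧ (tt p q) i = i ∧ (tt p q) j ≠ j := by
  decide +kernel

theorem pair_cases : ∀ i j a b : Fin 12, j.val / 2 = i.val / 2 → (i.val / 2 = j.val / 2 ↔ a.val / 2 = b.val / 2) →
    a = i → (j = i ↔ b = a) → b = j := by (set_option synthInstance.maxSize 2000 in open scoped Cfsg.Agent.Lib.Hoist Cfsg.Agent.Lib.HoistLin in decide +kernel)

/-- Points of a pair have the same stabilizer. -/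
theorem pr_iff (i j : Fin 12) : j.val / 2 = i.val / 2 ↔ ∀ σ ∈ T0, (σ : Perm (Fin 12)) i = i → (σ : Perm (Fin 12)) j = j := by
  constructor
  · intro h σ hσ hi
    exact pair_cases i j _ _ h ((mem_T0.1 hσ).pr i j) hi (σ.1.injective.eq_iff (a := j) (b := i)).symm
  · intro h
    by_contra hne
    obtain ⟨p, q, hpq, h1, h2⟩ := fix_pair i j hne
    exact h2 (h ⟨tt p q, tt_mem p q⟩ (tt_St hpq) h1)

/-- transport along the normalizer -/
theorem stab_norm {g : G} (hg : g ∈ Subgroup.normalizer (T0 : Set G)) {Q : Fin 12 → Fin 12 → Fin 12 → Fin 12 → Prop}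
    (i j : Fin 12) (h : ∀ σ ∈ T0, (σ : Perm (Fin 12)) i = i → Q i j ((σ : Perm (Fin 12)) i) ((σ : Perm (Fin 12)) j)) :
    ∀ σ ∈ T0, (σ : Perm (Fin 12)) ((g : Perm (Fin 12)) i) = (g : Perm (Fin 12)) i →
      ∃ τ ∈ T0, (τ : Perm (Fin 12)) i = i ∧ (σ : Perm (Fin 12)) ((g : Perm (Fin 12)) j) =
        (g : Perm (Fin 12)) ((τ : Perm (Fin 12)) j) ∧ Q i j i ((τ : Perm (Fin 12)) j) := by
  intro σ hσ hi
  have h1 : g⁻¹ * σ * g ∈ T0 := by
    have := (Subgroup.mem_normalizer_iff.1 (inv_mem hg) σ).1 hσ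
    rwa [inv_inv] at this
  have h2 : ((g⁻¹ * σ * g : G) : Perm (Fin 12)) i = i := by
    show (g : Perm (Fin 12))⁻¹ ((σ : Perm (Fin 12)) ((g : Perm (Fin 12)) i)) = i
    rw [hi, iap]
  refine ⟨_, h1, h2, ?_, ?_⟩
  · show _ = (g : Perm (Fin 12)) ((g : Perm (Fin 12))⁻¹ ((σ : Perm (Fin 12)) ((g : Perm (Fin 12)) j)))
    rw [api]
  · have := h _ h1 h2
    rwa [h2] at this

theorem norm_pr {g : G} (hg : g ∈ Subgroup.normalizer (T0 : Set G)) (i j : Fin 12) (h : j.val / 2 = i.val / 2) :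
    ((g : Perm (Fin 12)) j).val / 2 = ((g : Perm (Fin 12)) i).val / 2 := by
  rw [pr_iff] at h ⊢
  intro σ hσ hi
  obtain ⟨τ, -, -, h1, h2⟩ := stab_norm hg (Q := fun _ j _ b => b = j) i j h σ hσ hi
  rw [h1, h2]

theorem norm_pr' {g : G} (hg : g ∈ Subgroup.normalizer (T0 : Set G)) (i j : Fin 12) :
    i.val / 2 = j.val / 2 ↔ ((g : Perm (Fin 12)) i).val / 2 = ((g : Perm (Fin 12)) j).val / 2 := by
  constructor
  · intro h
    exact norm_pr hg j i h
  · intro h
    have h1 := norm_pr (inv_mem hg) _ _ h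
    have e : ∀ k, ((g⁻¹ : G) : Perm (Fin 12)) ((g : Perm (Fin 12)) k) = k := fun k => iap _ k
    rwa [e, e] at h1

/-- the swap of the pairs in each block -/
def sa : Perm (Fin 12) := sw 0 1 * (sw 2 3 * sw 4 5)

/-- the product of all transpositions of pairs -/
def w : Perm (Fin 12) := tt 0 1 * (tt 2 3 * tt 4 5)

theorem sa_mem : sa ∈ alternatingGroup (Fin 12) :=
  mul_mem (sw_mem (by decide)) (mul_mem (sw_mem (by decide)) (sw_mem (by decide)))

theorem w_mem : w ∈ alternatingGroup (Fin 12) :=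
  mul_mem (tt_mem _ _) (mul_mem (tt_mem _ _) (tt_mem _ _))

theorem sa_St : St sa := (sw_St (by decide)).mul ((sw_St (by decide)).mul (sw_St (by decide)))

theorem w_St : St w := (tt_St (by decide)).mul ((tt_St (by decide)).mul (tt_St (by decide)))

/-- eight elements of `T` -/
def el (c d e : Bool) : Perm (Fin 12) := (if c then bs else 1) * ((if d then sa else 1) * (if e then w else 1))

theorem one_St : St 1 := ⟨fun _ _ => Iff.rfl, fun _ _ => Iff.rfl, fun _ => Iff.rfl⟩

theorem el_mem (c d e : Bool) : el c d e ∈ alternatingGroup (Fin 12) := by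
  unfold el
  refine mul_mem ?_ (mul_mem ?_ ?_)
  · cases c
    · exact one_mem _
    · exact bs_mem
  · cases d
    · exact one_mem _
    · exact sa_mem
  · cases e
    · exact one_mem _
    · exact w_mem

theorem el_St (c d e : Bool) : St (el c d e) := by
  unfold el
  refine St.mul ?_ (St.mul ?_ ?_)
  · cases c
    · exact one_St
    · exact bs_St
  · cases d
    · exact one_St
    · exact sa_St
  · cases e
    · exact one_St
    · exact w_St

theorem el_trans : ∀ i j : Fin 12, (8 ≤ i.val ↔ 8 ≤ j.val) → ∃ c d e : Bool, el c d e i = j := by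
  decide +kernel

/-- the orbits -/
theorem la_iff (i j : Fin 12) : (8 ≤ i.val ↔ 8 ≤ j.val) ↔ ∃ σ ∈ T0, (σ : Perm (Fin 12)) i = j := by
  constructor
  · intro h
    obtain ⟨c, d, e, h1⟩ := el_trans i j h
    exact ⟨⟨el c d e, el_mem c d e⟩, el_St c d e, h1⟩
  · rintro ⟨σ, hσ, rfl⟩
    exact (mem_T0.1 hσ).la i

theorem norm_la_aux {g : G} (hg : g ∈ Subgroup.normalizer (T0 : Set G)) (i j : Fin 12) (h : 8 ≤ i.val ↔ 8 ≤ j.val) :
    8 ≤ ((g : Perm (Fin 12)) i).val ↔ 8 ≤ ((g : Perm (Fin 12)) j).val := by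
  rw [la_iff] at h ⊢
  obtain ⟨σ, hσ, rfl⟩ := h
  refine ⟨g * σ * g⁻¹, (Subgroup.mem_normalizer_iff.1 hg σ).1 hσ, ?_⟩
  show (g : Perm (Fin 12)) ((σ : Perm (Fin 12)) ((g : Perm (Fin 12))⁻¹ ((g : Perm (Fin 12)) i))) = _
  rw [iap]

theorem norm_la {g : G} (hg : g ∈ Subgroup.normalizer (T0 : Set G)) (i : Fin 12) :
    8 ≤ i.val ↔ 8 ≤ ((g : Perm (Fin 12)) i).val := by
  have hc : (Finset.univ.filter fun i : Fin 12 => 8 ≤ ((g : Perm (Fin 12)) i).val).card = 4 := by
    have h1 : (Finset.univ.filter fun i : Fin 12 => 8 ≤ i.val).card = 4 := by decide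
    rw [← h1]
    exact Finset.card_bijective (g : Perm (Fin 12)) (g : Perm (Fin 12)).bijective (by simp)
  have h8 : ∀ i : Fin 12, 8 ≤ i.val → (8 ≤ ((g : Perm (Fin 12)) i).val ↔ 8 ≤ ((g : Perm (Fin 12)) 8).val) :=
    fun i hi => norm_la_aux hg i 8 ⟨fun _ => by decide, fun _ => hi⟩
  have h0 : ∀ i : Fin 12, ¬ 8 ≤ i.val → (8 ≤ ((g : Perm (Fin 12)) i).val ↔ 8 ≤ ((g : Perm (Fin 12)) 0).val) :=
    fun i hi => norm_la_aux hg i 0 ⟨fun h => absurd h hi, fun h => absurd h (by decide)⟩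
  have hf : (Finset.univ.filter fun i : Fin 12 => 8 ≤ ((g : Perm (Fin 12)) i).val) =
      Finset.univ.filter fun i : Fin 12 => if 8 ≤ i.val then 8 ≤ ((g : Perm (Fin 12)) 8).val else
        8 ≤ ((g : Perm (Fin 12)) 0).val := by
    apply Finset.filter_congr
    intro i _
    by_cases hi : 8 ≤ i.val
    · rw [if_pos hi]
      exact h8 i hi
    · rw [if_neg hi]
      exact h0 i hi
  rw [hf] at hc
  by_cases hi : 8 ≤ i.val
  · rw [h8 i hi]
    by_cases a : 8 ≤ ((g : Perm (Fin 12)) 8).val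
    · exact ⟨fun _ => a, fun _ => hi⟩
    · exfalso
      by_cases b : 8 ≤ ((g : Perm (Fin 12)) 0).val
      · simp only [a, b] at hc
        revert hc
        decide
      · simp only [a, b] at hc
        revert hc
        decide
  · rw [h0 i hi]
    by_cases b : 8 ≤ ((g : Perm (Fin 12)) 0).val
    · exfalso
      by_cases a : 8 ≤ ((g : Perm (Fin 12)) 8).val
      · simp only [a, b] at hc
        revert hc
        decide
      · simp only [a, b] at hc
        revert hc
        decide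
    · exact ⟨fun h => absurd h hi, fun h => absurd h b⟩

/-! ### the blocks -/

theorem aux_bp : ∀ i j b : Fin 12, i.val / 4 = j.val / 4 → (i.val / 4 = j.val / 4 ↔ i.val / 4 = b.val / 4) →
    (i.val / 2 = j.val / 2 ↔ i.val / 2 = b.val / 2) → b.val / 2 = j.val / 2 := by (first | (refine of_decide_eq_true ?_; rewrite [Cfsg.Agent.KO8f298df.e0, Cfsg.Agent.KO8f298df.e2, Cfsg.Agent.KO8f298df.e3, Cfsg.Agent.KO8f298df.e8, Cfsg.Agent.KO8f298df.e4]; decide +kernel) | decide +kernel)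

theorem move_bl : ∀ i j : Fin 12, (8 ≤ i.val ↔ 8 ≤ j.val) → i.val / 4 ≠ j.val / 4 →
    ∃ p q : Fin 6, p.val / 2 = q.val / 2 ∧ p ≠ q ∧ (sw p q) i = i ∧ ((sw p q) j).val / 2 ≠ j.val / 2 := by decide +kernel

theorem bl_iff (i j : Fin 12) : i.val / 4 = j.val / 4 ↔ (8 ≤ i.val ↔ 8 ≤ j.val) ∧
    ∀ σ ∈ T0, (σ : Perm (Fin 12)) i = i → ((σ : Perm (Fin 12)) j).val / 2 = j.val / 2 := by
  constructor
  · intro h
    refine ⟨by omega, fun σ hσ hi => ?_⟩
    have h1 := (mem_T0.1 hσ).bl i j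
    have h2 := (mem_T0.1 hσ).pr i j
    rw [hi] at h1 h2
    exact aux_bp i j _ h h1 h2
  · rintro ⟨h, h1⟩
    by_contra hne
    obtain ⟨p, q, hpq, hpq', h2, h3⟩ := move_bl i j h hne
    exact h3 (h1 ⟨sw p q, sw_mem hpq'⟩ (sw_St hpq) h2)

theorem norm_bl {g : G} (hg : g ∈ Subgroup.normalizer (T0 : Set G)) (i j : Fin 12) (h : i.val / 4 = j.val / 4) :
    ((g : Perm (Fin 12)) i).val / 4 = ((g : Perm (Fin 12)) j).val / 4 := by
  rw [bl_iff] at h ⊢
  refine ⟨norm_la_aux hg i j h.1, fun σ hσ hi => ?_⟩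
  obtain ⟨τ, -, -, h1, h2⟩ := stab_norm hg (Q := fun _ j _ b => b.val / 2 = j.val / 2) i j h.2 σ hσ hi
  rw [h1]
  exact norm_pr hg _ _ h2

theorem norm_bl' {g : G} (hg : g ∈ Subgroup.normalizer (T0 : Set G)) (i j : Fin 12) :
    i.val / 4 = j.val / 4 ↔ ((g : Perm (Fin 12)) i).val / 4 = ((g : Perm (Fin 12)) j).val / 4 := by
  constructor
  · intro h
    exact norm_bl hg i j h
  · intro h
    have h1 := norm_bl (inv_mem hg) _ _ h
    have e : ∀ k, ((g⁻¹ : G) : Perm (Fin 12)) ((g : Perm (Fin 12)) k) = k := fun k => iap _ k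
    rwa [e, e] at h1

/-- `T` is self-normalizing. -/
theorem normalizer_T0 : Subgroup.normalizer (T0 : Set G) = T0 := by
  refine le_antisymm (fun g hg => ?_) Subgroup.le_normalizer
  exact ⟨norm_pr' hg, norm_bl' hg, norm_la hg⟩

theorem exists_sylow : ∃ S : Sylow 2 G, (S : Subgroup G) = T0 := by
  have : Fact (Nat.Prime 2) := ⟨Nat.prime_two⟩
  obtain ⟨n, hn⟩ := isPGroup_T0.exists_card_eq
  have h1 : ¬ 2 ^ (n + 1) ∣ Nat.card G := by
    intro h2
    have h3 := Sylow.prime_dvd_card_quotient_normalizer h2 hn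
    have h4 : (Subgroup.comap (Subgroup.normalizer (T0 : Set G)).subtype T0).index = 1 := by
      change (T0.subgroupOf (Subgroup.normalizer (T0 : Set G))).index = 1
      rw [normalizer_T0, Subgroup.subgroupOf_self, Subgroup.index_top]
    rw [← Subgroup.index_eq_card, h4] at h3
    exact absurd h3 (by norm_num)
  have h2 : ¬ 2 ∣ T0.index := by
    intro h3
    apply h1
    rw [← T0.card_mul_index, hn, pow_succ]
    exact Nat.mul_dvd_mul_left _ h3
  exact ⟨isPGroup_T0.toSylow h2, rfl⟩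

/-! ### the centralizers -/

/-- `(8 9)(10 11)` -/
def z : Perm (Fin 12) := tt 4 5

theorem w_apply : ∀ i j : Fin 12, j = w i ↔ j ≠ i ∧ j.val / 2 = i.val / 2 := by decide +kernel

theorem z_apply : ∀ i : Fin 12, z i = if 8 ≤ i.val then w i else i := by decide +kernel

seal _root_.Equiv.swap in
theorem comm_w {σ : Perm (Fin 12)} (h : St σ) : σ * w = w * σ := by
  ext i
  have h1 : σ (w i) = w (σ i) := by
    rw [w_apply]
    obtain ⟨h2, h3⟩ := (w_apply i (w i)).1 rfl
    exact ⟨fun h4 => h2 (σ.injective h4), (h.pr _ _).1 h3⟩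
  exact congrArg Fin.val h1

seal _root_.Equiv.swap in
theorem comm_z {σ : Perm (Fin 12)} (h : St σ) : σ * z = z * σ := by
  ext i
  have h1 : σ (z i) = z (σ i) := by
    rw [z_apply, z_apply]
    by_cases hi : 8 ≤ i.val
    · rw [if_pos hi, if_pos ((h.la i).1 hi)]
      exact congrFun (congrArg (fun f : Perm (Fin 12) => (f : Fin 12 → Fin 12)) (comm_w h)) i
    · rw [if_neg hi, if_neg (fun h2 => hi ((h.la i).2 h2))]
  exact congrArg Fin.val h1

/-- the elements of the group -/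
def zG : G := ⟨z, tt_mem 4 5⟩
def wG : G := ⟨w, w_mem⟩

theorem z_sq : z * z = 1 := by decide +kernel
theorem w_sq : w * w = 1 := by decide +kernel

theorem sw_comm_w : ∀ p q : Fin 6, p ≠ q → ∀ i : Fin 12, sw p q (w i) = w (sw p q i) := by decide +kernel

/-- the products of at most two swaps of pairs -/
def ss (a b : Bool) (p q r s : Fin 6) : Perm (Fin 12) := (if a then sw p q else 1) * (if b then sw r s else 1)

private noncomputable def _root_.Cfsg.Agent.KO8f298df.k11.{ku0, ku1, ku2} : type_of% @Equiv.trans.{ku0, ku1, ku2} := @(fun x0 x1 x2 x3 x4 => @Equiv.mk.{ku0, ku2} _ _ (@Function.comp.{ku0, ku1, ku2} _ _ _ (@Equiv.toFun.{ku1, ku2} _ _ @x4) (@Equiv.toFun.{ku0, ku1} _ _ @x3)) (@Function.comp.{ku2, ku1, ku0} _ _ _ (@Equiv.invFun.{ku0, ku1} _ _ @x3) (@Equiv.invFun.{ku1, ku2} _ _ @x4)) (@Equiv.trans._proof_1.{ku0, ku2, ku1} _ _ _ @x3 @x4) (@Equiv.trans._proof_2.{ku0, ku2, ku1} _ _ _ @x3 @x4))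
private theorem _root_.Cfsg.Agent.KO8f298df.e11.{ku0, ku1, ku2} : @Equiv.trans.{ku0, ku1, ku2} = @_root_.Cfsg.Agent.KO8f298df.k11.{ku0, ku1, ku2} := by delta _root_.Cfsg.Agent.KO8f298df.k11; rfl'
private theorem _root_.Cfsg.Agent.KO8f298df.e14.{ku} {M : Nat → Sort ku} (φ : ∀ n, M n) {z : M Nat.zero} {s : ∀ n, M n → M (Nat.succ n)} (h0 : φ Nat.zero = z) (hs : ∀ n, φ (Nat.succ n) = s n (φ n)) (n : Nat) : φ n = @Nat.rec M z s n := Nat.rec h0 (fun n ih => (hs n).trans (congrArg (s n) ih)) n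
private noncomputable def _root_.Cfsg.Agent.KO8f298df.k15 : type_of% @instDecidableOr := @(fun x0 x1 x2 x3 => @Decidable.rec.{1} _ @(fun x4 => @Decidable (@Or @x0 @x1)) @(fun x4 => @Decidable.rec.{1} _ @(fun x5 => @Decidable (@Or @x0 @x1)) @(fun x5 => @Decidable.isFalse _ (@instDecidableOr._proof_1 _ _ @x4 @x5)) @(fun x5 => @Decidable.isTrue _ (@Or.inr _ _ @x5)) @x3) @(fun x4 => @Decidable.isTrue _ (@Or.inl _ _ @x4)) @x2)
private theorem _root_.Cfsg.Agent.KO8f298df.e15 : @instDecidableOr = @_root_.Cfsg.Agent.KO8f298df.k15 := by delta _root_.Cfsg.Agent.KO8f298df.k15; rfl'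
private noncomputable def _root_.Cfsg.Agent.KO8f298df.k16 : type_of% @Nat.decidableExistsLT := @(fun x0 x1 x2 => @Nat.rec.{1} @(fun x3 => @Decidable (@Exists.{1} _ @(fun x4 => @And (@LT.lt.{0} _ _ @x4 @x3) (@x0 @x4)))) (@Decidable.isFalse _ (@Nat.decidableExistsLT._proof_5 _)) @(fun x3 x4 => @Decidable.rec.{1} _ @(fun x5 => @Decidable (@Exists.{1} _ @(fun x6 => @And (@LT.lt.{0} _ _ @x6 (@HAdd.hAdd.{0, 0, 0} _ _ _ _ @x3 ((1 : ℕ)))) (@x0 @x6)))) @(fun x5 => @Decidable.isFalse _ (@decidable_of_decidable_of_iff._proof_1 _ _ (@Nat.decidableExistsLT._proof_10 _ @x3) @x5)) @(fun x5 => @Decidable.isTrue _ (@Iff.mp _ _ (@Nat.decidableExistsLT._proof_10 _ @x3) @x5)) (@Cfsg.Agent.KO8f298df.k15 _ _ @x4 (@x1 @x3))) @x2)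
private theorem _root_.Cfsg.Agent.KO8f298df.e16 : @Nat.decidableExistsLT = @_root_.Cfsg.Agent.KO8f298df.k16 := by delta _root_.Cfsg.Agent.KO8f298df.k16; rewrite [← Cfsg.Agent.KO8f298df.e15]; funext a0 a1 a2; refine (_root_.Cfsg.Agent.KO8f298df.e14 (fun a2 => @Nat.decidableExistsLT a0 a1 a2) ?_ (fun c0 => ?_) a2 :) <;> (rfl')
private noncomputable def _root_.Cfsg.Agent.KO8f298df.k17 : type_of% @Nat.decidableExistsFin := @(fun x0 x1 x2 => @Decidable.rec.{1} _ @(fun x3 => @Decidable (@Exists.{1} _ @(fun x4 => @x1 @x4))) @(fun x3 => @Decidable.isFalse _ (@decidable_of_decidable_of_iff._proof_1 _ _ (@Nat.decidableExistsFin._proof_1 _ @x1) @x3)) @(fun x3 => @Decidable.isTrue _ (@Iff.mp _ _ (@Nat.decidableExistsFin._proof_1 _ @x1) @x3)) (@Cfsg.Agent.KO8f298df.k16 @(fun x3 => (x4 : @LT.lt.{0} _ _ @x3 @x0) → @x1 (@Fin.mk _ @x3 @x4)) @(fun x3 => @Decidable.rec.{1} _ @(fun x4 => @Decidable ((x5 : @LT.lt.{0} _ _ @x3 @x0) → @x1 (@Fin.mk _ @x3 @x5))) @(fun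 x4 => @Decidable.isTrue _ (@forall_prop_decidable._proof_2 _ @(fun x5 => @x1 (@Fin.mk _ @x3 @x5)) @x4)) @(fun x4 => @Decidable.rec.{1} _ @(fun x5 => @Decidable ((x6 : @LT.lt.{0} _ _ @x3 @x0) → @x1 (@Fin.mk _ @x3 @x6))) @(fun x5 => @Decidable.isFalse _ (@decidable_of_decidable_of_iff._proof_1 _ _ (@forall_prop_decidable._proof_1 _ @(fun x6 => @x1 (@Fin.mk _ @x3 @x6)) @x4) @x5)) @(fun x5 => @Decidable.isTrue _ (@Iff.mp _ _ (@forall_prop_decidable._proof_1 _ @(fun x6 => @x1 (@Fin.mk _ @x3 @x6)) @x4) @x5)) (@x2 (@Fin.mk _ @x3 @x4))) (@Cfsg.Agent.KO8f298df.k6 (@Nat.succ @x3) @x0)) @x0))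
private theorem _root_.Cfsg.Agent.KO8f298df.e17 : @Nat.decidableExistsFin = @_root_.Cfsg.Agent.KO8f298df.k17 := by delta _root_.Cfsg.Agent.KO8f298df.k17; rewrite [← Cfsg.Agent.KO8f298df.e6, ← Cfsg.Agent.KO8f298df.e16]; rfl'
private noncomputable def _root_.Cfsg.Agent.KO8f298df.k18 : type_of% @Bool.instDecidableExistsOfDecidablePred := @(fun x0 x1 => @Decidable.rec.{1} _ @(fun x2 => @Decidable (@Exists.{1} _ @(fun x3 => @x0 @x3))) @(fun x2 => @Decidable.rec.{1} _ @(fun x3 => @Decidable (@Exists.{1} _ @(fun x4 => @x0 @x4))) @(fun x3 => @Decidable.isFalse _ (@Bool.instDecidableExistsOfDecidablePred._proof_3 @x0 @x2 @x3)) @(fun x3 => @Decidable.isTrue _ (@Bool.instDecidableExistsOfDecidablePred._proof_2 @x0 @x3)) (@x1 @Bool.false)) @(fun x2 => @Decidable.isTrue _ (@Bool.instDecidableExistsOfDecidablePred._proof_1 @x0 @x2)) (@x1 @Bool.true))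
private theorem _root_.Cfsg.Agent.KO8f298df.e18 : @Bool.instDecidableExistsOfDecidablePred = @_root_.Cfsg.Agent.KO8f298df.k18 := by delta _root_.Cfsg.Agent.KO8f298df.k18; rfl'
private noncomputable def _root_.Cfsg.Agent.KO8f298df.oB.{ku} (α : Sort ku) (c : Bool) (f t : α) : α := @Decidable.rec (c = true) (fun _ => α) (fun _ => f) (fun _ => t) (instDecidableEqBool c true)
private noncomputable def _root_.Cfsg.Agent.KO8f298df.k19.{ku} (α : Sort ku) (c : Bool) (f t : α) : α := @Bool.rec (fun _ => α) f t c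
private theorem _root_.Cfsg.Agent.KO8f298df.e19.{ku} : @_root_.Cfsg.Agent.KO8f298df.oB.{ku} = @_root_.Cfsg.Agent.KO8f298df.k19.{ku} := funext fun α => funext fun c => funext fun f => funext fun t => by cases c <;> rfl
private noncomputable def _root_.Cfsg.Agent.KO8f298df.k21 : type_of% @Nat.decLt := @(fun x0 x1 => @Cfsg.Agent.KO8f298df.k6 (@Nat.succ @x0) @x1)
private theorem _root_.Cfsg.Agent.KO8f298df.e21 : @Nat.decLt = @_root_.Cfsg.Agent.KO8f298df.k21 := by delta _root_.Cfsg.Agent.KO8f298df.k21; rewrite [← Cfsg.Agent.KO8f298df.e6]; rfl'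
private noncomputable def _root_.Cfsg.Agent.KO8f298df.k22 : (by first | exact type_of% @Cfsg.Agent.UniqLoc.ATwelve.ss | exact Unit : Sort _) := by first | (refine @Subtype.val _ (fun g => @Cfsg.Agent.UniqLoc.ATwelve.ss = @g) (@Subtype.mk _ _ (@(fun x0 x1 x2 x3 x4 x5 => @Cfsg.Agent.KO8f298df.k11.{1, 1, 1} _ _ _ (@Cfsg.Agent.KO8f298df.k19.{1} (@Equiv.Perm.{1} (@Fin ((12 : ℕ)))) @x1 (@Equiv.mk.{1, 1} _ _ (@id.{1} _) (@id.{1} _) (@Equiv.refl._proof_1.{1} (@Fin ((12 : ℕ)))) (@Equiv.refl._proof_1.{1} (@Fin ((12 : ℕ))))) (@Cfsg.Agent.UniqLoc.ATwelve.sw @x4 @x5)) (@Cfsg.Agent.KO8f298df.k19.{1} (@Equiv.Perm.{1} (@Fin ((12 : ℕ)))) @x0 (@Equiv.mk.{1, 1} _ _ (@id.{1} _) (@id.{1} _) (@Equiv.refl._proof_1.{1} (@Fin ((12 : ℕ)))) (@Equiv.refl._proof_1.{1} (@Fin ((12 : ℕ))))) (@Cfsg.Agent.UniqLoc.ATwelve.sw @x2 @x3)))) ?_); rewrite [← Cfsg.Agent.KO8f298df.e19.{1}, ← Cfsg.Agent.KO8f298df.e11.{1, 1, 1}]; (try delta Cfsg.Agent.UniqLoc.ATwelve.ss); (try generalize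 @Cfsg.Agent.UniqLoc.ATwelve.sw = g0); rfl') | exact @Cfsg.Agent.UniqLoc.ATwelve.ss | exact ()
private theorem _root_.Cfsg.Agent.KO8f298df.e22 : (by first | exact @Cfsg.Agent.UniqLoc.ATwelve.ss = @_root_.Cfsg.Agent.KO8f298df.k22 | exact True : Prop) := by first | (delta _root_.Cfsg.Agent.KO8f298df.k22; exact @Subtype.property _ (fun g => @Cfsg.Agent.UniqLoc.ATwelve.ss = @g) _) | rfl | trivial

theorem three_aux : ∀ i j k : Fin 12, ∃ p q : Fin 6, ∃ a b : Bool, (p.val < 4 ∧ q.val < 4) ∧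
    ((ss a b 4 p 5 q) i).val < 8 ∧ ((ss a b 4 p 5 q) j).val < 8 ∧ ((ss a b 4 p 5 q) k).val < 8 := by
  (first | (refine of_decide_eq_true ?_; rewrite [Cfsg.Agent.KO8f298df.e0, Cfsg.Agent.KO8f298df.e2, Cfsg.Agent.KO8f298df.e17, Cfsg.Agent.KO8f298df.e18, Cfsg.Agent.KO8f298df.e10, Cfsg.Agent.KO8f298df.e21, Cfsg.Agent.KO8f298df.e22]; decide +kernel) | decide +kernel)

theorem ss_mem (a b : Bool) {p q : Fin 6} (hp : p.val < 4) (hq : q.val < 4) :
    ss a b 4 p 5 q ∈ alternatingGroup (Fin 12) := by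
  unfold ss
  refine mul_mem ?_ ?_
  · cases a
    · exact one_mem _
    · exact sw_mem (fun h => by rw [← h] at hp; exact absurd hp (by decide))
  · cases b
    · exact one_mem _
    · exact sw_mem (fun h => by rw [← h] at hq; exact absurd hq (by decide))

theorem ss_comm (a b : Bool) {p q : Fin 6} (hp : p.val < 4) (hq : q.val < 4) :
    ss a b 4 p 5 q * w = w * ss a b 4 p 5 q := by
  have h1 : ∀ p q : Fin 6, p ≠ q → Commute (sw p q) w := by
    intro p q hpq
    have h2 := sw_comm_w p q hpq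
    generalize w = v at h2
    exact Equiv.ext h2
  have hp' : (4 : Fin 6) ≠ p := fun h => by rw [← h] at hp; exact absurd hp (by decide)
  have hq' : (5 : Fin 6) ≠ q := fun h => by rw [← h] at hq; exact absurd hq (by decide)
  have h2 : Commute (ss a b 4 p 5 q) w := by
    unfold ss
    refine Commute.mul_left ?_ ?_
    · cases a
      · exact Commute.one_left _
      · exact h1 _ _ hp'
    · cases b
      · exact Commute.one_left _
      · exact h1 _ _ hq'
  exact h2

/-- **The centralizers of `z` and `w` generate `A₁₂`.** -/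
theorem gen : Subgroup.centralizer {zG} ⊔ Subgroup.centralizer {wG} = (⊤ : Subgroup G) := by
  set K : Subgroup G := Subgroup.centralizer {zG} ⊔ Subgroup.centralizer {wG} with hK
  have h3 : ∀ σ : Perm (Fin 12), ∀ h : σ.IsThreeCycle, (⟨σ, h.mem_alternatingGroup⟩ : G) ∈ K := by
    intro σ h
    -- three points
    obtain ⟨s, hs⟩ : ∃ s : Finset (Fin 12), s = σ.support := ⟨_, rfl⟩
    have hcard : s.card = 3 := by rw [hs]; exact h.card_support
    obtain ⟨i, j, k, -, -, -, hijk⟩ := Finset.card_eq_three.1 hcard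
    obtain ⟨p, q, a, b, ⟨hp, hq⟩, h4, h5, h6⟩ := three_aux i j k
    set τ := ss a b 4 p 5 q with hτ
    have hτm := ss_mem a b hp hq
    have hτc := ss_comm a b hp hq
    have hτK : (⟨τ, hτm⟩ : G) ∈ K := by
      refine Subgroup.mem_sup_right ?_
      rw [Subgroup.mem_centralizer_singleton_iff]
      exact Subtype.ext hτc
    -- the conjugate is in the centralizer of `z`
    have h7 : (⟨τ, hτm⟩ : G) * ⟨σ, h.mem_alternatingGroup⟩ * (⟨τ, hτm⟩ : G)⁻¹ ∈ K := by
      refine Subgroup.mem_sup_left ?_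
      rw [Subgroup.mem_centralizer_singleton_iff]
      apply Subtype.ext
      show τ * σ * τ⁻¹ * z = z * (τ * σ * τ⁻¹)
      have h8 : Perm.Disjoint (τ * σ * τ⁻¹) z := by
        intro x
        by_cases hx : 8 ≤ x.val
        · left
          show τ (σ (τ⁻¹ x)) = x
          have h9 : τ⁻¹ x ∉ σ.support := by
            rw [← hs, hijk]
            intro h10
            simp only [Finset.mem_insert, Finset.mem_singleton] at h10
            rcases h10 with h10 | h10 | h10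
            · rw [← h10, api] at h4
              omega
            · rw [← h10, api] at h5
              omega
            · rw [← h10, api] at h6
              omega
          rw [Perm.notMem_support.1 h9, api]
        · right
          rw [z_apply, if_neg hx]
      exact h8.commute
    have h8 := mul_mem (mul_mem (inv_mem hτK) h7) hτK
    have e : (⟨τ, hτm⟩ : G)⁻¹ * ((⟨τ, hτm⟩ : G) * ⟨σ, h.mem_alternatingGroup⟩ * (⟨τ, hτm⟩ : G)⁻¹) * ⟨τ, hτm⟩ =
        ⟨σ, h.mem_alternatingGroup⟩ := by group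
    rwa [e] at h8
  rw [eq_top_iff]
  intro g _
  have h4 : (g : Perm (Fin 12)) ∈ Subgroup.closure {σ : Perm (Fin 12) | σ.IsThreeCycle} := by
    rw [Perm.closure_three_cycles_eq_alternating]
    exact g.2
  have h5 : Subgroup.closure {σ : Perm (Fin 12) | σ.IsThreeCycle} ≤ K.map (alternatingGroup (Fin 12)).subtype := by
    rw [Subgroup.closure_le]
    intro σ hσ
    exact ⟨⟨σ, hσ.mem_alternatingGroup⟩, h3 σ hσ, rfl⟩
  obtain ⟨g', hg', hgg⟩ := h5 h4
  have h6 : g' = g := Subtype.ext hgg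
  rwa [← h6]

theorem isPGroup_zpowers {g : G} (h : g * g = 1) : IsPGroup 2 (Subgroup.zpowers g) := by
  have h1 : orderOf g ∣ 2 ^ 1 := orderOf_dvd_of_pow_eq_one (by rw [pow_one, pow_two, h])
  obtain ⟨k, -, hk⟩ := (Nat.dvd_prime_pow Nat.prime_two).1 h1
  exact IsPGroup.of_card (n := k) (by rw [Nat.card_zpowers, hk])

theorem centralizer_le {g : G} : Subgroup.centralizer {g} ≤ Subgroup.normalizer ((Subgroup.zpowers g : Subgroup G) : Set G) := by
  intro c hc
  rw [Subgroup.mem_centralizer_singleton_iff] at hc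
  have h1 : ∀ x ∈ Subgroup.zpowers g, c * x * c⁻¹ = x := by
    intro x hx
    obtain ⟨k, rfl⟩ := Subgroup.mem_zpowers_iff.1 hx
    have h2 : Commute c g := hc
    rw [(h2.zpow_right k).eq, mul_inv_cancel_right]
  rw [Subgroup.mem_normalizer_iff]
  intro x
  constructor
  · intro hx
    rw [h1 x hx]
    exact hx
  · intro hx
    have h2 := h1 _ hx
    have h3 : x = c * x * c⁻¹ := mul_left_cancel (mul_right_cancel h2).symm
    rwa [h3]

/-- **`A₁₂`.** -/
theorem nun : NUN G := by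
  have hcard : 5 ≤ Nat.card (Fin 12) := by simp
  have hs : IsSimpleGroup G := alternatingGroup.isSimpleGroup hcard
  have hna : ¬ IsMulCommutative G := by
    intro h
    have h1 : (⟨sw 0 1, sw_mem (by decide)⟩ : G) * ⟨tt 0 4, tt_mem 0 4⟩ = ⟨tt 0 4, tt_mem 0 4⟩ * ⟨sw 0 1, sw_mem (by decide)⟩ :=
      h.is_comm.comm _ _
    have h2 : sw 0 1 * tt 0 4 = tt 0 4 * sw 0 1 := congrArg Subtype.val h1
    exact absurd h2 (by decide +kernel)
  obtain ⟨S, hS⟩ := exists_sylow
  have hN : Subgroup.normalizer ((S : Subgroup G) : Set G) = T0 := by rw [hS, normalizer_T0]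
  refine nun_of_pair hna S (H₁ := Subgroup.centralizer {zG}) (H₂ := Subgroup.centralizer {wG})
    (U₁ := Subgroup.zpowers zG) (U₂ := Subgroup.zpowers wG) ?_ ?_ (isPGroup_zpowers (Subtype.ext z_sq))
    (isPGroup_zpowers (Subtype.ext w_sq)) ?_ ?_ centralizer_le centralizer_le gen
  · rw [hN]
    intro σ hσ
    rw [Subgroup.mem_centralizer_singleton_iff]
    exact Subtype.ext (comm_z hσ)
  · rw [hN]
    intro σ hσ
    rw [Subgroup.mem_centralizer_singleton_iff]
    exact Subtype.ext (comm_w hσ)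
  · rw [Ne, Subgroup.zpowers_eq_bot]
    intro h
    exact absurd (congrArg Subtype.val h : z = 1) (by decide +kernel)
  · rw [Ne, Subgroup.zpowers_eq_bot]
    intro h
    exact absurd ((congrArg Subtype.val h :) : w = 1) (by decide +kernel)

end Cfsg.Agent.UniqLoc.ATwelve
end

-- part: UniqLoc/Suz
section
/-!
# S1808, `Suz`: no unique maximal 2-local subgroup over `N_G(T)` (helper49)

The second centre of the Sylow 2-subgroup `T` is `⟨a, c⟩`; the element `n0` (with `⟨C(a), n0⟩ = Suz`) normalizes it.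
-/

set_option autoImplicit false
set_option maxRecDepth 100000

namespace Cfsg.Agent.UniqLoc.Suz

open Subgroup Cfsg.Spor Cfsg.Agent.SporadicRecognition.SuzPhi Cfsg.Agent.SporadicRecognition.SuzOrder
  Cfsg.Agent.SporRec.SuzCl Cfsg.Agent.UniqLoc Cfsg.Agent.UniqLoc.Second
  Cfsg.Agent.SuzThree.Basic Cfsg.Agent.SuzThree.CentA

/-- the tests -/
noncomputable def tst (k t : ℕ) : Bool :=
  or (eqB (fun p => tev Ts k 0 (app t p)) (fun p => app t (tev Ts k 0 p)))
    (eqB (fun p => tev Ts k 0 (app t p)) (fun p => app tA (app t (tev Ts k 0 p))))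

noncomputable def chkZ : Bool :=
  allP (fun k => or (Nat.beq (Nat.land k 2047) 0) (not (allL (tst k) Ts))) 13 0

private def frc (f : ℕ → ℕ) (x : ℕ) : ℕ := Nat.rec (Nat.add (f 0) 0) (fun n _ => Nat.add (f (Nat.succ n)) 0) x

private theorem frc_eq (f : ℕ → ℕ) (x : ℕ) : frc f x = f x := by cases x <;> rfl

private noncomputable def tm (ts : List ℕ) : ℕ → ℕ → ℕ :=
  List.rec (motive := fun _ => ℕ → ℕ → ℕ) (fun p _ => p)
    (fun t _ ih p q => Bool.rec (frc (ih p) (Nat.shiftRight q 1)) (app t (frc (ih p) (Nat.shiftRight q 1))) (tb q 0)) ts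

private theorem tm_eq (ts : List ℕ) : ∀ k i p : ℕ, tev ts k i p = tm ts p (Nat.shiftRight k i) := by
  induction ts with
  | nil => intro k i p; rfl
  | cons t ts ih =>
    intro k i p
    have e : Nat.shiftRight (Nat.shiftRight k i) 1 = Nat.shiftRight k (Nat.succ i) := (Nat.shiftRight_add k i 1).symm
    show @Bool.rec (fun _ => ℕ) (tev ts k (Nat.succ i) p) (app t (tev ts k (Nat.succ i) p)) (tb k i) =
      @Bool.rec (fun _ => ℕ) (frc (tm ts p) (Nat.shiftRight (Nat.shiftRight k i) 1))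
        (app t (frc (tm ts p) (Nat.shiftRight (Nat.shiftRight k i) 1))) (tb (Nat.shiftRight k i) 0)
    rw [frc_eq, e, ih]
    rfl

private noncomputable def tst2 (k t : ℕ) : Bool :=
  or (eqB (fun p => tm Ts (app t p) k) (fun p => app t (tm Ts p k)))
    (eqB (fun p => tm Ts (app t p) k) (fun p => app tA (app t (tm Ts p k))))

private theorem tst2_eq : tst = tst2 := by
  funext k t
  unfold tst tst2
  simp only [tm_eq]
  rfl

theorem chkZ_true : chkZ = true := by
  unfold chkZ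
  rw [tst2_eq]
  decide +kernel

theorem tst_of {k t : ℕ} {g : Suz} (hg : R t g) (h : pr Gs k * g = g * pr Gs k ∨ pr Gs k * g = ia * (g * pr Gs k)) :
    tst k t = true := by
  have e1 : ∀ p < 1782, φ (pr Gs k * g) p = tev Ts k 0 (app t p) := by
    intro p hp
    rw [map_mul, Equiv.Perm.mul_apply, (hg p hp).1, (tev_zero R_Ts k _ (hg p hp).2).1]
  unfold tst
  rw [Bool.or_eq_true]
  rcases h with h | h
  · left
    refine eqB_of_eq e1 (fun p hp => ?_) h
    rw [map_mul, Equiv.Perm.mul_apply, (tev_zero R_Ts k p hp).1, (hg _ (tev_zero R_Ts k p hp).2).1]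
  · right
    refine eqB_of_eq e1 (fun p hp => ?_) h
    have h1 := tev_zero R_Ts k p hp
    have h2 := hg _ h1.2
    rw [map_mul, map_mul, Equiv.Perm.mul_apply, Equiv.Perm.mul_apply, h1.1, h2.1, (R_a _ h2.2).1]

theorem forall_of {ts : List ℕ} {gs : List Suz} (h : List.Forall₂ R ts gs) {k : ℕ}
    (hk : ∀ g ∈ gs, pr Gs k * g = g * pr Gs k ∨ pr Gs k * g = ia * (g * pr Gs k)) : allL (tst k) ts = true := by
  induction h with
  | nil => rfl
  | @cons t g ts gs h1 h2 ih =>
    show and (tst k t) (allL (tst k) ts) = true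
    rw [Bool.and_eq_true]
    exact ⟨tst_of h1 (hk g List.mem_cons_self), ih fun x hx => hk x (List.mem_cons_of_mem _ hx)⟩

/-- the second centre of `T` -/
theorem second {x : Suz} (hx : x ∈ T) (h : ∀ t ∈ T, x * t = t * x ∨ x * t = ia * (t * x)) :
    x = 1 ∨ x = ia ∨ x = pr Gs 2048 ∨ x = pr Gs 6144 := by
  obtain ⟨k, hk, rfl⟩ := (mem_T x).1 hx
  have h1 := allP_spec _ 13 0 chkZ_true k (Nat.zero_le _) (by omega)
  have h2 := forall_of R_Ts (k := k) fun g hg => h g (Subgroup.subset_closure hg)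
  simp only [h2, Bool.or_eq_true, Bool.not_true, Bool.false_eq_true, or_false] at h1
  have h3 : k % 2048 = 0 := by
    have h4 := Nat.eq_of_beq_eq_true h1
    have h5 : k &&& 2047 = k % 2 ^ 11 := Nat.and_two_pow_sub_one_eq_mod k 11
    have h6 : k &&& 2047 = 0 := h4
    rw [h5] at h6
    exact h6
  have h7 : k = 0 ∨ k = 2048 ∨ k = 4096 ∨ k = 6144 := by omega
  rcases h7 with rfl | rfl | rfl | rfl
  · left
    rfl
  · exact Or.inr (Or.inr (Or.inl rfl))
  · exact Or.inr (Or.inl pr_4096)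
  · exact Or.inr (Or.inr (Or.inr rfl))

/-- the generator `c` -/
noncomputable def ic : Suz := PresentedGroup.of Suz.Gen.c

theorem R_c : R tC ic := R_gen Suz.Gen.c

theorem pr_2048 : pr Gs 2048 = ic := by
  refine eq_of_eqB (f := fun p => tev Ts 2048 0 p) (g := fun p => app tC p)
    (fun p hp => (tev_zero R_Ts _ p hp).1) (fun p hp => (R_gen Suz.Gen.c p hp).1) (by decide +kernel)

theorem pr_6144 : pr Gs 6144 = ic * ia := by
  refine eq_of_eqB (f := fun p => tev Ts 6144 0 p) (g := fun p => app tC (app tA p))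
    (fun p hp => (tev_zero R_Ts _ p hp).1) (fun p hp => ?_) (by decide +kernel)
  rw [map_mul, Equiv.Perm.mul_apply, (R_a p hp).1, (R_c _ (R_a p hp).2).1]

theorem cc : ic * ic = 1 := by
  refine eq_of_eqB (f := fun p => app tC (app tC p)) (g := fun p => p) ?_ ?_ (by decide +kernel)
  · intro p hp
    rw [map_mul, Equiv.Perm.mul_apply, (R_c p hp).1, (R_c _ (R_c p hp).2).1]
  · intro p _; rw [map_one]; rfl

theorem ca : ic * ia = ia * ic := by
  refine eq_of_eqB (f := fun p => app tC (app tA p)) (g := fun p => app tA (app tC p)) ?_ ?_ (by decide +kernel)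
  · intro p hp
    rw [map_mul, Equiv.Perm.mul_apply, (R_a p hp).1, (R_c _ (R_a p hp).2).1]
  · intro p hp
    rw [map_mul, Equiv.Perm.mul_apply, (R_c p hp).1, (R_a _ (R_c p hp).2).1]

/-- the four-group `⟨a, c⟩` -/
noncomputable def U : Subgroup Suz where
  carrier := {x | x = 1 ∨ x = ia ∨ x = ic ∨ x = ic * ia}
  one_mem' := Or.inl rfl
  mul_mem' := by
    have e1 : ia * (ic * ia) = ic := by rw [← mul_assoc, ← ca, mul_assoc, aa, mul_one]
    have e2 : ic * (ic * ia) = ia := by rw [← mul_assoc, cc, one_mul]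
    have e3 : ic * ia * ia = ic := by rw [mul_assoc, aa, mul_one]
    have e4 : ic * ia * ic = ia := by rw [ca, mul_assoc, cc, mul_one]
    have e5 : ic * ia * (ic * ia) = 1 := by rw [← mul_assoc, e4, aa]
    rintro x y (rfl | rfl | rfl | rfl) (rfl | rfl | rfl | rfl) <;>
      simp only [Set.mem_ofPred_eq, one_mul, mul_one, aa, cc, e1, e2, e3, e4, e5, ← ca, true_or, or_true]
  inv_mem' := by
    have e5 : ic * ia * (ic * ia) = 1 := by
      rw [← mul_assoc, show ic * ia * ic = ia by rw [ca, mul_assoc, cc, mul_one], aa]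
    rintro x (rfl | rfl | rfl | rfl)
    · left; exact inv_one
    · right; left; exact inv_eq_of_mul_eq_one_left aa
    · right; right; left; exact inv_eq_of_mul_eq_one_left cc
    · right; right; right; exact inv_eq_of_mul_eq_one_left e5

/-- `c` is in the second centre -/
theorem c_test : allL (fun t => or (eqB (fun p => app tC (app t p)) (fun p => app t (app tC p)))
    (eqB (fun p => app tC (app t p)) (fun p => app tA (app t (app tC p))))) Ts = true := by decide +kernel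

theorem c_gen {ts : List ℕ} {gs : List Suz} (h : List.Forall₂ R ts gs)
    (hc : allL (fun t => or (eqB (fun p => app tC (app t p)) (fun p => app t (app tC p)))
      (eqB (fun p => app tC (app t p)) (fun p => app tA (app t (app tC p))))) ts = true) :
    ∀ g ∈ gs, ic * g = g * ic ∨ ic * g = ia * (g * ic) := by
  induction h with
  | nil => intro g hg; exact absurd hg (by simp)
  | @cons t g ts gs h1 h2 ih =>
    have h3 := allL_spec hc
    intro x hx
    rcases List.mem_cons.1 hx with rfl | hx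
    · have h4 := h3 t List.mem_cons_self
      have e1 : ∀ p < 1782, φ (ic * x) p = app tC (app t p) := by
        intro p hp
        rw [map_mul, Equiv.Perm.mul_apply, (h1 p hp).1, (R_c _ (h1 p hp).2).1]
      rw [Bool.or_eq_true] at h4
      rcases h4 with h4 | h4
      · left
        refine eq_of_eqB e1 (fun p hp => ?_) h4
        rw [map_mul, Equiv.Perm.mul_apply, (R_c p hp).1, (h1 _ (R_c p hp).2).1]
      · right
        refine eq_of_eqB e1 (fun p hp => ?_) h4
        have h5 := R_c p hp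
        have h6 := h1 _ h5.2
        rw [map_mul, map_mul, Equiv.Perm.mul_apply, Equiv.Perm.mul_apply, h5.1, h6.1, (R_a _ h6.2).1]
    · refine ih ?_ x hx
      have h' : and _ _ = true := hc
      rw [Bool.and_eq_true] at h'
      exact h'.2

theorem c_second {t : Suz} (ht : t ∈ T) : ic * t = t * ic ∨ ic * t = ia * (t * ic) := by
  have hcen : ∀ g ∈ T, g * ia = ia * g := fun g hg =>
    Subgroup.mem_centralizer_singleton_iff.1 (Cfsg.Agent.SporRec.SuzCl.T_le hg)
  have ht' : t ∈ Subgroup.closure {x | x ∈ Gs} := ht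
  induction ht' using Subgroup.closure_induction with
  | mem x hx => exact c_gen R_Ts c_test x hx
  | one => left; rw [mul_one, one_mul]
  | mul x y hx hy h1 h2 =>
    have hxa := hcen x hx
    rcases h1 hx with h1 | h1 <;> rcases h2 hy with h2 | h2
    · left
      rw [← mul_assoc, h1, mul_assoc, h2, mul_assoc]
    · right
      calc ic * (x * y) = (ic * x) * y := by group
        _ = x * (ic * y) := by rw [h1]; group
        _ = (x * ia) * (y * ic) := by rw [h2]; group
        _ = ia * (x * y * ic) := by rw [hxa]; group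
    · right
      calc ic * (x * y) = (ic * x) * y := by group
        _ = ia * x * (ic * y) := by rw [h1]; group
        _ = ia * (x * y * ic) := by rw [h2]; group
    · left
      calc ic * (x * y) = (ic * x) * y := by group
        _ = ia * x * (ic * y) := by rw [h1]; group
        _ = ia * (x * ia) * (y * ic) := by rw [h2]; group
        _ = (ia * ia) * (x * y * ic) := by rw [hxa]; group
        _ = x * y * ic := by rw [aa, one_mul]
  | inv x hx h1 =>
    have hxa := hcen x hx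
    have hxa' : x⁻¹ * ia = ia * x⁻¹ := by
      calc x⁻¹ * ia = x⁻¹ * (ia * x) * x⁻¹ := by group
        _ = x⁻¹ * (x * ia) * x⁻¹ := by rw [hxa]
        _ = ia * x⁻¹ := by group
    rcases h1 hx with h1 | h1
    · left
      calc ic * x⁻¹ = x⁻¹ * (x * ic) * x⁻¹ := by group
        _ = x⁻¹ * (ic * x) * x⁻¹ := by rw [h1]
        _ = x⁻¹ * ic := by group
    · right
      have h3 : x * ic = ia * (ic * x) := by rw [h1, ← mul_assoc, aa, one_mul]
      calc ic * x⁻¹ = x⁻¹ * (x * ic) * x⁻¹ := by group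
        _ = (x⁻¹ * ia) * (ic * x) * x⁻¹ := by rw [h3]; group
        _ = ia * (x⁻¹ * ic) := by rw [hxa']; group

theorem n0_z : KFacts.SuzOut.n0 * ia * KFacts.SuzOut.n0⁻¹ = ic := by
  rw [← KFacts.SuzY.z0_eq]
  have h : ic = el [.c] := by
    show _ = (([Suz.Gen.c] : List Suz.Gen).map fun x => (PresentedGroup.of x : Suz)).prod
    rw [List.map_cons, List.map_nil, List.prod_cons, List.prod_nil, mul_one]
    rfl
  rw [h]
  exact KFacts.SuzOut.n0_conj

theorem n0_c : KFacts.SuzOut.n0 * ic * KFacts.SuzOut.n0⁻¹ = ia ∨ KFacts.SuzOut.n0 * ic * KFacts.SuzOut.n0⁻¹ = ic * ia := by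
  have h : or (eqB (fun p => wtr KFacts.SuzOut.nw (app tC p)) (fun p => app tA (wtr KFacts.SuzOut.nw p)))
      (eqB (fun p => wtr KFacts.SuzOut.nw (app tC p)) (fun p => app tC (app tA (wtr KFacts.SuzOut.nw p)))) = true := by
    decide +kernel
  have e1 : ∀ p < 1782, φ (KFacts.SuzOut.n0 * ic) p = wtr KFacts.SuzOut.nw (app tC p) := by
    intro p hp
    rw [map_mul, Equiv.Perm.mul_apply, (R_c p hp).1]
    exact (wtr_spec _ _ (R_c p hp).2).1
  rw [mul_inv_eq_iff_eq_mul, mul_inv_eq_iff_eq_mul]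
  rw [Bool.or_eq_true] at h
  rcases h with h | h
  · left
    refine eq_of_eqB e1 (fun p hp => ?_) h
    rw [map_mul, Equiv.Perm.mul_apply]
    have h1 := wtr_spec KFacts.SuzOut.nw p hp
    rw [← (R_a _ h1.2).1, ← h1.1]
    rfl
  · right
    refine eq_of_eqB e1 (fun p hp => ?_) h
    rw [map_mul, map_mul, Equiv.Perm.mul_apply, Equiv.Perm.mul_apply]
    have h1 := wtr_spec KFacts.SuzOut.nw p hp
    have h2 := R_a _ h1.2
    rw [← (R_c _ h2.2).1, ← h2.1, ← h1.1]
    rfl

theorem finite_suz : Finite Suz := by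
  apply Nat.finite_of_card_ne_zero
  rw [card_Suz]
  norm_num

theorem not_comm : ¬ IsMulCommutative Suz := by
  intro h
  have h1 := h.is_comm.comm KFacts.SuzOut.n0 ia
  have h2 := n0_z
  rw [h1, mul_inv_cancel_right] at h2
  have := eqB_of_eq (f := fun p => app tA p) (g := fun p => app tC p) (fun p hp => (R_a p hp).1)
    (fun p hp => (R_c p hp).1) h2
  revert this
  decide +kernel

/-- **`Suz`**: no unique maximal 2-local subgroup over `N_G(T)`. -/
theorem nun : NUN Suz := by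
  have := finite_suz
  have hs : IsSimpleGroup Suz := simple
  have hcen : ∀ g ∈ T, g * ia = ia * g := fun g hg =>
    Subgroup.mem_centralizer_singleton_iff.1 (Cfsg.Agent.SporRec.SuzCl.T_le hg)
  have hia : ia ∈ T := by rw [← pr_4096]; exact pr_mem _ _
  have hic : ic ∈ T := by rw [← pr_2048]; exact pr_mem _ _
  have hgen := KFacts.SuzOut.gen
  rw [KFacts.SuzY.z0_eq] at hgen
  refine nun_of_second' not_comm TS (z := ia) (U := U) (n := KFacts.SuzOut.n0) a_ne hia hcen ?_ ?_ ?_ ?_ hgen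
  · -- the centre
    intro y hy h
    have h1 : ∀ x ∈ ((TS : Sylow 2 Suz) : Subgroup Suz), x * y = y * x := h
    have h2 := KFacts.SuzSheet.center_sylow TS.isPGroup' KFacts.SuzY.T_le
      (fun Q hQ hle _ => (TS.is_maximal' hQ hle).le) h1
    rwa [KFacts.SuzY.z0_eq] at h2
  · intro x hx _ h
    rcases second hx h with h | h | h | h
    · exact Or.inl h
    · exact Or.inr (Or.inl h)
    · exact Or.inr (Or.inr (Or.inl (h.trans pr_2048)))
    · exact Or.inr (Or.inr (Or.inr (h.trans pr_6144)))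
  · rintro x (rfl | rfl | rfl | rfl)
    · exact ⟨T.one_mem, one_mul 1, fun t _ => Or.inl (by rw [one_mul, mul_one])⟩
    · exact ⟨hia, aa, fun t ht => Or.inl (hcen t ht).symm⟩
    · exact ⟨hic, cc, fun t ht => c_second ht⟩
    · refine ⟨T.mul_mem hic hia, ?_, fun t ht => ?_⟩
      · rw [← mul_assoc, show ic * ia * ic = ia by rw [ca, mul_assoc, cc, mul_one], aa]
      · have h1 := hcen t ht
        rcases c_second ht with h | h
        · left
          calc ic * ia * t = ic * (t * ia) := by rw [h1, mul_assoc]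
            _ = (ic * t) * ia := by group
            _ = t * (ic * ia) := by rw [h]; group
        · right
          calc ic * ia * t = ic * (t * ia) := by rw [h1, mul_assoc]
            _ = (ic * t) * ia := by group
            _ = ia * (t * (ic * ia)) := by rw [h]; group
  · have e1 := n0_z
    have e3 : KFacts.SuzOut.n0 * (ic * ia) * KFacts.SuzOut.n0⁻¹ =
        (KFacts.SuzOut.n0 * ic * KFacts.SuzOut.n0⁻¹) * (KFacts.SuzOut.n0 * ia * KFacts.SuzOut.n0⁻¹) := by group
    rintro x (rfl | rfl | rfl | rfl)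
    · rw [mul_one, mul_inv_cancel]; exact U.one_mem
    · rw [e1]; exact Or.inr (Or.inr (Or.inl rfl))
    · rcases n0_c with h | h <;> rw [h]
      · exact Or.inr (Or.inl rfl)
      · exact Or.inr (Or.inr (Or.inr rfl))
    · rw [e3, e1]
      rcases n0_c with h | h <;> rw [h]
      · exact Or.inr (Or.inr (Or.inr ca.symm))
      · refine Or.inr (Or.inl ?_)
        rw [ca, mul_assoc, cc, mul_one]

end Cfsg.Agent.UniqLoc.Suz
end

private theorem dce_562bfe8648d9 : _root_.True := by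
  try have : _root_.True := by simp only [_root_.Cfsg.Agent.UniqLoc.ATwelve.tt.eq_1]
  try have : _root_.True := by simp only [_root_.Cfsg.Agent.UniqLoc.ATwelve.sw.eq_1]
  exact _root_.True.intro
end

-- part: UniqLoc/Final
section
prune_inst 0x200000000000000000000000000000000000000000000000000000000000004000000000000000000000000000000000000000000000000000000000000000000000000000000000000000000000000000000000000000000000000000000000000000000
set_option linter.all false
open scoped Cfsg.Agent.FastGrp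

-- merged: Cfsg.Agent.OddHalf.Small.M2223
section

/-!
# `M22` and `M23` are of characteristic 2 type

An involution `t` of `M24` which fixes a point fixes exactly the points of an octad.  The pointwise
stabiliser `Q` of this octad acts regularly on the 16 other points, is normalised by `C(t)`, and an
element of odd order which commutes with `t` and with `Q` is trivial.
-/

set_option autoImplicit false

namespace Cfsg.Agent.OddHalf.Small.M2223

open Cfsg Equiv Cfsg.Agent.SporadicA.GolayBase Cfsg.Agent.SporadicA Cfsg.Agent.SporadicA.GolayPerm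
open Cfsg.Agent.SporadicStructure.M24El Cfsg.Agent.J4.M24InvolData Cfsg.Agent.J4.M24Invol
open Cfsg.Agent.OddHalf.Small.Crit
open scoped Pointwise

theorem P1_fix : ∀ i < 24, papp P1 i = i ↔ octMask.testBit i = true := by (rewrite [Cfsg.Agent.GolayF.papp_eq]; decide +kernel)

theorem P2_fix : ∀ i < 24, papp P2 i ≠ i := by (rewrite [Cfsg.Agent.GolayF.papp_eq]; decide +kernel)

theorem P1_fix_iff (p : GolayPt) : el P1 • p = p ↔ p ∈ fin octMask := by
  rw [mem_fin, ← P1_fix _ (idx_lt p), ← idx_el_smul ok_P1]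
  exact ⟨fun h => congrArg idx h, fun h => idx_injective h⟩

theorem P2_fix_ne (p : GolayPt) : el P2 • p ≠ p := by
  intro h
  have h1 := congrArg idx h
  rw [idx_el_smul ok_P2] at h1
  exact P2_fix _ (idx_lt p) h1

/-- a second octad, disjoint from the first -/
def octMask' : ℕ := 2854977

theorem octMask'_mem : fin octMask' ∈ octads := by
  rw [fin_mem_octads_iff (by norm_num [octMask'])]
  exact ⟨by (rewrite [Cfsg.Agent.GolayF.isCode_eq]; decide +kernel), by (rewrite [Cfsg.Agent.GolayF.popcount_eq]; decide +kernel)⟩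

theorem disj : ∀ p, p ∈ fin octMask' → p ∉ fin octMask := by
  intro p
  rw [mem_fin, mem_fin]
  have h : ∀ i < 24, octMask'.testBit i = true → ¬ octMask.testBit i = true := by decide +kernel
  exact h _ (idx_lt p)

theorem pt_two : pt 2 ∉ fin octMask ∧ pt 2 ∉ fin octMask' := by
  rw [mem_fin, mem_fin, idx_pt (by norm_num)]
  decide

/-- An involution with a fixed point fixes exactly the points of an octad. -/
theorem fix_octad {u : Perm GolayPt} (hu : u ∈ M24) (h2 : u * u = 1) (h1 : u ≠ 1) {p : GolayPt}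
    (hp : u p = p) : ∃ g ∈ M24, ∀ q, u q = q ↔ q ∈ g • fin octMask := by
  obtain ⟨g, hg⟩ := invol_conj ⟨u, hu⟩ (Subtype.ext h2) (fun h => h1 (congrArg Subtype.val h))
  rcases hg with hg | hg
  · refine ⟨(g : Perm GolayPt)⁻¹, inv_mem g.2, fun q => ?_⟩
    have h3 : g • q ∈ fin octMask ↔ q ∈ (g : Perm GolayPt)⁻¹ • fin octMask := by
      rw [Finset.mem_inv_smul_finset_iff]
      exact Iff.rfl
    rw [← h3, ← P1_fix_iff, ← hg, mul_smul, mul_smul, inv_smul_smul]
    constructor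
    · intro h
      have h4 : (⟨u, hu⟩ : M24) • q = q := h
      rw [h4]
    · intro h
      exact MulAction.injective g h
  · exfalso
    apply P2_fix_ne (g • p)
    rw [← hg, mul_smul, mul_smul, inv_smul_smul]
    have h4 : (⟨u, hu⟩ : M24) • p = p := hp
    rw [h4]

/-- An element fixing all points outside an octad is trivial. -/
theorem eq_one_of_fix_compl {g y : Perm GolayPt} (hg : g ∈ M24) (hy : y ∈ M24)
    (h : ∀ q, q ∉ g • fin octMask → y q = q) : y = 1 := by
  have ho : g • fin octMask' ∈ octads := (GolayPerm.smul_mem_octads hg).2 octMask'_mem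
  have hm : ∀ (m : ℕ) (q : GolayPt), g q ∈ g • fin m ↔ q ∈ fin m := fun m q =>
    Finset.smul_mem_smul_finset_iff g
  refine Cfsg.Agent.SporadicStructure.M24Frame.eq_one_of_fix_frame hy ho (Finset.Subset.refl _) ?_ ?_
    (p := g (pt 2)) ?_ ?_
  · rw [octad_card ho]
    norm_num
  · intro z hz
    apply h
    obtain ⟨q, hq, rfl⟩ := Finset.mem_smul_finset.1 hz
    intro h1
    exact disj q hq ((hm _ _).1 h1)
  · intro h1
    exact pt_two.2 ((hm _ _).1 h1)
  · apply h
    intro h1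
    exact pt_two.1 ((hm _ _).1 h1)

section Sub

variable (H : Subgroup (Perm GolayPt)) (o : Finset GolayPt)

/-- The pointwise stabiliser of `o` in `H`. -/
def Q : Subgroup H where
  carrier := {x | ∀ p ∈ o, (x : Perm GolayPt) p = p}
  one_mem' := fun _ _ => rfl
  mul_mem' := fun {a b} ha hb p hp => by
    show (a : Perm GolayPt) ((b : Perm GolayPt) p) = p
    rw [hb p hp, ha p hp]
  inv_mem' := fun {a} ha p hp => by
    show (a : Perm GolayPt)⁻¹ p = p
    rw [Perm.inv_eq_iff_eq, ha p hp]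

variable {H o}

variable (hH : ∀ g : Perm GolayPt, g ∈ M24 → (∀ p ∈ o, g p = p) → g ∈ H) (hH' : H ≤ M24)
  (ho : o ∈ octads)

include hH' ho in
theorem Q_free {x : H} (hx : x ∈ Q H o) {p : GolayPt} (hp : p ∉ o)
    (h : (x : Perm GolayPt) p = p) : x = 1 := by
  apply Subtype.ext
  exact Cfsg.Agent.SporadicStructure.M24Frame.eq_one_of_fix_frame (hH' x.2) ho
    (Finset.Subset.refl _) (by rw [octad_card ho]; norm_num) (fun z hz => hx z hz) hp h

include hH ho in
theorem Q_trans {p q : GolayPt} (hp : p ∉ o) (hq : q ∉ o) :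
    ∃ x ∈ Q H o, (x : Perm GolayPt) p = q := by
  obtain ⟨g, hg, h1, h2⟩ :=
    Cfsg.Agent.SporadicStructure.M24Frame.exists_fix_octad_map ho hp hq
  exact ⟨⟨g, hH g hg h1⟩, h1, h2⟩

theorem Q_maps {x : H} (hx : x ∈ Q H o) {p : GolayPt} (hp : p ∉ o) : (x : Perm GolayPt) p ∉ o := by
  intro h
  have h1 := hx _ h
  exact hp (by rwa [(x : Perm GolayPt).injective h1] at h)

include hH hH' ho in
theorem card_Q : Nat.card (Q H o) = 16 := by
  obtain ⟨p, hp⟩ : ∃ p, p ∉ o := by
    by_contra hno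
    push Not at hno
    have h1 : o = Finset.univ := Finset.eq_univ_iff_forall.mpr hno
    have h2 := octad_card ho
    rw [h1] at h2
    exact absurd h2 (by decide)
  have e : Q H o ≃ {q // q ∈ oᶜ} := by
    refine Equiv.ofBijective (fun x => ⟨(x : Perm GolayPt) p, Finset.mem_compl.2
      (Q_maps x.2 hp)⟩) ⟨?_, ?_⟩
    · intro x y hxy
      have h1 : ((x : H) : Perm GolayPt) p = ((y : H) : Perm GolayPt) p :=
        congrArg Subtype.val hxy
      have h2 : (y : H)⁻¹ * (x : H) = 1 := by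
        refine Q_free hH' ho (mul_mem (inv_mem y.2) x.2) hp ?_
        show ((y : H) : Perm GolayPt)⁻¹ (((x : H) : Perm GolayPt) p) = p
        rw [h1, Perm.inv_eq_iff_eq]
      apply Subtype.ext
      rw [inv_mul_eq_one] at h2
      exact h2.symm
    · rintro ⟨q, hq⟩
      obtain ⟨x, hx, h1⟩ := Q_trans hH ho hp (Finset.mem_compl.1 hq)
      exact ⟨⟨x, hx⟩, Subtype.ext h1⟩
  rw [Nat.card_congr e, Nat.card_eq_fintype_card, Fintype.card_coe, Finset.card_compl,
    octad_card ho]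
  decide

include hH hH' ho in
/-- An element of odd order which commutes with `Q` and preserves `o` fixes all points outside
`o`. -/
theorem fix_compl {y : H} (hyo : ∀ p, p ∉ o → (y : Perm GolayPt) p ∉ o)
    (hy : ∀ x ∈ Q H o, y * x = x * y) (hodd : Odd (orderOf y)) {p : GolayPt} (hp : p ∉ o) :
    (y : Perm GolayPt) p = p := by
  obtain ⟨x, hx, hxp⟩ := Q_trans hH ho hp (hyo p hp)
  have hpow : ∀ n : ℕ, ((y ^ n : H) : Perm GolayPt) p = ((x ^ n : H) : Perm GolayPt) p := by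
    intro n
    induction n with
    | zero => rfl
    | succ n ih =>
      have h1 : y ^ (n + 1) = y * y ^ n := pow_succ' y n
      have h2 : x ^ (n + 1) = x ^ n * x := pow_succ x n
      have h3 : y * x ^ n = x ^ n * y := hy _ (pow_mem hx n)
      rw [h1, h2]
      show (y : Perm GolayPt) (((y ^ n : H) : Perm GolayPt) p) =
        ((x ^ n : H) : Perm GolayPt) ((x : Perm GolayPt) p)
      rw [ih, hxp]
      exact congrArg (fun z : H => (z : Perm GolayPt) p) h3
  have h1 := hpow (orderOf y)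
  rw [pow_orderOf_eq_one] at h1
  have h2 : x ^ orderOf y = 1 := Q_free hH' ho (pow_mem hx _) hp h1.symm
  have h3 : orderOf x ∣ orderOf y := orderOf_dvd_of_pow_eq_one h2
  have h4 : orderOf x ∣ 16 := by
    rw [← card_Q hH hH' ho]
    exact Subgroup.orderOf_dvd_natCard _ hx
  have h5 : orderOf x = 1 := by
    have h6 : Nat.Coprime (orderOf y) 16 := by
      rw [show 16 = 2 ^ 4 by norm_num]
      exact Nat.Coprime.pow_right 4 hodd.coprime_two_right
    exact Nat.eq_one_of_dvd_coprimes h6 h3 h4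
  rw [orderOf_eq_one_iff] at h5
  rw [← hxp, h5]
  rfl

end Sub

/-- The criterion for the pointwise stabiliser of a subset `Z` of an octad. -/
theorem main (H : Subgroup (Perm GolayPt)) (Z : Set GolayPt) (hne : Z.Nonempty)
    (hH : ∀ g, g ∈ H ↔ g ∈ M24 ∧ ∀ z ∈ Z, g z = z)
    (hZ : ∃ o ∈ octads, ∀ z ∈ Z, z ∈ o) :
    Even (Nat.card H) ∧ ∀ t : H, orderOf t = 2 → Good t := by
  have hH' : H ≤ M24 := fun g hg => ((hH g).1 hg).1
  have hK : ∀ o : Finset GolayPt, (∀ z ∈ Z, z ∈ o) → ∀ g : Perm GolayPt, g ∈ M24 →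
      (∀ p ∈ o, g p = p) → g ∈ H := fun o hZo g hg h =>
    (hH g).2 ⟨hg, fun z hz => h z (hZo z hz)⟩
  constructor
  · obtain ⟨o, ho, hZo⟩ := hZ
    have h1 : Nat.card (Q H o) ∣ Nat.card H := Subgroup.card_subgroup_dvd_card _
    rw [card_Q (hK o hZo) hH' ho] at h1
    exact even_iff_two_dvd.2 (Dvd.dvd.trans (by norm_num) h1)
  · intro t ht
    have htt : (t : Perm GolayPt) * t = 1 := by
      have h1 := pow_orderOf_eq_one t
      rw [ht, pow_two] at h1
      exact congrArg Subtype.val h1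
    have ht1 : (t : Perm GolayPt) ≠ 1 := by
      intro h
      have h1 : t = 1 := Subtype.ext h
      rw [h1, orderOf_one] at ht
      exact absurd ht (by norm_num)
    obtain ⟨z, hz⟩ := hne
    obtain ⟨g, hg, hfix⟩ := fix_octad (hH' t.2) htt ht1 (((hH t).1 t.2).2 z hz)
    have ho : g • fin octMask ∈ octads := (GolayPerm.smul_mem_octads hg).2 octMask_mem
    have hZo : ∀ z ∈ Z, z ∈ g • fin octMask := fun z hz => (hfix z).1 (((hH t).1 t.2).2 z hz)
    have hcomm : ∀ c : H, c * t = t * c → ∀ p, (c : Perm GolayPt) p ∈ g • fin octMask ↔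
        p ∈ g • fin octMask := by
      intro c hc p
      rw [← hfix, ← hfix]
      have h1 : (t : Perm GolayPt) ((c : Perm GolayPt) p) = (c : Perm GolayPt) ((t : Perm GolayPt) p) :=
        congrArg (fun w : H => (w : Perm GolayPt) p) hc.symm
      rw [h1]
      exact ⟨fun h => (c : Perm GolayPt).injective h, fun h => by rw [h]⟩
    refine ⟨Q H (g • fin octMask), ?_, ?_, ?_⟩
    · exact IsPGroup.of_card (n := 4) (by rw [card_Q (hK _ hZo) hH' ho]; norm_num)
    · intro c hc x hx p hp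
      show (c : Perm GolayPt) ((x : Perm GolayPt) ((c : Perm GolayPt)⁻¹ p)) = p
      have h1 : (c : Perm GolayPt)⁻¹ p ∈ g • fin octMask := by
        rw [← hcomm c hc]
        have h2 : (c : Perm GolayPt) ((c : Perm GolayPt)⁻¹ p) = p := Equiv.apply_symm_apply _ _
        rw [h2]
        exact hp
      rw [hx _ h1]
      exact Equiv.apply_symm_apply _ _
    · intro y hyt hyQ hodd
      apply Subtype.ext
      apply eq_one_of_fix_compl hg (hH' y.2)
      intro q hq
      exact fix_compl (hK _ hZo) hH' ho (fun p hp h => hp ((hcomm y hyt p).1 h)) hyQ hodd hq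

theorem M23_good : Even (Nat.card Spor.M23) ∧ ∀ t : Spor.M23, orderOf t = 2 → Good t := by
  refine main Spor.M23 {none} (Set.singleton_nonempty _) ?_ ?_
  · intro g
    constructor
    · rintro ⟨h1, h2⟩
      refine ⟨h1, ?_⟩
      rintro z rfl
      exact h2
    · rintro ⟨h1, h2⟩
      exact ⟨h1, h2 none rfl⟩
  · refine ⟨_, Cfsg.Agent.SporadicStructure.M24Frame.stdOctad_mem, ?_⟩
    rintro z rfl
    decide +kernel

theorem M22_good : Even (Nat.card Spor.M22) ∧ ∀ t : Spor.M22, orderOf t = 2 → Good t := by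
  refine main Spor.M22 {none, some 0} (Set.insert_nonempty _ _) ?_ ?_
  · intro g
    constructor
    · rintro ⟨⟨h1, h2⟩, h3⟩
      refine ⟨h1, ?_⟩
      rintro z (rfl | rfl)
      · exact h2
      · exact h3
    · rintro ⟨h1, h2⟩
      exact ⟨⟨h1, h2 none (Or.inl rfl)⟩, h2 (some 0) (Or.inr rfl)⟩
  · refine ⟨_, Cfsg.Agent.SporadicStructure.M24Frame.stdOctad_mem, ?_⟩
    rintro z (rfl | rfl)
    · decide +kernel
    · decide +kernel

universe u

/-- The row `m22` of `RowsTwo`. -/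
theorem m22 (G : Type u) [Group G] [Finite G] (h : Spor.IsoM22 G) : IsCharacteristicTwoType G := by
  obtain ⟨e⟩ := h
  exact isCharacteristicTwoType_of_equiv e.symm M22_good.1 M22_good.2

/-- The row `m23` of `RowsTwo`. -/
theorem m23 (G : Type u) [Group G] [Finite G] (h : Spor.IsoM23 G) : IsCharacteristicTwoType G := by
  obtain ⟨e⟩ := h
  exact isCharacteristicTwoType_of_equiv e.symm M23_good.1 M23_good.2

end Cfsg.Agent.OddHalf.Small.M2223

end

-- merged: Cfsg.Agent.Sigma.BabyB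
section

/-!
# `3 ∈ σ(B)` (helper30)

The centralizer `2^{1+22}.Co₂` of a 2-central involution of the Baby Monster has 3-rank at least four: `Co₂` contains
`PSU₆(2)` (S1577).
-/

set_option autoImplicit false

namespace Cfsg.Agent.Sigma.BabyB

open Cfsg Cfsg.Agent.Sigma.Tools
open Cfsg.Agent.BabyM Cfsg.Agent.BabyM.Model Cfsg.Agent.BabyU.ClosModel Cfsg.Agent.BabyU.ClosLane
open Cfsg.Agent.Leech.TransPair

/-- the 3-rank of the stabilizer of a minimal vector, from a second minimal vector -/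
theorem rank_stab {v w : leechLattice} (hv : sqNorm (v : GolayPt → ℤ) = 32) (hw : sqNorm (w : GolayPt → ℤ) = 32)
    (hd : dotInt (v : GolayPt → ℤ) (w : GolayPt → ℤ) = -16) :
    PRankAtLeast 3 4 ↥(MulAction.stabilizer ↥Co0 v) := by
  let F := GaloisField 2 2
  let _i : Fintype F := Fintype.ofFinite F
  have hF : Fintype.card F = 4 := by
    rw [← Nat.card_eq_fintype_card]
    exact GaloisField.card 2 2 (by norm_num)
  obtain ⟨e⟩ := Cfsg.Agent.S1577.result v w hv hw hd F hF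
  have h1 : PRankAtLeast 3 4 (PSU 6 F 2) := USix.rank (by rw [hF]; norm_num)
  have h2 := pRankAtLeast_congr e.symm h1
  exact pRankAtLeast_of_injective (Subgroup.inclusion inf_le_left) (Subgroup.inclusion_injective _) h2

/-- the group `K₀ ≅ Co₂` of the model -/
theorem rank_K₀ : PRankAtLeast 3 4 GroupInst.K₀ := by
  refine rank_stab (w := v0 (some 0) (some 1) (by decide)) (sqNorm_v0 _) (sqNorm_v0 _) ?_
  rw [dot_v0]
  have h1 : (v0 (some 0) (some 1) (by decide) : GolayPt → ℤ) none = 0 := v0_other _ (by decide) (by decide)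
  have h2 : (v0 (some 0) (some 1) (by decide) : GolayPt → ℤ) (some 0) = 4 := v0_left _
  rw [h1, h2]
  norm_num

theorem card_PP : Nat.card (PP Inst.M) = 2 ^ 23 := by
  rw [← A.grp.Q_card]
  exact Nat.card_congr (Subgroup.subgroupOfEquivOfLe (A.grp.Q_le.trans A.C_le_G)).toEquiv

/-- **`Wit` for the model.** -/
theorem wit_model : Wit 3 Inst.M.G := by
  have := A.finite_G
  have hL := Cfsg.Agent.KFacts.Baby.Inst.large A
  obtain ⟨π, hπs, hπ⟩ := Cfsg.Agent.KFacts.Baby.Inst.quot A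
  have hle : PP Inst.M ≤ Subgroup.centralizer ({zz A} : Set Inst.M.G) := fun x hx =>
    Subgroup.mem_centralizer_singleton_iff.2 (hL.comm_z x hx)
  have h1 : π.ker.map (Subgroup.centralizer ({zz A} : Set Inst.M.G)).subtype = PP Inst.M := by
    ext x
    constructor
    · rintro ⟨y, hy, rfl⟩
      exact (hπ y).1 hy
    · intro hx
      exact ⟨⟨x, hle hx⟩, (hπ ⟨x, hle hx⟩).2 hx, rfl⟩
  have h2 : Nat.card ↥π.ker = 2 ^ 23 := by
    rw [← card_PP, ← h1, Subgroup.card_map_of_injective (Subgroup.subtype_injective _)]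
  refine wit_of_map Nat.prime_three hL.z_ne (by rw [pow_two, hL.z_sq]) π hπs ?_ rank_K₀ ?_
  · rw [h2]
    norm_num
  · have h3 := Cfsg.Agent.KFacts.Baby.Inst.odd_index A
    intro h4
    have h5 : 2 ∣ (Subgroup.centralizer ({zz A} : Set Inst.M.G)).index := dvd_trans (by norm_num) h4
    rw [← even_iff_two_dvd] at h5
    exact (Nat.not_even_iff_odd.2 h3) h5

/-- **`Wit` for the Baby Monster.** -/
theorem wit {G : Type*} [Group G] [IsSimpleGroup G] (h : Spor.IsoB G) : Wit 3 G := by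
  have := A.finite_G
  obtain ⟨e⟩ := Cfsg.Agent.KFacts.Baby.Sheet.exists_iso_of_isoB h
  exact wit_model.congr e

/-- **`3 ∈ σ(B)`.** -/
theorem mem_sigma {G : Type*} [Group G] [Finite G] [IsSimpleGroup G] (h : Spor.IsoB G) : 3 ∈ sigmaSet G :=
  (wit h).mem_sigma Nat.prime_three (by norm_num)

end Cfsg.Agent.Sigma.BabyB

end

-- merged: Cfsg.Agent.Sigma.BabyRow
section

/-!
# The row `SigRows.b` of S1804 (helper30)
-/

set_option autoImplicit false

namespace Cfsg.Agent.Sigma.BabyRow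

open Cfsg Cfsg.Agent.Sigma.Frame

universe u

/-- **The row of the Baby Monster.** -/
theorem b : SigNe.{u} (fun X _ => Spor.IsoB X) := by
  intro G _ _ _ h h0
  have h1 := BabyB.mem_sigma h
  rw [h0] at h1
  exact h1

end Cfsg.Agent.Sigma.BabyRow

end

-- merged: Cfsg.Agent.UniqLoc.Rgd
section

/-!
# S1808: groups with a root group datum of characteristic 2

* `nun_of_rgd` : rank at least 2, `NUN`;
* `ti_of_rgd`  : rank 1, the Sylow 2-subgroups intersect trivially;
* `se_of_hasFilt` : `SE G`.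
-/

set_option autoImplicit false
set_option linter.unusedSectionVars false

namespace Cfsg.Agent.UniqLoc.Rgd

open CoxeterSystem Cfsg Cfsg.Agent.ChevalleyStructure.CoxeterGeom Cfsg.Agent.Tits.Roots
  Cfsg.Agent.Nodes.Reps Cfsg.Agent.Nodes.BNOf Cfsg.Agent.Nodes.StabComb
  Cfsg.Agent.Nodes.Bruhat Cfsg.Agent.Nodes.OppDec Cfsg.Agent.Nodes.LeviDec Cfsg.Agent.Nodes.NormX
  Cfsg.Agent.KFacts.RgdPar Cfsg.Agent.KFacts.RgdCent
  Cfsg.Agent.KFacts.RgdEx Cfsg.Agent.KFacts.RgdVJ Cfsg.Agent.KFacts.RgdCharP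
  Cfsg.Agent.KFacts.RgdBorelTits Cfsg.Agent.KFacts.RgdFilt
open Cfsg.Agent.QTUnique

section Data

variable {G : Type*} [Group G] [Finite G] {l : ℕ} {M : CoxeterMatrix (Fin l)} {A : Fin l → Fin l → ℤ}
  {h : IsCartan M A} {T : Subgroup G} {n : Fin l → G} {X : (Fin l → ℤ) → Subgroup G}

omit [Finite G] in
theorem VJ_empty : VJ M.toCoxeterSystem h X ∅ = RGD.Sup X (RGD.Pos M.toCoxeterSystem h) := by
  unfold VJ
  congr 1
  ext x
  constructor
  · rintro ⟨h1, h2, -⟩
    exact ⟨h1, h2⟩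
  · rintro ⟨h1, h2⟩
    refine ⟨h1, h2, ?_⟩
    by_contra hcon
    push Not at hcon
    refine h1.ne_zero (funext fun k => ?_)
    have h3 := hcon k (Set.notMem_empty k)
    have h4 := h2 k
    exact le_antisymm h3 h4

/-- the Sylow 2-subgroup `U` -/
theorem exists_sylow (R : RGD M.toCoxeterSystem h 2 T n X) [Finite M.Group]
    (hGG : GG M.toCoxeterSystem h T X = ⊤) :
    ∃ S : Sylow 2 G, (S : Subgroup G) = RGD.Sup X (RGD.Pos M.toCoxeterSystem h) := by
  have h2 : Fact (Nat.Prime 2) := ⟨Nat.prime_two⟩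
  have h1 := Cfsg.Agent.KFacts.RgdSyl.not_dvd_relIndex R
  rw [hGG, Subgroup.relIndex_top_right] at h1
  exact ⟨R.isPGroup_Upos.toSylow h1, rfl⟩

theorem PJ_eq_normalizer (R : RGD M.toCoxeterSystem h 2 T n X) [Finite M.Group]
    (hGG : GG M.toCoxeterSystem h T X = ⊤) (J : Set (Fin l)) :
    PJ M.toCoxeterSystem h T X J = Subgroup.normalizer (VJ M.toCoxeterSystem h X J : Set G) := by
  have h3 := normalizer_VJ R J
  rw [hGG, inf_top_eq] at h3
  exact h3.symm

theorem PJ_mono' (R : RGD M.toCoxeterSystem h 2 T n X) [Finite M.Group]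
    (hGG : GG M.toCoxeterSystem h T X = ⊤) (J : Set (Fin l)) :
    Subgroup.normalizer ((RGD.Sup X (RGD.Pos M.toCoxeterSystem h) : Subgroup G) : Set G) ≤
      PJ M.toCoxeterSystem h T X J := by
  rw [← VJ_empty, ← PJ_eq_normalizer R hGG, PJ_empty R]
  exact B_le_PJ

/-- **Rank at least 2.** -/
theorem nun_of_rgd [IsSimpleGroup G] (hna : ¬ IsMulCommutative G) (R : RGD M.toCoxeterSystem h 2 T n X)
    [Finite M.Group] (hGG : GG M.toCoxeterSystem h T X = ⊤) (hl : 2 ≤ l) : NUN G := by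
  obtain ⟨S, hS⟩ := exists_sylow R hGG
  refine nun_of_gen hna S fun Y hY => ?_
  have h1 : ∀ i, PJ M.toCoxeterSystem h T X {i} ≤ Y := by
    intro i
    rw [PJ_eq_normalizer R hGG]
    refine hY _ (isPGroup_VJ R _) ?_ ?_
    · -- a simple root outside `{i}`
      obtain ⟨k, hk⟩ : ∃ k : Fin l, k ≠ i := by
        have : Nontrivial (Fin l) := Fin.nontrivial_iff_two_le.2 hl
        exact exists_ne i
      have h3 : X (sr k) ≤ VJ M.toCoxeterSystem h X {i} := RGD.le_Sup (sr_mem_NotJ (by simpa using hk))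
      intro h4
      exact X_ne_bot R (isRoot_sr M.toCoxeterSystem h k) (le_bot_iff.1 (h4 ▸ h3))
    · rw [hS, ← PJ_eq_normalizer R hGG]
      exact PJ_mono' R hGG _
  have h0 : Nonempty (Fin l) := ⟨⟨0, by omega⟩⟩
  obtain ⟨i0⟩ := h0
  have hB : RGD.B M.toCoxeterSystem h T X ≤ Y := B_le_PJ.trans (h1 i0)
  have h2 := inf_eq_PJ R hB
  have h3 : {i | n i ∈ Y} = Set.univ :=
    Set.eq_univ_of_forall fun i => h1 i (LJ_le_PJ (n_mem_LJ R (Set.mem_singleton i)))
  rw [h3, hGG, inf_top_eq] at h2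
  rw [h2, eq_top_iff, ← hGG, ← LJ_univ]
  exact LJ_le_PJ

/-- **Rank 1**: the Sylow 2-subgroups intersect trivially. -/
theorem ti_of_rgd (R : RGD M.toCoxeterSystem h 2 T n X)
    [Finite M.Group] (hGG : GG M.toCoxeterSystem h T X = ⊤) (hBT : BT M.toCoxeterSystem h 2 T X) (hl : l ≤ 1)
    (P Q : Sylow 2 G) (x : G) (hxP : x ∈ P) (hxQ : x ∈ Q) (hx : x ≠ 1) : P = Q := by
  have h2 : Fact (Nat.Prime 2) := ⟨Nat.prime_two⟩
  obtain ⟨S, hS⟩ := exists_sylow R hGG
  -- every nontrivial 2-subgroup `K` lies in a Sylow subgroup whose normalizer contains `N(K)`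
  have key : ∀ K : Subgroup G, IsPGroup 2 K → K ≠ ⊥ → ∃ V : Sylow 2 G, K ≤ V ∧
      Subgroup.normalizer (K : Set G) ≤ Subgroup.normalizer ((V : Subgroup G) : Set G) := by
    intro K hK hK1
    obtain ⟨g, J, hJ, h3, h4⟩ := hBT K hK hK1
    have hJ0 : J = ∅ := by
      rw [Set.eq_empty_iff_forall_notMem]
      intro i hi
      refine hJ (Set.eq_univ_of_forall fun k => ?_)
      have : k = i := by
        apply Fin.ext
        have := k.2
        have := i.2
        omega
      rwa [this]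
    rw [hJ0, PJ_eq_normalizer R hGG] at h4
    rw [hJ0] at h3
    rw [VJ_empty, ← hS] at h3 h4
    refine ⟨g • S, h3, ?_⟩
    rw [← normalizer_cj] at h4
    exact h4
  -- 2-subgroups of `N(V)` lie in `V`
  have hle : ∀ (V : Sylow 2 G) (K : Subgroup G), IsPGroup 2 K →
      K ≤ Subgroup.normalizer ((V : Subgroup G) : Set G) → K ≤ V := by
    intro V K hK hKV
    have h3 : IsPGroup 2 ((V : Subgroup G) ⊔ K : Subgroup G) :=
      IsPGroup.to_sup_of_normal_left' V.isPGroup' hK hKV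
    have h4 := V.is_maximal' h3 le_sup_left
    rw [← h4]
    exact le_sup_right
  -- a maximal intersection
  by_contra hPQ
  have hfin : (Set.univ : Set (Sylow 2 G × Sylow 2 G)).Finite := Set.toFinite _
  obtain ⟨⟨P', Q'⟩, ⟨hne, y, hyP, hyQ, hy⟩, hmax⟩ :=
    Set.exists_max_image {r : Sylow 2 G × Sylow 2 G | r.1 ≠ r.2 ∧ ∃ y, y ∈ r.1 ∧ y ∈ r.2 ∧ y ≠ 1}
      (fun r => Nat.card ↥((r.1 : Subgroup G) ⊓ (r.2 : Subgroup G))) (Set.toFinite _)
      ⟨(P, Q), hPQ, x, hxP, hxQ, hx⟩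
  set D : Subgroup G := (P' : Subgroup G) ⊓ (Q' : Subgroup G) with hD
  have hyD : y ∈ D := ⟨hyP, hyQ⟩
  have hDp : IsPGroup 2 D := P'.isPGroup'.to_le inf_le_left
  have hD1 : D ≠ ⊥ := fun h3 => hy (by rw [h3] at hyD; exact Subgroup.mem_bot.1 hyD)
  obtain ⟨V, hV1, hV2⟩ := key D hDp hD1
  have hstep : ∀ P'' : Sylow 2 G, D ≤ P'' → D ≠ (P'' : Subgroup G) → P'' = V := by
    intro P'' hDP hDne
    by_contra hcon
    -- `N_{P''}(D) > D`
    have h5 : D < (P'' : Subgroup G) ⊓ Subgroup.normalizer (D : Set G) := by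
      have h7 : (D.subgroupOf (P'' : Subgroup G)) < Subgroup.normalizer ((D.subgroupOf (P'' : Subgroup G) : Subgroup ↥(P'' : Subgroup G)) : Set ↥(P'' : Subgroup G)) := by
        have h8 : Group.IsNilpotent ↥(P'' : Subgroup G) := P''.isPGroup'.isNilpotent
        refine Group.normalizerCondition_of_isNilpotent _ (lt_top_iff_ne_top.2 fun h9 => hDne ?_)
        exact le_antisymm hDP (Subgroup.subgroupOf_eq_top.1 h9)
      obtain ⟨a, ha1, ha2⟩ := SetLike.exists_of_lt h7
      refine lt_of_le_of_ne (le_inf hDP Subgroup.le_normalizer) fun h9 => ha2 ?_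
      rw [Subgroup.mem_subgroupOf, h9]
      refine ⟨a.2, ?_⟩
      show (a : G) ∈ Subgroup.normalizer (D : Set G)
      rw [Subgroup.mem_normalizer_iff] at ha1 ⊢
      intro b
      constructor
      · intro hb
        exact (ha1 ⟨b, hDP hb⟩).1 hb
      · intro hb
        have hb' : b ∈ (P'' : Subgroup G) := by
          have h10 := (P'' : Subgroup G).mul_mem ((P'' : Subgroup G).mul_mem ((P'' : Subgroup G).inv_mem a.2) (hDP hb)) a.2
          have h11 : (a : G)⁻¹ * ((a : G) * b * (a : G)⁻¹) * (a : G) = b := by group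
          rwa [h11] at h10
        exact (ha1 ⟨b, hb'⟩).2 hb
    have h6 : (P'' : Subgroup G) ⊓ Subgroup.normalizer (D : Set G) ≤ V :=
      hle V _ (P''.isPGroup'.to_le inf_le_left) (inf_le_right.trans hV2)
    have h7 := hmax (P'', V) ⟨hcon, y, hDP hyD, hV1 hyD, hy⟩
    have h8 : Nat.card D < Nat.card ↥((P'' : Subgroup G) ⊓ (V : Subgroup G)) := by
      have h9 : D < (P'' : Subgroup G) ⊓ (V : Subgroup G) :=
        lt_of_lt_of_le h5 (le_inf inf_le_left h6)
      refine lt_of_le_of_ne (Subgroup.card_le_of_le h9.le) fun h10 => h9.ne ?_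
      exact Subgroup.eq_of_le_of_card_ge h9.le h10.ge
    exact absurd h7 (not_le.2 h8)
  have hcard : Nat.card P' = Nat.card Q' := by
    rw [Sylow.card_eq_multiplicity, Sylow.card_eq_multiplicity]
  have hneP : D ≠ (P' : Subgroup G) := by
    intro h3
    refine hne (Sylow.ext (Subgroup.eq_of_le_of_card_ge ?_ hcard.ge))
    rw [← h3]
    exact inf_le_right
  have hneQ : D ≠ (Q' : Subgroup G) := by
    intro h3
    refine hne (Sylow.ext (Subgroup.eq_of_le_of_card_ge ?_ hcard.le)).symm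
    rw [← h3]
    exact inf_le_left
  exact hne ((hstep P' inf_le_left hneP).trans (hstep Q' inf_le_right hneQ).symm)

end Data

/-- **Groups with a filtered root group datum of characteristic 2.** -/
theorem se_of_hasFilt {G : Type*} [Group G] [Finite G] [IsSimpleGroup G] (hna : ¬ IsMulCommutative G)
    (hG : HasFilt 2 G) : SE G := by
  have h2 : Fact (Nat.Prime 2) := ⟨Nat.prime_two⟩
  have hc : ∃ a b : G, a * b ≠ b * a := by
    by_contra hcon
    push Not at hcon
    exact hna ⟨⟨hcon⟩⟩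
  obtain ⟨l, M, A, h, T, n, X, R, hW, hBT, hGG, hN, hconn, hX, hl⟩ := hG.data hc
  rcases Nat.lt_or_ge l 2 with h1 | h1
  · exact se_of_ti hna (ti_of_rgd R hGG hBT (by omega))
  · exact (nun_of_rgd hna R hGG h1).se

end Cfsg.Agent.UniqLoc.Rgd

end

-- merged: Cfsg.Agent.UniqLoc.BN
section

/-!
# S1808: groups with a split (B, N)-pair of characteristic 2; `²F₄(q)`

* `nun_of_bn` : `NUN` for a group with a (B, N)-pair, a Sylow 2-subgroup `U` normal in `B` and a nontrivial subgroup of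
  `U` normal in `P_s`, for every `s ∈ S`;
* `nun_iso2F4` : `²F₄(q)`.
-/

set_option autoImplicit false

namespace Cfsg.Agent.UniqLoc.BN

open Cfsg.Agent.Schreier Cfsg.Agent.Schreier.BNSch

theorem nun_of_bn {K : Type*} [Group K] [Finite K] [IsSimpleGroup K] (hna : ¬ IsMulCommutative K)
    (P : Cfsg.BNPair K) (U : Sylow 2 K) (hS : P.S.Nonempty)
    (hUB : (U : Subgroup K) ≤ P.B) (hBU : ∀ b ∈ P.B, ∀ u ∈ (U : Subgroup K), b * u * b⁻¹ ∈ (U : Subgroup K))
    (hnode : ∀ s ∈ P.S, ∃ V : Subgroup K, Node P (U : Subgroup K) s V ∧ V ≠ ⊥) : NUN K := by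
  have hB : Subgroup.normalizer ((U : Subgroup K) : Set K) = P.B := by
    refine normalizer_eq P _ hUB hBU fun s hs => ?_
    obtain ⟨V, hV, -⟩ := hnode s hs
    obtain ⟨u, hu, huV⟩ := hV.ne
    exact ⟨u, hu, fun h => huV (hV.stab u hu h)⟩
  refine nun_of_gen hna U fun Y hY => ?_
  have h1 : ∀ s ∈ P.S, P.parabolic {s} ≤ Y := by
    intro s hs
    obtain ⟨V, hV, hV1⟩ := hnode s hs
    have h2 : P.parabolic {s} ≤ Subgroup.normalizer (V : Set K) := by
      intro g hg
      rw [Subgroup.mem_normalizer_iff]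
      intro v
      constructor
      · intro hv
        have h3 := hV.conj_mem (inv_mem hg) hv
        rwa [inv_inv] at h3
      · intro hv
        have h3 := hV.conj_mem hg hv
        have e : g⁻¹ * (g * v * g⁻¹) * g = v := by group
        rwa [e] at h3
    refine h2.trans (hY V (U.isPGroup'.to_le hV.le) hV1 ?_)
    rw [hB]
    exact (B_le_parabolic P _).trans h2
  rw [eq_top_iff, ← sup_closure_eq_top P]
  obtain ⟨s, hs⟩ := hS
  refine sup_le ((B_le_parabolic P _).trans (h1 s hs)) ((Subgroup.closure_le _).2 fun t ht => ?_)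
  exact h1 t ht (mem_parabolic_self P t)

/-- The same, `U` not assumed to be a Sylow subgroup. -/
theorem nun_of_bn' {K : Type*} [Group K] [Finite K] [IsSimpleGroup K] (hna : ¬ IsMulCommutative K)
    (P : Cfsg.BNPair K) (U : Subgroup K) (hUp : IsPGroup 2 U) (hS : P.S.Nonempty)
    (hUB : U ≤ P.B) (hBU : ∀ b ∈ P.B, ∀ u ∈ U, b * u * b⁻¹ ∈ U)
    (hUN : ∀ b ∈ P.B, ∃ u ∈ U, u⁻¹ * b ∈ P.N)
    (m : ℕ) (hm : ¬ 2 ∣ m) (hH : ∀ h ∈ P.B, h ∈ P.N → h ^ m = 1)
    (hnode : ∀ s ∈ P.S, ∃ V : Subgroup K, Node P U s V ∧ V ≠ ⊥) : NUN K := by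
  have h2 : Fact (Nat.Prime 2) := ⟨Nat.prime_two⟩
  have hB : Subgroup.normalizer (U : Set K) = P.B := by
    refine normalizer_eq P _ hUB hBU fun s hs => ?_
    obtain ⟨V, hV, -⟩ := hnode s hs
    obtain ⟨u, hu, huV⟩ := hV.ne
    exact ⟨u, hu, fun h => huV (hV.stab u hu h)⟩
  have hcop : ¬ 2 ∣ U.relIndex (Subgroup.normalizer (U : Set K)) := by
    rw [hB]
    intro h
    have hn : (U.subgroupOf P.B).Normal := by
      constructor
      intro u hu b
      rw [Subgroup.mem_subgroupOf] at hu ⊢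
      exact hBU b b.2 u hu
    have h1 : 2 ∣ Nat.card (P.B ⧸ U.subgroupOf P.B) := h
    obtain ⟨x, hx⟩ := exists_prime_orderOf_dvd_card' 2 h1
    induction x using QuotientGroup.induction_on with
    | H b =>
      obtain ⟨u, hu, hun⟩ := hUN b b.2
      have h2 : u⁻¹ * (b : K) ∈ P.B := mul_mem (inv_mem (hUB hu)) b.2
      have h3 : (QuotientGroup.mk b : P.B ⧸ U.subgroupOf P.B) = QuotientGroup.mk (⟨u⁻¹ * b, h2⟩ : P.B) := by
        rw [QuotientGroup.eq, Subgroup.mem_subgroupOf]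
        show (b : K)⁻¹ * (u⁻¹ * b) ∈ U
        have h4 := hBU (b : K)⁻¹ (inv_mem b.2) _ (inv_mem hu)
        rw [inv_inv] at h4
        rwa [← mul_assoc]
      have h4 : (QuotientGroup.mk b : P.B ⧸ U.subgroupOf P.B) ^ m = 1 := by
        rw [h3, ← QuotientGroup.mk_pow]
        have h5 : (⟨u⁻¹ * b, h2⟩ : P.B) ^ m = 1 := by
          apply Subtype.ext
          exact hH _ h2 hun
        rw [h5]
        rfl
      exact hm (hx ▸ orderOf_dvd_of_pow_eq_one h4)
  obtain ⟨S, rfl⟩ := BNUse.exists_sylow U hUp hcop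
  exact nun_of_bn hna P S hS hUB hBU hnode

section TwFFour

open Cfsg.Lie
open Cfsg.Agent.ChevalleyStructure.TwF4.Tables
open Cfsg.Agent.ChevalleyStructure.TwF4.Rel
open Cfsg.Agent.ChevalleyStructure.TwF4.Groups Cfsg.Agent.ChevalleyStructure.TwF4.RankOne
open Cfsg.Agent.ChevalleyStructure.TwF4.Twisted Cfsg.Agent.ChevalleyStructure.TwF4.TwistedFix
open Cfsg.Agent.ChevalleyStructure.TwF4.BN
open Cfsg.Agent.ChevalleyStructure.TwF4.Torus (T)
open Cfsg.Agent.ChevalleyStructure.TwF4.TwGen (tc)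
open Cfsg.Agent.ChevalleyStructure.TwF4.TorusFix (mem_iff)
open Cfsg.Agent.Schreier.TwFFour

variable {K : Type*} [Field K] [Fintype K] {m : ℕ}

theorem nun_twistedF4 (hK : Fintype.card K = 2 ^ (2 * m + 1)) [hs : IsSimpleGroup ↥(twistedF4 K (2 ^ m))]
    (hna : ¬ IsMulCommutative ↥(twistedF4 K (2 ^ m))) : NUN ↥(twistedF4 K (2 ^ m)) := by
  have : CharP K 2 := charP_two hK
  have : Fact (Nat.Prime 2) := ⟨Nat.prime_two⟩
  obtain ⟨φ, hφ⟩ := exists_rln hK
  obtain ⟨P, hPB, hPN, hPS⟩ := exists_bnPair hφ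
  have hB : P.B = B0 K (2 ^ m) := hPB
  have hdec := dec hK hφ
  have hUp := isPGroup_U0 hK
  refine nun_of_bn' hna P (U0 K (2 ^ m)) hUp ?_ ?_ ?_ ?_ (2 ^ (2 * m + 1) - 1) ?_ ?_ ?_
  · rw [hPS]
    exact ⟨_, ⟨0, rfl⟩⟩
  · rw [hB]; exact U0_le_B0
  · intro b hb u hu
    rw [hB] at hb
    exact conj_U0 hb hu
  · intro b hb
    rw [hB] at hb
    obtain ⟨s, t, u, hu, hbu⟩ := hdec.1 b hb
    refine ⟨u, hu, ?_⟩
    rw [hPN, Subgroup.mem_subgroupOf, Subgroup.coe_mul, Subgroup.coe_inv, hbu, inv_mul_cancel_left]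
    exact Cfsg.Agent.ChevalleyStructure.TwF4.NStruct.T_mem_N _
  · have h1 : 2 ∣ 2 ^ (2 * m + 1) := dvd_pow_self 2 (by omega)
    have h2 : 0 < 2 ^ (2 * m + 1) := by positivity
    omega
  · intro h hh hN
    rw [hPB, Subgroup.mem_subgroupOf] at hh
    rw [hPN, Subgroup.mem_subgroupOf] at hN
    have h1 := borel_inf_N ⟨hh, hN⟩
    obtain ⟨s, t, hst⟩ := (mem_iff hK (h : GL chevF4.Idx K)).1 ⟨h1, h.2⟩
    apply Subtype.ext
    rw [Subgroup.coe_pow, hst, ← map_pow]
    have h2 : tc (2 ^ m) s t ^ (2 ^ (2 * m + 1) - 1) = 1 := by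
      have h3 : ∀ x : Kˣ, x ^ (2 ^ (2 * m + 1) - 1) = 1 := by
        intro x
        have h4 := pow_card_eq_one' (x := x)
        rwa [Nat.card_units, Nat.card_eq_fintype_card, hK] at h4
      funext l
      rw [Pi.pow_apply, h3]; rfl
    rw [h2, map_one]; rfl
  · intro s hs
    rw [hPS] at hs
    obtain ⟨i, rfl⟩ := hs
    have hi : i = 0 ∨ i = 1 := by
      revert i; decide
    rcases hi with rfl | rfl
    · refine ⟨V1 K (2 ^ m), node1 hφ hB, fun hbot => ?_⟩
      have h1 : (⟨xb (2 ^ m) 0 1, xb_mem 0 1⟩ : ↥(twistedF4 K (2 ^ m))) ∈ V1 K (2 ^ m) :=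
        GA_mono (A := clsB 8) (B := geB 2) (by decide) (xb_pos _ 0 1)
      rw [hbot, Subgroup.mem_bot] at h1
      exact one_ne_zero (xb_eq_one (K := K) hφ.pos.ne' (congrArg Subtype.val h1))
    · refine ⟨V8 K (2 ^ m), node2 hφ hB, fun hbot => ?_⟩
      have h1 : (⟨xa (2 ^ m) 1, xa_mem 1⟩ : ↥(twistedF4 K (2 ^ m))) ∈ V8 K (2 ^ m) :=
        GA_mono (A := clsB 1) (B := leB 7) (by decide) (xa_pos _ 1)
      rw [hbot, Subgroup.mem_bot] at h1
      exact one_ne_zero (xa_eq_one (K := K) hφ.pos.ne' (congrArg Subtype.val h1))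

theorem nun_iso2F4 {G : Type*} [Group G] [IsSimpleGroup G] (hna : ¬ IsMulCommutative G) (h : Lie.Iso2F4 G) :
    NUN G := by
  obtain ⟨K, iK, iF, m, -, hK, ⟨e⟩⟩ := h
  have h1 : IsSimpleGroup ↥(twistedF4 K (2 ^ m)) := e.symm.isSimpleGroup
  have h2 : ¬ IsMulCommutative ↥(twistedF4 K (2 ^ m)) := by
    intro h3
    refine hna ⟨⟨fun a b => e.injective ?_⟩⟩
    rw [map_mul, map_mul]
    exact h3.is_comm.comm _ _
  exact (nun_twistedF4 hK h2).congr e.symm

end TwFFour

end Cfsg.Agent.UniqLoc.BN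

end

-- merged: Cfsg.Agent.UniqLoc.Tits
section

/-!
# S1808: the Tits group

`nun` : no normalizer of a Sylow 2-subgroup of the Tits group lies in exactly one maximal 2-local subgroup.

`Γ = ²F₄(2) = ⟨y 0, …, y 9⟩`, `U = ⟨y 0, …, y 7⟩`, `C = Γ′`.  The Sylow 2-subgroup `U ∩ C` of `C` is self-normalizing, and
`C` is generated by `N(K_s) ∩ C`, `K_s = ⟨y 1, …, y 7⟩`, `⟨y 0, …, y 6⟩`.
-/

set_option autoImplicit false

namespace Cfsg.Agent.UniqLoc.Tits

open Cfsg.Agent.ChevalleyStructure.Tits.Pack Cfsg.Agent.ChevalleyStructure.Tits.Data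
  Cfsg.Agent.ChevalleyStructure.Tits.Sat Cfsg.Agent.ChevalleyStructure.Tits.Rank2
  Cfsg.Agent.ChevalleyStructure.Tits.Final Cfsg.Agent.ChevalleyStructure.Tits.Mat
  Cfsg.Agent.ChevalleyStructure.Tits.Order Cfsg.Agent.ChevalleyStructure.Tits.Main
open scoped MatrixGroups

/-- further relations, expressing elements as products of squares (from `Schreier/Tits.lean`) -/
def sqRels : List (List ℕ × List ℕ) := [
  ([2], [0, 1, 3, 4, 0, 1, 3, 4]),
  ([6], [1, 7, 1, 7, 1, 7, 7, 7, 1, 7, 7, 7])]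

theorem sqRels_ok : sqRels.all chk = true := by decide +kernel

theorem sqRels_lt : sqRels.all (fun p => (p.1.all fun i => Nat.blt i 8) && p.2.all fun i => Nat.blt i 8) = true := by
  decide +kernel

theorem rel_yH {p : List ℕ × List ℕ} (hp : p ∈ sqRels) : (p.1.map yH).prod = (p.2.map yH).prod := by
  have h1 := sqRels_ok
  rw [List.all_eq_true] at h1
  have h2 := sqRels_lt
  rw [List.all_eq_true] at h2
  have h3 := h2 p hp
  rw [Bool.and_eq_true, List.all_eq_true, List.all_eq_true] at h3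
  have h4 : ∀ i ∈ p.1, i < 8 := fun i hi => by
    have := h3.1 i hi; rwa [Nat.blt_eq] at this
  have h5 : ∀ i ∈ p.2, i < 8 := fun i hi => by
    have := h3.2 i hi; rwa [Nat.blt_eq] at this
  have h6 := rel_of_chk (h1 p hp) (fun i hi => by have := h4 i hi; omega) (fun i hi => by have := h5 i hi; omega)
  apply Subtype.ext
  rw [coe_list _ (fun i hi => by have := h4 i hi; omega), coe_list _ (fun i hi => by have := h5 i hi; omega)]
  exact h6

section Abs

variable {Γ : Type*} [Group Γ] {y : ℕ → Γ}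

theorem iff_aux (P X : Prop) : X ↔ ((P ↔ X) ↔ P) := by tauto

/-- which letters lie in the derived group (from `Schreier/Tits.lean`) -/
theorem parity [Finite Γ] (hr : ∀ p ∈ sqRels, (p.1.map y).prod = (p.2.map y).prod) (hy : Sat y)
    (hgen : Subgroup.closure (y '' {i | i < 10}) = ⊤) (hcard : Nat.card Γ = 35942400)
    (hi : (commutator Γ).index = 2) : y 0 ∈ commutator Γ ∧ y 1 ∉ commutator Γ ∧ y 2 ∈ commutator Γ ∧
      y 7 ∉ commutator Γ := by
  have mm : ∀ a b : Γ, a * b ∈ commutator Γ ↔ (a ∈ commutator Γ ↔ b ∈ commutator Γ) := fun a b =>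
    Subgroup.mul_mem_iff_of_index_two hi
  have h7 : y 7 ∉ commutator Γ := by
    obtain ⟨χ, hχ⟩ := exists_sign hy hgen hcard
    intro h
    have h2 : commutator Γ ≤ χ.ker := Abelianization.commutator_subset_ker χ
    have h3 := h2 h
    rw [MonoidHom.mem_ker, hχ] at h3
    exact absurd h3 (by decide)
  have cc : ∀ n x z : Γ, n * x * n = z → (x ∈ commutator Γ ↔ z ∈ commutator Γ) := by
    rintro n x z rfl
    rw [mm, mm]
    exact iff_aux _ _
  have e1 := cc _ _ _ (n1_conj hy (j := 1) (by norm_num) (by norm_num))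
  have e0 := cc _ _ _ (n2_conj hy (j := 0) (by norm_num))
  norm_num at e1 e0
  have h1 : y 1 ∉ commutator Γ := fun h => h7 (e1.1 h)
  have r2 : y 2 = (y 0 * y 1 * y 3 * y 4) * (y 0 * y 1 * y 3 * y 4) := by
    have := hr ([2], [0, 1, 3, 4, 0, 1, 3, 4]) (by simp [sqRels])
    simpa [mul_assoc] using this
  have r6 : y 6 = (y 1 * y 7) * (y 1 * y 7) * ((y 1 * y 7 * y 7 * y 7) * (y 1 * y 7 * y 7 * y 7)) := by
    have := hr ([6], [1, 7, 1, 7, 1, 7, 7, 7, 1, 7, 7, 7]) (by simp [sqRels])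
    simpa [mul_assoc] using this
  have sq : ∀ g : Γ, g * g ∈ commutator Γ := fun g => (mm g g).2 Iff.rfl
  have h2 : y 2 ∈ commutator Γ := by rw [r2]; exact sq _
  have h6 : y 6 ∈ commutator Γ := by rw [r6]; exact mul_mem (sq _) (sq _)
  exact ⟨e0.2 h6, h1, h2, h7⟩

/-- an element of a 2-group whose odd power is trivial -/
theorem eq_one_of_odd {U : Subgroup Γ} {k m : ℕ} (hU : Nat.card U = 2 ^ k) (hm : Nat.Coprime m 2) {g : Γ}
    (hg : g ∈ U) (h : g ^ m = 1) : g = 1 := by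
  have h1 : g ^ (2 ^ k) = 1 := by
    have h2 : (⟨g, hg⟩ : U) ^ Nat.card U = 1 := pow_card_eq_one'
    rw [hU] at h2
    exact congrArg Subtype.val h2
  have h2 : orderOf g ∣ 1 := by
    have h3 := Nat.dvd_gcd (orderOf_dvd_of_pow_eq_one h) (orderOf_dvd_of_pow_eq_one h1)
    rwa [Nat.Coprime.pow_right k hm] at h3
  exact orderOf_eq_one_iff.1 (Nat.dvd_one.1 h2)

section

variable (hy : Sat y)
include hy

theorem norm_K1 : V y 0 ≤ Subgroup.normalizer (V y 1 : Set Γ) := by
  have key : ∀ x ∈ V y 0, ∀ k ∈ V y 1, x * k * x⁻¹ ∈ V y 1 := by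
    intro x hx k hk
    rw [V_succ y (by norm_num)] at hx
    obtain ⟨a, ha, b, hb, rfl⟩ := mem_sup_fac (V_norm hy (i := 0) (by norm_num)) x hx
    have h1 : b * k * b⁻¹ ∈ V y 1 := mul_mem (mul_mem hb hk) (inv_mem hb)
    have h2 := V_norm hy (i := 0) (by norm_num) a ha _ h1
    have h3 : a * b * k * (a * b)⁻¹ = a * (b * k * b⁻¹) * a⁻¹ := by group
    rw [h3]
    exact h2
  intro x hx
  rw [Subgroup.mem_normalizer_iff]
  intro k
  refine ⟨fun hk => key x hx k hk, fun hk => ?_⟩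
  have h1 := key x⁻¹ (inv_mem hx) _ hk
  have h2 : x⁻¹ * (x * k * x⁻¹) * x⁻¹⁻¹ = k := by group
  rwa [h2] at h1

theorem norm_K' : V y 0 ≤ Subgroup.normalizer (V' y : Set Γ) := by
  have key : ∀ x ∈ V y 0, ∀ k ∈ V' y, x * k * x⁻¹ ∈ V' y := by
    intro x hx k hk
    rw [V_zero'] at hx
    obtain ⟨a, ha, b, hb, rfl⟩ := mem_sup_fac (V'_norm hy) x hx
    have h1 : b * k * b⁻¹ ∈ V' y := mul_mem (mul_mem hb hk) (inv_mem hb)
    have h2 := V'_norm hy a ha _ h1
    have h3 : a * b * k * (a * b)⁻¹ = a * (b * k * b⁻¹) * a⁻¹ := by group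
    rw [h3]
    exact h2
  intro x hx
  rw [Subgroup.mem_normalizer_iff]
  intro k
  refine ⟨fun hk => key x hx k hk, fun hk => ?_⟩
  have h1 := key x⁻¹ (inv_mem hx) _ hk
  have h2 : x⁻¹ * (x * k * x⁻¹) * x⁻¹⁻¹ = k := by group
  rwa [h2] at h1

/-- the subgroups `K s` are normalized by `U` and `n s` -/
theorem norm_K (s : Bool) : (rd hy).U ≤ Subgroup.normalizer ((rd hy).K s : Set Γ) := by
  cases s
  · exact norm_K1 hy
  · exact norm_K' hy

theorem n_norm_K (s : Bool) : (rd hy).n s ∈ Subgroup.normalizer ((rd hy).K s : Set Γ) := by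
  have h2 := (rd hy).nn s
  rw [Subgroup.mem_normalizer_iff]
  intro k
  rw [(rd hy).ninv s]
  refine ⟨fun hk => (rd hy).nK s k hk, fun hk => ?_⟩
  have h1 := (rd hy).nK s _ hk
  have h3 : (rd hy).n s * ((rd hy).n s * k * (rd hy).n s) * (rd hy).n s =
      ((rd hy).n s * (rd hy).n s) * k * ((rd hy).n s * (rd hy).n s) := by group
  rwa [h3, h2, one_mul, mul_one] at h1

theorem y9_notMem (hV : Nat.card (V y 0) = 4096) : y 9 ∉ V y 0 := by
  intro h
  have h0 := n2_conj hy (j := 6) (by norm_num)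
  have h1 : y 9 * y 6 * (y 9)⁻¹ ∈ V y 1 :=
    (Subgroup.mem_normalizer_iff.1 (norm_K1 hy h) (y 6)).1 (mem_V y (by norm_num) (by norm_num))
  have h3 : (y 9)⁻¹ = y 9 := nninv hy true
  rw [h3, h0] at h1
  have h4 : V y 0 ≤ V y 1 := by
    rw [V_succ y (by norm_num)]
    exact sup_le ((Subgroup.zpowers_le).2 h1) le_rfl
  obtain ⟨h5, h6⟩ := V_card hy 7 (by norm_num)
  have h7 : Nat.card (V y 0) ≤ Nat.card (V y 1) :=
    Nat.card_mono h5 h4
  have h8 : ((V y (8 - 7) : Subgroup Γ) : Set Γ).ncard = Nat.card (V y 1) := rfl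
  rw [h8] at h6
  rw [hV] at h7
  have h9 := h7.trans h6
  have h10 : ∏ j ∈ Finset.range 7, od (7 - j) = 2048 := by decide
  rw [h10] at h9
  omega

theorem y8_notMem (hV : Nat.card (V y 0) = 4096) : y 8 ∉ V y 0 := by
  intro h
  have m := fun (i : ℕ) (hi : i < 8) => mem_V y (Nat.zero_le i) hi
  have h1 : y 8 * y 0 = 1 := by
    refine eq_one_of_odd (k := 12) (m := 3) (by rw [hV]; norm_num) (by norm_num) (mul_mem h (m 0 (by norm_num))) ?_
    have h := hy ([8, 0, 8, 0, 8, 0], []) (by decide +kernel)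
    simp only [List.map_cons, List.map_nil, List.prod_cons, List.prod_nil, mul_one] at h
    rw [← h, pow_succ, pow_succ, pow_succ, pow_zero, one_mul]
    simp only [mul_assoc]
  have h00 : y 0 * y 0 = 1 := by
    have := pow_od hy (i := 0) (by norm_num)
    have hod : od 0 = 2 := rfl
    rw [hod] at this
    rwa [pow_two] at this
  have h80 : y 8 = y 0 := mul_right_cancel (h1.trans h00.symm)
  have h01 : y 0 * y 1 = y 1 * y 0 := by
    have h := hy ([0, 1], [1, 0]) (by decide +kernel)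
    simpa only [List.map_cons, List.map_nil, List.prod_cons, List.prod_nil, mul_one] using h
  have h17 := n1_conj hy (j := 1) (by norm_num) (by norm_num)
  rw [h80, h01, mul_assoc, h00, mul_one] at h17
  norm_num at h17
  -- `y 7 = y 1`
  have h15 := n2_conj hy (j := 1) (by norm_num)
  norm_num at h15
  have e1 := hy ([9, 7, 9], [7, 9, 7, 7]) (by decide +kernel)
  simp only [List.map_cons, List.map_nil, List.prod_cons, List.prod_nil, mul_one] at e1
  rw [← h17, ← mul_assoc, h15] at e1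
  refine y9_notMem hy hV ?_
  have h2 : y 9 = (y 1)⁻¹ * y 5 * (y 1 * y 1)⁻¹ := by
    rw [e1]
    group
  rw [h2]
  exact mul_mem (mul_mem (inv_mem (m 1 (by norm_num))) (m 5 (by norm_num)))
    (inv_mem (mul_mem (m 1 (by norm_num)) (m 1 (by norm_num))))

theorem n_notMem (hV : Nat.card (V y 0) = 4096) (s : Bool) : (rd hy).n s ∉ (rd hy).U := by
  cases s
  · exact y8_notMem hy hV
  · exact y9_notMem hy hV

/-- `n s` does not conjugate a nontrivial element of `X s` into `U` -/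
theorem conj_notMem (hV : Nat.card (V y 0) = 4096) (s : Bool) {x : Γ} (hx : x ∈ (rd hy).X s) (hx1 : x ≠ 1) :
    (rd hy).n s * x * (rd hy).n s ∉ (rd hy).U := by
  intro h
  obtain ⟨a, ha, b, hb, hab⟩ := (rd hy).rk1 s x hx hx1
  rw [hab] at h
  have ha' := (rd hy).XU s ha
  have hb' := (rd hy).XU s hb
  have h1 := mul_mem (mul_mem (inv_mem ha') h) (inv_mem hb')
  have h2 : a⁻¹ * (a * (rd hy).n s * b) * b⁻¹ = (rd hy).n s := by group
  rw [h2] at h1
  exact n_notMem hy hV s h1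

end

/-- **The Tits group**, abstract form. -/
theorem nun_abs [Finite Γ] (hr : ∀ p ∈ sqRels, (p.1.map y).prod = (p.2.map y).prod) (hy : Sat y)
    (hgen : Subgroup.closure (y '' {i | i < 10}) = ⊤) (hcard : Nat.card Γ = 35942400)
    (hV : Nat.card (V y 0) = 4096) (hne : ∀ i < 8, y i ≠ 1)
    (hres : (commutator Γ).index = 2 ∧ IsSimpleGroup (commutator Γ) ∧
      ¬ IsMulCommutative (commutator Γ) ∧ Nat.card (commutator Γ) = 2 ^ 11 * 3 ^ 3 * 5 ^ 2 * 13) :
    NUN (commutator Γ) := by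
  obtain ⟨hi, hsimple, hnc, hcC⟩ := hres
  obtain ⟨h0, h1, h2, h7⟩ := parity hr hy hgen hcard hi
  have mm : ∀ a b : Γ, a * b ∈ commutator Γ ↔ (a ∈ commutator Γ ↔ b ∈ commutator Γ) := fun a b =>
    Subgroup.mul_mem_iff_of_index_two hi
  have hCn : (commutator Γ).Normal := inferInstance
  set C := commutator Γ with hC
  set U : Subgroup Γ := V y 0 with hU
  have hU2 : IsPGroup 2 U := IsPGroup.of_card (n := 12) (by rw [hV]; norm_num)
  -- the order of `U ⊓ C`
  have hUC : Nat.card (U ⊓ C : Subgroup Γ) = 2048 := by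
    have h8 : (U ⊓ C).relIndex U = 2 := by
      rw [Subgroup.inf_relIndex_left]
      have h9 : C.relIndex U ∣ C.index := Subgroup.relIndex_dvd_index_of_normal C U
      rw [hi] at h9
      rcases (Nat.dvd_prime Nat.prime_two).1 h9 with h10 | h10
      · exfalso
        rw [Subgroup.relIndex_eq_one] at h10
        exact h7 (h10 (mem_V y (Nat.zero_le _) (by norm_num)))
      · exact h10
    have h9 := Subgroup.relIndex_mul_relIndex ⊥ (U ⊓ C) U bot_le inf_le_left
    rw [Subgroup.relIndex_bot_left, Subgroup.relIndex_bot_left, h8, hV] at h9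
    omega
  let T₀ : Subgroup C := (U ⊓ C).subgroupOf C
  have hT₀ : T₀.map C.subtype = U ⊓ C := by
    rw [Subgroup.subgroupOf_map_subtype]
    exact inf_eq_left.2 inf_le_right
  have hcT₀ : Nat.card T₀ = 2048 := by
    rw [← hUC, ← hT₀]
    exact Nat.card_congr (T₀.equivMapOfInjective C.subtype C.subtype_injective).toEquiv
  have hfac : (Nat.card C).factorization 2 = 11 := by
    rw [hcC]
    have : (2 ^ 11 * 3 ^ 3 * 5 ^ 2 * 13 : ℕ) = 2 ^ 11 * 8775 := by norm_num
    rw [this, Nat.factorization_mul (by norm_num) (by norm_num), Nat.factorization_pow]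
    simp only [Finsupp.add_apply, Finsupp.smul_apply, smul_eq_mul]
    rw [Nat.Prime.factorization_self Nat.prime_two, Nat.factorization_eq_zero_of_not_dvd (by norm_num)]
  have : Fact (Nat.Prime 2) := ⟨Nat.prime_two⟩
  let T : Sylow 2 C := Sylow.ofCard T₀ (by rw [hcT₀, hfac]; norm_num)
  have hTT : (T : Subgroup C) = T₀ := rfl
  have memT : ∀ c : C, c ∈ (T : Subgroup C) ↔ (c : Γ) ∈ U := by
    intro c
    rw [hTT, Subgroup.mem_subgroupOf]
    exact ⟨fun h => h.1, fun h => ⟨h, c.2⟩⟩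
  set D := rd hy with hD
  have hDU : D.U = U := rfl
  have hDG : D.G = ⊤ := by rw [hD, rd_G hy, hgen]
  have hAll : ∀ g : Γ, g ∈ D.All := by
    intro g
    apply D.G_subset_All
    rw [hDG]; trivial
  have hneX : ∀ s, ∃ x ∈ D.X s, x ≠ 1 := by
    intro s
    cases s
    · exact ⟨y 0, Subgroup.mem_zpowers _, hne 0 (by norm_num)⟩
    · exact ⟨y 7, Subgroup.mem_zpowers _, hne 7 (by norm_num)⟩
  have m := fun (i : ℕ) (hi : i < 8) => mem_V y (Nat.zero_le i) hi
  -- an element of `T ∩ (X s) (K s)` outside `K s`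
  have hmov : ∀ s, ∃ t ∈ U ⊓ C, D.n s * t * D.n s ∉ U := by
    intro s
    cases s
    · exact ⟨y 0, ⟨m 0 (by norm_num), h0⟩, conj_notMem hy hV false (Subgroup.mem_zpowers _) (hne 0 (by norm_num))⟩
    · refine ⟨y 1 * y 7, Subgroup.mem_inf.2 ⟨mul_mem (m 1 (by norm_num)) (m 7 (by norm_num)), ?_⟩, ?_⟩
      · rw [mm]
        exact ⟨fun h => absurd h h1, fun h => absurd h h7⟩
      · intro h
        have e : D.n true * (y 1 * y 7) * D.n true = (y 9 * y 1 * y 9) * (y 9 * y 7 * y 9) := by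
          have e2 := n2n2 hy
          show y 9 * (y 1 * y 7) * y 9 = _
          calc y 9 * (y 1 * y 7) * y 9 = y 9 * y 1 * 1 * y 7 * y 9 := by group
            _ = y 9 * y 1 * (y 9 * y 9) * y 7 * y 9 := by rw [e2]
            _ = _ := by group
        rw [e, n2_conj hy (j := 1) (by norm_num)] at h
        have h8 := mul_mem (inv_mem (m (6 - 1) (by norm_num))) h
        rw [inv_mul_cancel_left] at h8
        exact conj_notMem hy hV true (Subgroup.mem_zpowers _) (hne 7 (by norm_num)) h8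
  -- `T` is self-normalizing
  have hnorm : ∀ g : Γ, g ∈ Subgroup.normalizer ((U ⊓ C : Subgroup Γ) : Set Γ) → g ∈ U := by
    intro g hg
    by_contra hgU
    have hUN : D.U ≤ Subgroup.normalizer ((U ⊓ C : Subgroup Γ) : Set Γ) := by
      intro u hu
      rw [Subgroup.mem_normalizer_iff]
      intro k
      have e : u⁻¹ * (u * k * u⁻¹) * u = k := by group
      constructor
      · intro hk
        exact Subgroup.mem_inf.2 ⟨mul_mem (mul_mem hu hk.1) (inv_mem hu), hCn.conj_mem k hk.2 u⟩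
      · intro hk
        have h8 := mul_mem (mul_mem (inv_mem hu) hk.1) hu
        have h9 := hCn.conj_mem _ hk.2 u⁻¹
        rw [inv_inv, e] at h9
        rw [e] at h8
        exact ⟨h8, h9⟩
    obtain ⟨s, hs⟩ := D.exists_n_mem hneX hUN hg (hAll g) hgU
    obtain ⟨t, ht, htn⟩ := hmov s
    have h8 := (Subgroup.mem_normalizer_iff.1 hs t).1 ht
    rw [D.ninv s] at h8
    exact htn h8.1
  have hnormT : ∀ c : C, c ∈ Subgroup.normalizer ((T : Subgroup C) : Set C) → c ∈ (T : Subgroup C) := by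
    intro c hc
    rw [memT]
    refine hnorm c ?_
    rw [Subgroup.mem_normalizer_iff]
    intro k
    constructor
    · intro hk
      have h8 := (Subgroup.mem_normalizer_iff.1 hc ⟨k, hk.2⟩).1 ((memT _).2 hk.1)
      exact ⟨(memT _).1 h8, hCn.conj_mem k hk.2 c⟩
    · intro hk
      have hkC : k ∈ C := by
        have h9 := hCn.conj_mem _ hk.2 (c : Γ)⁻¹
        have e : (c : Γ)⁻¹ * ((c : Γ) * k * (c : Γ)⁻¹) * (c : Γ)⁻¹⁻¹ = k := by group
        rwa [e] at h9
      exact ⟨(memT ⟨k, hkC⟩).1 ((Subgroup.mem_normalizer_iff.1 hc ⟨k, hkC⟩).2 ((memT _).2 hk.1)), hkC⟩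
  -- the criterion
  refine nun_of_gen hnc T fun Y hY => ?_
  have hKU : ∀ s, D.K s ≤ U := D.KU
  -- `N(K s) ⊓ C ≤ Y`
  have hN : ∀ s, ∀ g : Γ, g ∈ Subgroup.normalizer (D.K s : Set Γ) → ∀ hg : g ∈ C, (⟨g, hg⟩ : C) ∈ Y := by
    intro s g hgN hgC
    have hincl : ∀ c : C, (c : Γ) ∈ Subgroup.normalizer (D.K s : Set Γ) →
        c ∈ Subgroup.normalizer (((D.K s).subgroupOf C : Subgroup C) : Set C) := by
      intro c hc
      rw [Subgroup.mem_normalizer_iff]
      intro k
      simp only [Subgroup.mem_subgroupOf]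
      exact Subgroup.mem_normalizer_iff.1 hc (k : Γ)
    refine hY ((D.K s).subgroupOf C) ?_ ?_ ?_ (hincl _ hgN)
    · refine (T.isPGroup').to_le ?_
      intro c hc
      rw [memT]
      exact hKU s (Subgroup.mem_subgroupOf.1 hc)
    · intro hbot
      have h8 : (⟨y 2, h2⟩ : C) ∈ ((D.K s).subgroupOf C : Subgroup C) := by
        rw [Subgroup.mem_subgroupOf]
        cases s
        · exact mem_V y (k := 1) (by norm_num) (by norm_num)
        · exact mem_V' y (by norm_num)
      rw [hbot, Subgroup.mem_bot] at h8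
      exact hne 2 (by norm_num) (congrArg Subtype.val h8)
    · intro c hc
      exact hincl c (norm_K hy s ((memT c).1 (hnormT c hc)))
  -- the group generated
  set H : Subgroup Γ := (Subgroup.normalizer (D.K false : Set Γ) ⊓ C) ⊔ (Subgroup.normalizer (D.K true : Set Γ) ⊓ C)
    with hH
  have hHY : H ≤ Y.map C.subtype := by
    refine sup_le ?_ ?_
    · rintro g ⟨hg1, hg2⟩
      exact ⟨⟨g, hg2⟩, hN false g hg1 hg2, rfl⟩
    · rintro g ⟨hg1, hg2⟩
      exact ⟨⟨g, hg2⟩, hN true g hg1 hg2, rfl⟩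
  have hHC : H ≤ C := sup_le inf_le_right inf_le_right
  have hsub : ∀ s, Subgroup.normalizer (D.K s : Set Γ) ⊓ C ≤ H := by
    intro s
    cases s
    · exact le_sup_left
    · exact le_sup_right
  -- `U` normalizes `H`
  have hUH : U ≤ Subgroup.normalizer (H : Set Γ) := by
    have key : ∀ u ∈ U, ∀ g ∈ H, u * g * u⁻¹ ∈ H := by
      intro u hu g hg
      have h8 : H ≤ H.comap (MulAut.conj u).toMonoidHom := by
        refine sup_le ?_ ?_
        · rintro k ⟨hk1, hk2⟩
          have h9 := norm_K hy false hu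
          exact hsub false (Subgroup.mem_inf.2 ⟨mul_mem (mul_mem h9 hk1) (inv_mem h9), hCn.conj_mem k hk2 u⟩)
        · rintro k ⟨hk1, hk2⟩
          have h9 := norm_K hy true hu
          exact hsub true (Subgroup.mem_inf.2 ⟨mul_mem (mul_mem h9 hk1) (inv_mem h9), hCn.conj_mem k hk2 u⟩)
      exact h8 hg
    intro u hu
    rw [Subgroup.mem_normalizer_iff]
    intro k
    refine ⟨fun hk => key u hu k hk, fun hk => ?_⟩
    have h8 := key u⁻¹ (inv_mem hu) _ hk
    have e : u⁻¹ * (u * k * u⁻¹) * u⁻¹⁻¹ = k := by group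
    rwa [e] at h8
  -- `n s ∈ N(H)`
  have hnH : ∀ s, D.n s ∈ Subgroup.normalizer (H : Set Γ) := by
    intro s
    by_cases hc : D.n s ∈ C
    · exact Subgroup.le_normalizer (hsub s ⟨n_norm_K hy s, hc⟩)
    · have h8 : y 7 * D.n s ∈ H := by
        refine hsub s (Subgroup.mem_inf.2 ⟨mul_mem (norm_K hy s (m 7 (by norm_num))) (n_norm_K hy s), ?_⟩)
        rw [mm]
        exact ⟨fun h => absurd h h7, fun h => absurd h hc⟩
      have h9 := mul_mem (inv_mem (hUH (m 7 (by norm_num)))) (Subgroup.le_normalizer h8)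
      rwa [inv_mul_cancel_left] at h9
  have hHn : H.Normal := by
    rw [← Subgroup.normalizer_eq_top_iff, eq_top_iff, ← hDG]
    unfold RD.G
    rw [Subgroup.closure_le]
    rintro x (hx | ⟨s, rfl⟩)
    · exact hUH hx
    · exact hnH s
  have hH' : (H.subgroupOf C).Normal := inferInstance
  have hy0 : (⟨y 0, h0⟩ : C) ∈ H.subgroupOf C := by
    rw [Subgroup.mem_subgroupOf]
    exact hsub false ⟨norm_K hy false (m 0 (by norm_num)), h0⟩
  rcases hH'.eq_bot_or_eq_top with h8 | h8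
  · rw [h8, Subgroup.mem_bot] at hy0
    exact absurd (congrArg Subtype.val hy0) (hne 0 (by norm_num))
  · rw [eq_top_iff]
    intro c _
    have h9 : c ∈ H.subgroupOf C := by rw [h8]; trivial
    obtain ⟨c', hc', hcc⟩ := hHY (Subgroup.mem_subgroupOf.1 h9)
    have h10 : c' = c := Subtype.ext hcc
    rwa [← h10]

end Abs

theorem nun_H0 : NUN (commutator H0) :=
  nun_abs (fun _ hp => rel_yH hp) Sat_yH gen_yH card_H0 card_V_yH (fun _ hi => yH_ne_one hi) H0_result

theorem nun_aux (K : Subgroup (GL I52 (ZMod 2))) (hK : K = H0) : NUN (commutator K) := by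
  subst hK
  exact nun_H0

theorem transfer {Γ : Type*} [Group Γ] (K : Subgroup Γ) (hf : Finite ↥(commutator K)) {G : Type*} [Group G]
    (e : G ≃* ↥(commutator K)) (h : NUN ↥(commutator K)) : NUN G := h.congr e.symm

theorem finite_aux (K : Subgroup (GL I52 (ZMod 2))) (hK : K = H0) : Finite (commutator K) := by
  subst hK
  exact Nat.finite_of_card_ne_zero (by rw [H0_result.2.2.2]; norm_num)

theorem nun_aux' (K : Subgroup (GL I52 (ZMod 2))) (hK : K = H0) {G : Type*} [Group G] (e : G ≃* commutator K) :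
    NUN G := by
  exact transfer K (finite_aux K hK) e (nun_aux K hK)

theorem nun_isoTits {G : Type*} [Group G] (h : Cfsg.Lie.IsoTits G) : NUN G := by
  obtain ⟨e⟩ := h
  exact nun_aux' (Cfsg.Lie.twistedF4 (ZMod 2) 1) T0_eq_H0 e

end Cfsg.Agent.UniqLoc.Tits

end

-- merged: Cfsg.Agent.UniqLoc.ChevTwo
section

/-!
# S1808: groups of Lie type in characteristic two

`se_lieTwo`, `se_chevTwo` : a unique maximal 2-local subgroup over `N_G(S)` is strongly embedded, for the simple groups of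
Lie type in characteristic two (except `A₆` and `U₃(3)`, which are of 2-rank 2).
-/

set_option autoImplicit false

namespace Cfsg.Agent.UniqLoc.ChevTwo

open Cfsg

variable {G : Type*} [Group G] [Finite G] [IsSimpleGroup G]

theorem se_suzuki (hna : ¬ IsMulCommutative G) (h : Lie.IsoSuzuki G) : SE G :=
  se_of_ti hna fun _ _ _ hP hQ hx => Cfsg.Agent.OddCyclic.FFSz.sylow_ti h hP hQ hx

theorem se_lieTwo (hna : ¬ IsMulCommutative G) (h : IsLieTypeChar 2 G) : SE G := by
  have h2 : Fact (Nat.Prime 2) := ⟨Nat.prime_two⟩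
  rcases h with h | h | h | h | h | h | h | h | h | h | h
  · exact Rgd.se_of_hasFilt hna (KFacts.RgdLieCharP.hasFilt_of_lie (Or.inl h))
  · exact Rgd.se_of_hasFilt hna (KFacts.RgdLieCharP.hasFilt_of_lie (Or.inr (Or.inl h)))
  · exact Rgd.se_of_hasFilt hna (KFacts.RgdLieCharP.hasFilt_of_lie (Or.inr (Or.inr (Or.inl h))))
  · exact Rgd.se_of_hasFilt hna (KFacts.RgdLieCharP.hasFilt_of_lie (Or.inr (Or.inr (Or.inr (Or.inl h)))))
  · exact Rgd.se_of_hasFilt hna (KFacts.RgdLieCharP.hasFilt_of_lie (Or.inr (Or.inr (Or.inr (Or.inr (Or.inl h))))))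
  · exact Rgd.se_of_hasFilt hna (KFacts.RgdLieCharP.hasFilt_of_lie
      (Or.inr (Or.inr (Or.inr (Or.inr (Or.inr (Or.inl h)))))))
  · exact Rgd.se_of_hasFilt hna (KFacts.RgdLieCharP.hasFilt_of_lie
      (Or.inr (Or.inr (Or.inr (Or.inr (Or.inr (Or.inr (Or.inl h))))))))
  · exact Rgd.se_of_hasFilt hna (KFacts.RgdLieCharP.hasFilt_of_lie
      (Or.inr (Or.inr (Or.inr (Or.inr (Or.inr (Or.inr (Or.inr h))))))))
  · exact se_suzuki hna h.2
  · exact (BN.nun_iso2F4 hna h.2).se
  · exact absurd h.1 (by norm_num)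

theorem se_chevTwo (hna : ¬ IsMulCommutative G) (h : IsChevSimple 2 G)
    (h6 : ¬ Nonempty (G ≃* alternatingGroup (Fin 6)))
    (hu : ¬ ∃ (F : Type) (_ : Field F) (_ : Fintype F), Fintype.card F = 9 ∧ Nonempty (G ≃* PSU 3 F 3)) : SE G := by
  rcases h with h | ⟨-, h⟩ | ⟨h, -⟩
  · exact se_lieTwo hna h
  · rcases h with h | h | h
    · exact absurd h h6
    · exact absurd h hu
    · exact (Tits.nun_isoTits h).se
  · exact absurd h (by norm_num)

end Cfsg.Agent.UniqLoc.ChevTwo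

end

-- merged: Cfsg.Agent.UniqLoc.Main
section

/-!
# S1808 from the table (helper65)

* `SERow P` : for the simple groups of type `P` and of 2-rank at least 3, a unique maximal 2-local subgroup over `N_G(S)` is
  strongly 2-embedded;
* `SERows`, `ThreeRows` : the rows;
* `s1808` : the literal S1808.
-/

set_option autoImplicit false

namespace Cfsg.Agent.UniqLoc.Main

open Cfsg Cfsg.Agent.SevenCases Cfsg.Agent.SigTab Cfsg.Agent.GammaTwo

universe u

/-- A unique maximal 2-local subgroup over `N_G(S)` is strongly 2-embedded. -/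
def SERow (P : ∀ (X : Type u) [Group X], Prop) : Prop :=
  ∀ (G : Type u) [Group G] [Finite G] [IsSimpleGroup G], ¬ IsMulCommutative G → PRankAtLeast 2 3 G → P G → SE G

/-- The rows with `σ(G) = ∅`. -/
structure SERows : Prop where
  l43 : SERow.{u} (fun X _ => PslOdd (fun n q => n = 4 ∧ q = 3) X)
  u43 : SERow.{u} (fun X _ => PsuOdd (fun n q => n = 4 ∧ q = 3) X)
  g23 : SERow.{u} (fun X _ => GTwoOdd (fun q => q = 3) X)
  m22 : SERow.{u} (fun X _ => Spor.IsoM22 X)
  m23 : SERow.{u} (fun X _ => Spor.IsoM23 X)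
  m24 : SERow.{u} (fun X _ => Spor.IsoM24 X)
  j2 : SERow.{u} (fun X _ => Spor.IsoJ2 X)
  j3 : SERow.{u} (fun X _ => Spor.IsoJ3 X)
  j4 : SERow.{u} (fun X _ => Spor.IsoJ4 X)
  hs : SERow.{u} (fun X _ => Spor.IsoHS X)
  he : SERow.{u} (fun X _ => Spor.IsoHe X)
  ru : SERow.{u} (fun X _ => Spor.IsoRu X)
  suz : SERow.{u} (fun X _ => Spor.IsoSuz X)
  co2 : SERow.{u} (fun X _ => Spor.IsoCo2 X)
  co3 : SERow.{u} (fun X _ => Spor.IsoCo3 X)
  hn : SERow.{u} (fun X _ => Spor.IsoHN X)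
  th : SERow.{u} (fun X _ => Spor.IsoTh X)

/-- The rows with `3 ∈ σ(G)`: `σ(G) ⊆ {3}` and `Γ_{P,2}(G) = G` for `p = 3`. -/
structure ThreeRows : Prop where
  s_o73 : SigThree.{u} (fun X _ => OmegaOdd (fun m q => m = 3 ∧ q = 3) X)
  s_o8p3 : SigThree.{u} (fun X _ => OmegaPlusOdd (fun m q => m = 4 ∧ q = 3) X)
  s_o8m3 : SigThree.{u} (fun X _ => OmegaMinusOdd (fun m q => m = 4 ∧ q = 3) X)
  s_co1 : SigThree.{u} (fun X _ => Spor.IsoCo1 X)
  s_fi22 : SigThree.{u} (fun X _ => Spor.IsoFi22 X)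
  s_fi23 : SigThree.{u} (fun X _ => Spor.IsoFi23 X)
  s_fi24 : SigThree.{u} (fun X _ => Spor.IsoFi24' X)
  s_b : SigThree.{u} (fun X _ => Spor.IsoB X)
  s_m : SigThree.{u} (fun X _ => Spor.IsoM X)
  ne : Sigma.Frame.SigRows.{u}
  o73 : NoThree.{u} (fun X _ => OmegaOdd (fun m q => m = 3 ∧ q = 3) X)
  o8p3 : NoThree.{u} (fun X _ => OmegaPlusOdd (fun m q => m = 4 ∧ q = 3) X)
  o8m3 : NoThree.{u} (fun X _ => OmegaMinusOdd (fun m q => m = 4 ∧ q = 3) X)
  co1 : NoThree.{u} (fun X _ => Spor.IsoCo1 X)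
  fi22 : NoThree.{u} (fun X _ => Spor.IsoFi22 X)
  fi23 : NoThree.{u} (fun X _ => Spor.IsoFi23 X)
  fi24 : NoThree.{u} (fun X _ => Spor.IsoFi24' X)
  b : NoThree.{u} (fun X _ => Spor.IsoB X)
  m : NoThree.{u} (fun X _ => Spor.IsoM X)

/-- The rows for "known simple groups of restricted even type". -/
structure ResRows : Prop where
  gen : GenRows.{u}
  b : BRows.{u}
  bc : BNotC.{u}
  more : NotResMore.{u}

/-- the hypothesis of S1808 on `σ(G)` -/
def Hσ (G : Type u) [Group G] (M : Subgroup G) : Prop :=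
  sigmaSet G = ∅ ∨ ((∃ p : ℕ, p.Prime ∧ p ≠ 2 ∧ PRankAtLeast p 4 ↥M) ∧
    ∀ p : ℕ, p.Prime → p ≠ 2 → PRankAtLeast p 4 ↥M → IsPUniquenessSubgroup p M)

/-- the groups with `σ(G) = {3}` and `Γ_{P,2}(G) = G` for `p = 3` -/
theorem not_hyp {G : Type u} [Group G] [Finite G] {S : Sylow 2 G} {M : Subgroup G}
    (hM : maxTwoLocalsOver (S : Subgroup G) = {M}) (h1 : ∀ p ∈ sigmaSet G, p = 3) (h2 : sigmaSet G ≠ ∅)
    (h3 : NoPU 3 G) : ¬ Hσ G M := by
  rintro (h | ⟨⟨p, hp, hp2, hr⟩, hu⟩)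
  · exact h2 h
  · have hmem : M ∈ maxTwoLocalsOver (S : Subgroup G) := by rw [hM]; exact rfl
    have hS : (S : Subgroup G) ≤ M := Subgroup.le_normalizer.trans hmem.2
    have hσ : p ∈ sigmaSet G := by
      refine ⟨hp, hp2, S, M, ⟨hmem.1, ?_⟩, hr⟩
      rw [Subgroup.relIndex_eq_one.2 hS]
      norm_num
    obtain rfl := h1 p hσ
    obtain ⟨hne, P, hP⟩ := hu 3 hp hp2 hr
    rw [h3 P] at hP
    exact hne (top_le_iff.1 hP)

/-- **S1808 from the table.** -/
theorem s1808 (hS : SERows.{u}) (hT : ThreeRows.{u}) (hRes : ResRows.{u}) {G : Type u} [Group G] [Finite G]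
    [IsSimpleGroup G] (hk : IsKnownSimple' G) (hG : ¬ IsMulCommutative G) (hR : IsOfRestrictedEvenType G)
    (S : Sylow 2 G) (M : Subgroup G) (hM : maxTwoLocalsOver (S : Subgroup G) = {M}) (hσ : Hσ G M) :
    IsStronglyPEmbedded 2 M := by
  have hr : PRankAtLeast 2 3 G := hR.1.2.2
  have key : SE G → IsStronglyPEmbedded 2 M := fun h => h S M hM
  rcases restList hRes.gen hRes.b hRes.bc hRes.more hk hG hR with h | h | h | h | h | h | h | h | h | h
  · refine key (ChevTwo.se_chevTwo hG h ?_ ?_)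
    · intro h6
      exact hRes.more.alt G ⟨6, by norm_num, h6⟩ hR
    · rintro ⟨F, iF, iFt, hc, e⟩
      exact hRes.more.psu3 G ⟨F, iF, iFt, 3, 3, by decide, hc, rfl, e⟩ hR
  · obtain ⟨n, rfl, ⟨e⟩⟩ := h
    refine key (ChevTwo.se_chevTwo hG (chevSimple_a8 e) ?_ ?_)
    · intro h6
      exact hRes.more.alt G ⟨6, by norm_num, h6⟩ hR
    · rintro ⟨F, iF, iFt, hc, e⟩
      exact hRes.more.psu3 G ⟨F, iF, iFt, 3, 3, by decide, hc, rfl, e⟩ hR
  · obtain ⟨n, rfl, ⟨e⟩⟩ := h
    exact key (ATwelve.nun.congr e.symm).se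
  · exact key (hS.l43 G hG hr h)
  · exact key (hS.u43 G hG hr h)
  · exact key (hS.g23 G hG hr h)
  · exact absurd hσ (not_hyp hM (hT.s_o73 G h) (hT.ne.o73 G h) (hT.o73 G h))
  · exact absurd hσ (not_hyp hM (hT.s_o8p3 G h) (hT.ne.o8p3 G h) (hT.o8p3 G h))
  · exact absurd hσ (not_hyp hM (hT.s_o8m3 G h) (hT.ne.o8m3 G h) (hT.o8m3 G h))
  · rcases h with h | h | h | h | h | h | h | h | h | h | h | h | h | h | h | h | h | h | h | h
    · exact key (hS.m22 G hG hr h)
    · exact key (hS.m23 G hG hr h)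
    · exact key (hS.m24 G hG hr h)
    · exact key (hS.j2 G hG hr h)
    · exact key (hS.j3 G hG hr h)
    · exact key (hS.j4 G hG hr h)
    · exact key (hS.hs G hG hr h)
    · exact key (hS.he G hG hr h)
    · exact key (hS.ru G hG hr h)
    · exact key (hS.suz G hG hr h)
    · exact absurd hσ (not_hyp hM (hT.s_co1 G h) (hT.ne.co1 G h) (hT.co1 G h))
    · exact key (hS.co2 G hG hr h)
    · exact key (hS.co3 G hG hr h)
    · exact absurd hσ (not_hyp hM (hT.s_fi22 G h) (hT.ne.fi22 G h) (hT.fi22 G h))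
    · exact absurd hσ (not_hyp hM (hT.s_fi23 G h) (hT.ne.fi23 G h) (hT.fi23 G h))
    · exact absurd hσ (not_hyp hM (hT.s_fi24 G h) (hT.ne.fi24 G h) (hT.fi24 G h))
    · exact key (hS.hn G hG hr h)
    · exact key (hS.th G hG hr h)
    · exact absurd hσ (not_hyp hM (hT.s_b G h) (hT.ne.b G h) (hT.b G h))
    · exact absurd hσ (not_hyp hM (hT.s_m G h) (hT.ne.m G h) (hT.m G h))

end Cfsg.Agent.UniqLoc.Main

end

-- merged: Cfsg.Agent.UniqLoc.CharTwo
section

/-!
# S1808: groups of characteristic 2 type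

`se_of_charTwo` : a simple group of characteristic 2 type and of 2-rank at least 3, in which every maximal 2-local subgroup
over a Sylow 2-subgroup `T` contains `N_G(T)`: a unique maximal 2-local subgroup over `N_G(S)` is strongly embedded.
(From `SmallRank.charTwo_unique` of helper25.)
-/

set_option autoImplicit false

namespace Cfsg.Agent.UniqLoc.CharTwo

open Subgroup Cfsg Cfsg.Agent.QTUnique

/-- Elementary abelian 2-subgroups of a group with a cyclic subgroup of index at most 2. -/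
theorem card_le_four {S : Type*} [Group S] [Finite S] (x : S) (hx : (zpowers x).index ≤ 2) (A : Subgroup S)
    (hA : ∀ a ∈ A, a ^ 2 = 1) : Nat.card A ≤ 4 := by
  have h1 : Nat.card ↥(A ⊓ zpowers x) ≤ 2 := by
    have hc : IsCyclic ↥(A ⊓ zpowers x) := by
      have h2 : IsCyclic ↥(zpowers x) := inferInstance
      exact isCyclic_of_injective (inclusion (inf_le_right : A ⊓ zpowers x ≤ zpowers x)) (inclusion_injective _)
    obtain ⟨g, hg⟩ := hc.exists_generator
    have h3 : g ^ 2 = 1 := Subtype.ext (hA _ g.2.1)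
    have h4 : orderOf g = Nat.card ↥(A ⊓ zpowers x) := orderOf_eq_card_of_forall_mem_zpowers hg
    rw [← h4]
    exact Nat.le_of_dvd (by norm_num) (orderOf_dvd_of_pow_eq_one h3)
  have h2 : Nat.card ↥(A ⊓ zpowers x) * (A ⊓ zpowers x).relIndex A = Nat.card A := by
    rw [← relIndex_bot_left, ← relIndex_bot_left]
    exact relIndex_mul_relIndex _ _ _ bot_le inf_le_left
  have h3 : (A ⊓ zpowers x).relIndex A ≤ 2 := by
    rw [inf_relIndex_left]
    refine le_trans (relIndex_le_of_le_right le_top ?_) (by rwa [relIndex_top_right])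
    rw [relIndex_top_right]
    exact index_ne_zero_of_finite
  calc Nat.card A = Nat.card ↥(A ⊓ zpowers x) * (A ⊓ zpowers x).relIndex A := h2.symm
    _ ≤ 2 * 2 := Nat.mul_le_mul h1 h3
    _ = 4 := by norm_num

theorem pRankLE_two_of_index {S : Type*} [Group S] [Finite S] {x : S} (hx : (zpowers x).index ≤ 2) : PRankLE 2 2 S :=
  fun A _ hA => card_le_four x hx A hA

theorem pRankLE_two_of_dihedral {S : Type*} [Group S] [Finite S] {n : ℕ} (hn : n ≠ 0) (e : S ≃* DihedralGroup n) :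
    PRankLE 2 2 S := by
  have : NeZero n := ⟨hn⟩
  refine pRankLE_two_of_index (x := e.symm (DihedralGroup.r 1)) ?_
  have h1 : Nat.card (zpowers (e.symm (DihedralGroup.r 1))) = n := by
    rw [Nat.card_zpowers]
    exact (orderOf_injective e.symm.toMonoidHom e.symm.injective _).trans DihedralGroup.orderOf_r_one
  have h2 := (zpowers (e.symm (DihedralGroup.r 1))).card_mul_index
  rw [h1, Nat.card_congr e.toEquiv, DihedralGroup.nat_card] at h2
  have h3 : n * (zpowers (e.symm (DihedralGroup.r 1))).index = n * 2 := by rw [h2, mul_comm]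
  exact (Nat.eq_of_mul_eq_mul_left (Nat.pos_of_ne_zero hn) h3).le

theorem pRankLE_two_of_quasi {S : Type*} [Group S] [Finite S] (h : IsQuasiDihedral S) : PRankLE 2 2 S := by
  obtain ⟨n, -, hc, x, y, hx, -, -⟩ := h
  refine pRankLE_two_of_index (x := x) ?_
  have h2 := (zpowers x).card_mul_index
  rw [Nat.card_zpowers, hx, hc, pow_succ] at h2
  exact (Nat.eq_of_mul_eq_mul_left (by positivity) h2).le

/-- The 2-rank of a group is that of a Sylow 2-subgroup. -/
theorem not_pRankLE_of_atLeast {G : Type*} [Group G] [Finite G] (h : PRankAtLeast 2 3 G) (S : Sylow 2 G) :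
    ¬ PRankLE 2 2 ↥(S : Subgroup G) := by
  have h2 : Fact (Nat.Prime 2) := ⟨Nat.prime_two⟩
  intro hS
  obtain ⟨A, hA, hA2, hc⟩ := h
  have hAp : IsPGroup 2 A := fun a => ⟨1, Subtype.ext (by rw [pow_one]; exact hA2 a a.2)⟩
  obtain ⟨T, hT⟩ := hAp.exists_le_sylow
  obtain ⟨g, hg⟩ := MulAction.exists_smul_eq G T S
  have hmem : ∀ a ∈ A, g * a * g⁻¹ ∈ (S : Subgroup G) := by
    intro a ha
    rw [← hg]
    exact ⟨a, hT ha, rfl⟩
  let f : A →* ↥(S : Subgroup G) :=
    { toFun := fun a => ⟨g * a * g⁻¹, hmem a a.2⟩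
      map_one' := Subtype.ext (by simp)
      map_mul' := fun a b => Subtype.ext (by
        show g * ((a : G) * (b : G)) * g⁻¹ = (g * a * g⁻¹) * (g * b * g⁻¹)
        group) }
  have hf : Function.Injective f := by
    intro a b hab
    have h1 : g * (a : G) * g⁻¹ = g * (b : G) * g⁻¹ := congrArg Subtype.val hab
    exact Subtype.ext (mul_left_cancel (mul_right_cancel h1))
  have h3 := hS f.range ?_ ?_
  · rw [← Nat.card_congr (MonoidHom.ofInjective hf).toEquiv] at h3
    norm_num at hc h3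
    omega
  · refine ⟨⟨?_⟩⟩
    rintro ⟨_, a, rfl⟩ ⟨_, b, rfl⟩
    apply Subtype.ext
    show f a * f b = f b * f a
    rw [← map_mul, ← map_mul, hA.is_comm.comm a b]
  · rintro _ ⟨a, rfl⟩
    rw [← map_pow]
    have : a ^ 2 = 1 := Subtype.ext (hA2 a a.2)
    rw [this, map_one]

variable {G : Type*} [Group G] [Finite G] [IsSimpleGroup G]

/-- **Characteristic 2 type.** -/
theorem se_of_charTwo (hna : ¬ IsMulCommutative G) (hc : IsCharacteristicTwoType G) (hr : PRankAtLeast 2 3 G)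
    (hN : QTNorm.NT G) : SE G := by
  intro S M hM
  have hM' : maxTwoLocalsContaining (S : Subgroup G) = {M} := by
    rw [← hM, over_eq]
    ext K
    simp only [maxTwoLocalsContaining, Set.mem_ofPred_eq]
    exact ⟨fun h => ⟨h.1, hN S K h.1 h.2⟩, fun h => ⟨h.1, le_normalizer.trans h.2⟩⟩
  rcases SmallRank.charTwo_unique hna hc S M hM' with h | ⟨S₁, -, h⟩
  · exact ClassEven.StronglyP.isStronglyPEmbedded h
  · exfalso
    refine not_pRankLE_of_atLeast hr S₁ ?_
    rcases h with ⟨n, hn, ⟨e⟩⟩ | h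
    · exact pRankLE_two_of_dihedral (by omega) e
    · exact pRankLE_two_of_quasi h

end Cfsg.Agent.UniqLoc.CharTwo

end

-- merged: Cfsg.Agent.UniqLoc.RowsC
section

/-!
# S1808: the rows of characteristic 2 type

`SE` for `U₄(3)`, `G₂(3)`, `M₂₂`, `M₂₃`, `M₂₄`; for `J₃` modulo `QTNorm.NT`.
-/

set_option autoImplicit false

namespace Cfsg.Agent.UniqLoc.RowsC

open Cfsg

variable {G : Type*} [Group G] [Finite G] [IsSimpleGroup G]

theorem even_of (h : IsCharacteristicTwoType G) : IsOfEvenCharacteristic G := by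
  rintro M ⟨T, hT, h1, rfl⟩ -
  exact h.2 T hT h1

theorem se_u43 (hna : ¬ IsMulCommutative G) (hr : PRankAtLeast 2 3 G) {F : Type} [Field F] [Fintype F]
    (hF : Fintype.card F = 9) (e : G ≃* Cfsg.PSU 4 F 3) : SE G :=
  CharTwo.se_of_charTwo hna (OddHalf.Small.Transport.isCharacteristicTwoType e.symm (OddHalf.Small.U43.charTwo_U43 F hF)) hr
    (QTNorm.UFourThree.NT_u43 hF e)

theorem se_g23 (hna : ¬ IsMulCommutative G) (hr : PRankAtLeast 2 3 G) {F : Type} [Field F] [Fintype F]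
    (hF : Fintype.card F = 3) (e : G ≃* ↥(Lie.chevG2.group F)) : SE G :=
  CharTwo.se_of_charTwo hna (OddHalf.Small.Transport.isCharacteristicTwoType e.symm (OddHalf.Small.G23.g23 F hF)) hr
    (QTNorm.GTwoThree.NT_g23 hF e)

theorem se_m22 (hna : ¬ IsMulCommutative G) (hr : PRankAtLeast 2 3 G) (h : Spor.IsoM22 G) : SE G :=
  have hc : IsCharacteristicTwoType G := OddHalf.Small.M2223.m22 G h
  CharTwo.se_of_charTwo hna hc hr (QTNorm.nt_m22 (even_of hc) h)

theorem se_m23 (hna : ¬ IsMulCommutative G) (hr : PRankAtLeast 2 3 G) (h : Spor.IsoM23 G) : SE G :=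
  have hc : IsCharacteristicTwoType G := OddHalf.Small.M2223.m23 G h
  CharTwo.se_of_charTwo hna hc hr (QTNorm.nt_m23 (even_of hc) h)

theorem se_m24 (hna : ¬ IsMulCommutative G) (hr : PRankAtLeast 2 3 G) (h : Spor.IsoM24 G) : SE G :=
  CharTwo.se_of_charTwo hna (OddHalf.Small.M24Char.m24 h) hr (QTNorm.nt_m24 h)

theorem se_j3 (hna : ¬ IsMulCommutative G) (hr : PRankAtLeast 2 3 G) (hN : QTNorm.NT G) (h : Spor.IsoJ3 G) : SE G :=
  CharTwo.se_of_charTwo hna (OddHalf.Small.J3.j3 G h) hr hN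

end Cfsg.Agent.UniqLoc.RowsC

end

-- merged: Cfsg.Agent.UniqLoc.RowsN
section

/-!
# S1808: the rows with at least two maximal 2-local subgroups over a Sylow 2-subgroup

`NUN` (no unique maximal 2-local subgroup over `N_G(S)`) for `L₄(3)`, `He`; for `J₂`, `HS` modulo `QTNorm.NT`.
-/

set_option autoImplicit false

namespace Cfsg.Agent.UniqLoc.RowsN

open Cfsg Cfsg.Agent.QTUnique

theorem nun_l43 {G : Type*} [Group G] [Finite G] {F : Type*} [Field F] [Fintype F] (hF : Fintype.card F = 3)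
    (e : G ≃* Matrix.ProjectiveSpecialLinearGroup (Fin 4) F) : NUN G :=
  nun_of_notUnique ((QTUnique.LFourThree.notUnique hF).congr e.symm) (QTNorm.LFourThree.NT_l43 hF e)

theorem nun_he {G : Type*} [Group G] [Finite G] [IsSimpleGroup G] (h : Spor.IsoHe G) : NUN G :=
  nun_of_notUnique (QTUnique.He.notUnique h) (QTNorm.nt_he h)

theorem nun_j2 {G : Type*} [Group G] [Finite G] [IsSimpleGroup G] (hna : ¬ IsMulCommutative G) (hN : QTNorm.NT G)
    (h : Spor.IsoJ2 G) : NUN G :=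
  nun_of_notUnique (QTUnique.JTwo.notUnique hna h) hN

theorem nun_hs {G : Type*} [Group G] [Finite G] (hN : QTNorm.NT G) (h : Spor.IsoHS G) : NUN G :=
  nun_of_notUnique (QTUnique.HS.notUnique h) hN

end Cfsg.Agent.UniqLoc.RowsN

end

-- merged: Cfsg.Agent.UniqLoc.HN
section

/-!
# S1808, `HN`: no unique maximal 2-local subgroup over `N_G(T)` (helper49)

`T = Pc s 14`; `Pc s 2 = ⟨s 0, s 1⟩` is a term of the lower central series of `T`; a conjugate `c⁻¹ n c` of the element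
`n` (with `⟨C(s 0), n⟩ = HN`) by an element `c` of `C(s 0)` normalizes it.
-/

set_option autoImplicit false

namespace Cfsg.Agent.UniqLoc.HN

open Subgroup Cfsg.Agent.Lib.PackMat Cfsg.Agent.Lib.PackMatGroup
open Cfsg.Agent.HN.RepData Cfsg.Agent.HN.Rep Cfsg.Agent.HN.TGroup Cfsg.Agent.HN.PC Cfsg.Agent.HN.TRel
  Cfsg.Agent.HN.TSyl Cfsg.Agent.HN.XWords Cfsg.Agent.HN.XStruct Cfsg.Agent.HN.TDataA
open Cfsg.Agent.KFacts.HN.YTrick Cfsg.Agent.KFacts.HN.Classes
open Cfsg.Agent.UniqLoc Cfsg.Agent.UniqLoc.Second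

local notation "nn" => Cfsg.Agent.KFacts.HN.CentTwoHN.n
local notation "zz'" => Cfsg.Agent.KFacts.HN.CentTwoHN.z'

/-- the letters, `Γ 1`, `(Γ 1)⁻¹`, `t1` -/
def G3 : List Cfsg.Spor.HN := G1 ++ [t1]

/-- their packed matrices -/
def L3 : List ℕ := L1 ++ [T1]

theorem codesG3 : List.Forall₂ (Codes C) (G3.map rho) L3 := by
  rw [G3, L3, List.map_append]
  exact List.rel_append Cfsg.Agent.KFacts.HN.YTrick.codes1 (.cons Cfsg.Agent.HN.TGroup.codes1 .nil)

/-- word of `c` -/
def cW : List ℕ := [2, 8, 2, 8]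

/-- the element `c` -/
def c : Cfsg.Spor.HN := evG G3 cW

/-- the words of `c t1` and `z' c` -/
def wl : List ℕ := [2, 8, 2, 8, 10]
def wr : List ℕ := [0, 0, 0, 4, 2, 2, 2, 4, 1, 2, 8, 2, 8]

set_option Elab.async false in
theorem ckc : checkEq C (cw L3 wl) (cw L3 wr) 0 133 = true := by (rewrite [Cfsg.Agent.Lib.PackCol.checkEq_col]; decide +kernel)

theorem c_s1 : c * t1 = zz' * c := by
  have h : evG G3 wl = evG G3 wr := rel_of codesG3 (by decide +kernel) (by decide +kernel) ckc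
  have h1 : evG G3 wl = evG G3 cW * evG G3 [10] := evG_append G3 cW [10]
  have h2 : evG G3 wr = evG G3 (([0, 0] ++ [0, 4, 2, 2, 2, 4, 1]) ++ cW) := rfl
  rw [h1, h2, evG_append, evG_append] at h
  have e1 : evG G3 [10] = t1 := by rw [evG_cons, evG_nil, mul_one]; rfl
  have e2 : evG G3 [0, 0] * evG G3 [0, 4, 2, 2, 2, 4, 1] = zz' := by
    rw [Cfsg.Agent.KFacts.HN.CentTwoHN.z'_eq, V_append]; rfl
  rw [e1, e2] at h
  exact h

theorem c_comm : c * W0 = W0 * c := by
  have h0 : evG G3 cW = V (gw 0) * (V (gw 1) * (V (gw 0) * V (gw 1))) := by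
    rw [cW, evG_cons, evG_cons, evG_cons, evG_cons, evG_nil, mul_one]
    have e2 : V (gw 0) = G3.getD 2 1 := by
      show V [2] = _
      exact (Cfsg.Agent.KFacts.HN.CentTwoHN.V_single 2)
    rw [e2]
    rfl
  have h1 : V (gw 0) * W0 = W0 * V (gw 0) := (cwg 0).symm
  have h2 : V (gw 1) * W0 = W0 * V (gw 1) := (cwg 1).symm
  have k1 : Commute (V (gw 0)) W0 := h1
  have k2 : Commute (V (gw 1)) W0 := h2
  show evG G3 cW * W0 = W0 * evG G3 cW
  rw [h0]
  exact (k1.mul_left (k2.mul_left (k1.mul_left k2))).eq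

theorem s1_eq : s 1 = t1 := rfl

/-- the element `c⁻¹ n c` of the normalizer of `⟨s 0, s 1⟩` -/
def y : Cfsg.Spor.HN := c⁻¹ * nn * c

theorem y_s0 : y * s 0 * y⁻¹ = s 1 := by
  rw [s0_eq, s1_eq]
  have h1 := Cfsg.Agent.KFacts.HN.CentTwoHN.n_W0
  have h2 := c_comm
  have h3 := c_s1
  have h4 : nn * W0 * nn⁻¹ = zz' := by rw [h1, mul_inv_cancel_right]
  have h5 : c * W0 * c⁻¹ = W0 := by rw [h2, mul_inv_cancel_right]
  have h6 : c⁻¹ * zz' * c = t1 := by rw [mul_assoc, ← h3, inv_mul_cancel_left]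
  calc y * W0 * y⁻¹ = c⁻¹ * (nn * (c * W0 * c⁻¹) * nn⁻¹) * c := by rw [y]; group
    _ = t1 := by rw [h5, h4, h6]

theorem y_s1 : y * s 1 * y⁻¹ = s 0 * s 1 := by
  rw [s0_eq, s1_eq]
  have h1 := Cfsg.Agent.KFacts.HN.CentTwoHN.n_z'
  have h2 := c_comm
  have h3 := c_s1
  have h4 : nn * zz' * nn⁻¹ = W0 * zz' := by rw [h1, mul_inv_cancel_right]
  have h5 : c * t1 * c⁻¹ = zz' := by rw [h3, mul_inv_cancel_right]
  have h6 : c⁻¹ * zz' * c = t1 := by rw [mul_assoc, ← h3, inv_mul_cancel_left]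
  have h7 : c⁻¹ * W0 * c = W0 := by rw [mul_assoc, ← h2, inv_mul_cancel_left]
  calc y * t1 * y⁻¹ = c⁻¹ * (nn * (c * t1 * c⁻¹) * nn⁻¹) * c := by rw [y]; group
    _ = (c⁻¹ * W0 * c) * (c⁻¹ * zz' * c) := by rw [h5, h4]; group
    _ = W0 * t1 := by rw [h6, h7]

theorem y_mem : ∀ u ∈ Pc s 2, y * u * y⁻¹ ∈ Pc s 2 := by
  apply conj_closure
  rintro _ ⟨i, hi, rfl⟩
  have hi' : i < 2 := hi
  interval_cases i
  · rw [y_s0]; exact mem_Pc (by norm_num)
  · rw [y_s1]; exact mul_mem (mem_Pc (by norm_num)) (mem_Pc (by norm_num))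

/-- `Pc s 2` is a term of the lower central series of `Pc s 14` -/
theorem norm_Pc : normalizer ((Pc s 14 : Subgroup Cfsg.Spor.HN) : Set Cfsg.Spor.HN) ≤
    normalizer ((Pc s 2 : Subgroup Cfsg.Spor.HN) : Set Cfsg.Spor.HN) := by
  have h := hinj
  have e1 : ⁅Pc s 14, Pc s 14⁆ = Pc s 10 := commutator_eq h (by norm_num) (by norm_num) (by decide) (by decide)
  have e2 : ⁅Pc s 14, Pc s 10⁆ = Pc s 7 := commutator_eq h (by norm_num) (by norm_num) (by decide) (by decide)
  have e3 : ⁅Pc s 14, Pc s 7⁆ = Pc s 5 := commutator_eq h (by norm_num) (by norm_num) (by decide) (by decide)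
  have e4 : ⁅Pc s 14, Pc s 5⁆ = Pc s 3 := commutator_eq h (by norm_num) (by norm_num) (by decide) (by decide)
  have e5 : ⁅Pc s 14, Pc s 3⁆ = Pc s 2 := commutator_eq h (by norm_num) (by norm_num) (by decide) (by decide)
  rw [← e5, ← e4, ← e3, ← e2, ← e1]
  have l := le_refl (normalizer ((Pc s 14 : Subgroup Cfsg.Spor.HN) : Set Cfsg.Spor.HN))
  exact le_normalizer_commutator l (le_normalizer_commutator l (le_normalizer_commutator l
    (le_normalizer_commutator l (le_normalizer_commutator l l))))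

theorem not_comm : ¬ IsMulCommutative Cfsg.Spor.HN := by
  intro h
  have h1 := h.is_comm.comm y (s 0)
  have h2 := y_s0
  rw [h1, mul_inv_cancel_right] at h2
  have := Cfsg.Agent.KFacts.HN.YTrick.finiteHN
  exact Cfsg.Agent.HN.TSyl.notMem hinj (k := 1) (by norm_num) (by rw [← h2]; exact mem_Pc (by norm_num))

/-- **`HN`**: no unique maximal 2-local subgroup over `N_G(T)`. -/
theorem nun : NUN Cfsg.Spor.HN := by
  have := Cfsg.Agent.KFacts.HN.YTrick.finiteHN
  have hs : IsSimpleGroup Cfsg.Spor.HN := Cfsg.Agent.S1701.result.1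
  have hgen := Cfsg.Agent.KFacts.HN.CentTwoHN.hgen
  rw [← s0_eq] at hgen
  have hcz : c * s 0 = s 0 * c := by rw [s0_eq]; exact c_comm
  refine nun_of_norm not_comm T (z := s 0) (U := Pc s 2) (y := y) (n := nn) (c := c⁻¹)
    (fun h => ?_) (mem_Pc (by norm_num)) (fun t ht => ?_) (fun u hu h => ?_) (Pc_mono (by norm_num))
    (mem_Pc (by norm_num)) norm_Pc y_mem ?_ ?_ hgen
  · rw [s0_eq] at h
    exact Cfsg.Agent.KFacts.HN.CentTwoHN.W0_ne h
  · rw [s0_eq]; exact comm_T ht
  · have h1 := eq_of_mem_Pc1 (Cfsg.Agent.KFacts.HN.SylCenter.center_T hinj hu fun v hv => (h v hv).symm)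
    rw [s0_eq]; exact h1
  · calc c⁻¹ * s 0 = c⁻¹ * (s 0 * c) * c⁻¹ := by group
      _ = c⁻¹ * (c * s 0) * c⁻¹ := by rw [hcz]
      _ = s 0 * c⁻¹ := by group
  · have h5 : c * s 0 * c⁻¹ = s 0 := by rw [hcz, mul_inv_cancel_right]
    calc y * s 0 * y⁻¹ = c⁻¹ * (nn * (c * s 0 * c⁻¹) * nn⁻¹) * c := by rw [y]; group
      _ = c⁻¹ * (nn * s 0 * nn⁻¹) * (c⁻¹)⁻¹ := by rw [h5, inv_inv]

end Cfsg.Agent.UniqLoc.HN

end

-- merged: Cfsg.Agent.UniqLoc.Co3
section

/-!
# S1808, `Co₃`: no unique maximal 2-local subgroup over `N_G(T)` (helper49)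

`T = U`, the unitriangular subgroup of `N(E)`, `E = {ee i | i < 16}`, has order `2^10`; the involutions of its second
centre generate `⟨Z, b⟩ = {ee i | i < 4}`, which is normalized by the element `W0` with `⟨C(Z), W0⟩ = Co₃`.
-/

set_option autoImplicit false
set_option Elab.async false

namespace Cfsg.Agent.UniqLoc.Co3

open Subgroup Cfsg Cfsg.Agent.SporRec.TwoSp6.Mat Cfsg.Agent.SporRec.TwoSp6.Model Cfsg.Agent.SporRec.TwoSp6.Order
  Cfsg.Agent.SporRec.Co3.Ident Cfsg.Agent.SporRec.Co3.Chain Cfsg.Agent.SporRec.TwoSp6.Lift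
  Cfsg.Agent.SporRec.TwoSp6.EFacts Cfsg.Agent.SporRec.TwoSp6.Conj
  Cfsg.Agent.SporRec.Co3DC.EAct Cfsg.Agent.KFacts.Co3.AutM Cfsg.Agent.KFacts.Co3.Cent Cfsg.Agent.KFacts.Co3.Syl
  Cfsg.Agent.UniqLoc Cfsg.Agent.UniqLoc.Second

/-! ### The order of `U` -/

/-- the actions of the three generators -/
def ga : ℕ → ℕ × ℕ × ℕ
  | 0 => (3, 4, 8)
  | 1 => (2, 4, 12)
  | _ => (2, 6, 9)

/-- the three generators -/
noncomputable def gm : ℕ → G3
  | 0 => phi0 (v [0])
  | 1 => phi0 (v t1W)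
  | _ => phi0 (v t2W)

/-- the action of a word -/
def aw : List ℕ → ℕ × ℕ × ℕ
  | [] => (2, 4, 8)
  | k :: w => (lin 1 (aw w).1 (aw w).2.1 (aw w).2.2 (ga k).1, lin 1 (aw w).1 (aw w).2.1 (aw w).2.2 (ga k).2.1,
      lin 1 (aw w).1 (aw w).2.1 (aw w).2.2 (ga k).2.2)

/-- the value of a word -/
noncomputable def em : List ℕ → G3
  | [] => 1
  | k :: w => gm k * em w

theorem act_gm (k : ℕ) : Act phi0 (gm k) 1 (ga k).1 (ga k).2.1 (ga k).2.2 := by
  match k with
  | 0 => exact act_of_chk phi0 chk0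
  | 1 => exact act_of_chk phi0 chk1
  | k + 2 => exact act_of_chk phi0 chk2

theorem act_em (w : List ℕ) : Act phi0 (em w) 1 (aw w).1 (aw w).2.1 (aw w).2.2 := by
  induction w with
  | nil => exact Act.one phi0
  | cons k w ih =>
    have h := (act_gm k).mul ih
    rw [lin1] at h
    exact h

theorem gm_mem (k : ℕ) : gm k ∈ U := by
  match k with
  | 0 => exact mem0
  | 1 => exact mem1
  | k + 2 => exact mem2

theorem em_mem (w : List ℕ) : em w ∈ U := by
  induction w with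
  | nil => exact U.one_mem
  | cons k w ih => exact U.mul_mem (gm_mem k) ih

/-- representatives of the 64 unitriangular matrices -/
def W64 : List (List ℕ) :=
  [[], [0], [1], [2], [1,0], [2,0], [2,1], [0,2], [1,2], [2,1,0], [0,2,0], [1,2,0], [0,2,1], [1,2,1], [1,0,2], [2,0,2],
  [2,1,2], [0,2,1,0], [1,2,1,0], [1,0,2,0], [2,0,2,0], [2,1,2,0], [1,0,2,1], [2,0,2,1], [2,1,2,1], [2,1,0,2],
  [1,2,0,2], [0,2,1,2], [1,0,2,1,0], [2,0,2,1,0], [2,1,2,1,0], [2,1,0,2,0], [1,2,0,2,0], [0,2,1,2,0], [2,1,0,2,1],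
  [1,2,0,2,1], [0,2,1,2,1], [0,2,1,0,2], [1,2,1,0,2], [2,1,2,0,2], [2,0,2,1,2], [2,1,0,2,1,0], [1,2,0,2,1,0],
  [0,2,1,2,1,0], [0,2,1,0,2,0], [1,2,1,0,2,0], [2,1,2,0,2,0], [2,0,2,1,2,0], [2,1,2,0,2,1], [2,0,2,1,2,1],
  [2,0,2,1,0,2], [2,1,2,1,0,2], [0,2,1,2,0,2], [1,2,0,2,1,2], [2,1,2,0,2,1,0], [2,0,2,1,2,1,0], [2,0,2,1,0,2,0],
  [2,1,2,1,0,2,0], [0,2,1,2,0,2,0], [1,2,0,2,1,2,0], [2,0,2,1,2,0,2], [2,1,2,0,2,1,2], [2,0,2,1,2,0,2,0],
  [2,1,2,0,2,1,2,0]]

theorem len64 : W64.length = 64 := by decide +kernel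

theorem nd64 : (W64.map aw).Nodup := by decide +kernel

/-- the action is determined -/
theorem act_unique {g : G3} {a b c d a' b' c' d' : ℕ} (h : Act phi0 g a b c d) (h' : Act phi0 g a' b' c' d') :
    a = a' ∧ b = b' ∧ c = c' ∧ d = d' :=
  ⟨ee_inj hyp h.ha h'.ha (h.h1.symm.trans h'.h1), ee_inj hyp h.hb h'.hb (h.h2.symm.trans h'.h2),
    ee_inj hyp h.hc h'.hc (h.h4.symm.trans h'.h4), ee_inj hyp h.hd h'.hd (h.h8.symm.trans h'.h8)⟩

theorem act_ee_mul {i : ℕ} (hi : i < 16) {g : G3} {b c d : ℕ} (h : Act phi0 g 1 b c d) :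
    Act phi0 (ee phi0 i * g) 1 b c d := by
  have h1 := (Act.of_ee phi0 hi).mul h
  rw [lin1, lin2, lin4, lin8] at h1
  exact h1

theorem card_U_ge : 1024 ≤ Nat.card U := by
  have := finite_G3
  let f : Fin 16 × Fin 64 → U := fun x => ⟨ee phi0 x.1 * em (W64.getD x.2 []), U.mul_mem (ee_mem x.1.2) (em_mem _)⟩
  have hf : Function.Injective f := by
    rintro ⟨i, k⟩ ⟨j, l⟩ h
    have h0 : ee phi0 i * em (W64.getD k []) = ee phi0 j * em (W64.getD l []) := congrArg Subtype.val h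
    have h1 := act_ee_mul i.2 (act_em (W64.getD k []))
    have h2 := act_ee_mul j.2 (act_em (W64.getD l []))
    rw [← h0] at h2
    obtain ⟨-, e1, e2, e3⟩ := act_unique h1 h2
    have e : aw (W64.getD k []) = aw (W64.getD l []) := Prod.ext e1 (Prod.ext e2 e3)
    have hk : (k : ℕ) < W64.length := by rw [len64]; exact k.2
    have hl : (l : ℕ) < W64.length := by rw [len64]; exact l.2
    have hkl : (k : ℕ) = l := by
      have hk' : (k : ℕ) < (W64.map aw).length := by rw [List.length_map]; exact hk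
      have hl' : (l : ℕ) < (W64.map aw).length := by rw [List.length_map]; exact hl
      refine (nd64.getElem_inj_iff (hi := hk') (hj := hl')).1 ?_
      rw [List.getElem_map, List.getElem_map]
      rw [List.getD_eq_getElem _ _ hk, List.getD_eq_getElem _ _ hl] at e
      exact e
    have hkl' : k = l := Fin.ext hkl
    subst hkl'
    have h3 := ee_inj hyp i.2 j.2 (mul_right_cancel h0)
    exact Prod.ext (Fin.ext h3) rfl
  have h := Nat.card_le_card_of_injective f hf
  rw [Nat.card_prod, Nat.card_eq_fintype_card, Nat.card_eq_fintype_card, Fintype.card_fin, Fintype.card_fin] at h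
  exact h

theorem fac : (Nat.card G3).factorization 2 = 10 := by
  rw [isCo3_G3.2, show (495766656000 : ℕ) = 2 ^ 10 * 484147125 by norm_num]
  have h2 : (484147125 : ℕ).factorization 2 = 0 := Nat.factorization_eq_zero_of_not_dvd (by norm_num)
  rw [Nat.factorization_mul (by norm_num) (by norm_num), Nat.Prime.factorization_pow Nat.prime_two,
    Finsupp.add_apply, h2, Finsupp.single_eq_same]

/-- **the Sylow 2-subgroup `U`** -/
theorem exists_T : ∃ T : Sylow 2 G3, (T : Subgroup G3) = U := by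
  have := finite_G3
  have : Fact (Nat.Prime 2) := ⟨Nat.prime_two⟩
  obtain ⟨S, hS⟩ := isPGroup_U.exists_le_sylow
  refine ⟨S, (eq_of_le_of_card_ge hS ?_).symm⟩
  have h1 : Nat.card S = 2 ^ (Nat.card G3).factorization 2 := S.card_eq_multiplicity
  rw [fac] at h1
  rw [h1]
  exact card_U_ge

/-! ### The second centre -/

/-- `x u = u x` or `x u = Z u x` -/
def CZ (x u : G3) : Prop := x * u = u * x ∨ x * u = Z * (u * x)

theorem Z_comm_U {x : G3} (hx : x ∈ U) : x * Z = Z * x := mem_centralizer_singleton_iff.1 (U_le hx)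

theorem CZ.mul {x y u : G3} (hx : x * Z = Z * x) (h : CZ x u) (h' : CZ y u) : CZ (x * y) u := by
  rcases h with h | h <;> rcases h' with h' | h'
  · left
    rw [mul_assoc, h', ← mul_assoc, h, mul_assoc]
  · right
    calc x * y * u = x * (y * u) := by group
      _ = (x * Z) * (u * y) := by rw [h']; group
      _ = Z * (x * u) * y := by rw [hx]; group
      _ = Z * (u * (x * y)) := by rw [h]; group
  · right
    calc x * y * u = x * (y * u) := by group
      _ = (x * u) * y := by rw [h']; group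
      _ = Z * (u * (x * y)) := by rw [h]; group
  · left
    calc x * y * u = x * (y * u) := by group
      _ = (x * Z) * (u * y) := by rw [h']; group
      _ = Z * (x * u) * y := by rw [hx]; group
      _ = (Z * Z) * (u * (x * y)) := by rw [h]; group
      _ = u * (x * y) := by rw [Z_sq, one_mul]

/-- action of an element commuting with `E` modulo `Z` -/
theorem act_of_CZ {x : G3} {b c d : ℕ} (hx : Act phi0 x 1 b c d) (h : ∀ i < 16, CZ x (ee phi0 i)) :
    (b = 2 ∨ b = 3) ∧ (c = 4 ∨ c = 5) ∧ (d = 8 ∨ d = 9) := by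
  have key : ∀ i j : ℕ, i < 16 → j < 16 → cj x (ee phi0 i) = ee phi0 j → j = i ∨ j = 1 ^^^ i := by
    intro i j hi hj e
    have hxZ : x * Z = Z * x := by
      have := comm_of_cj hx.h1
      rwa [ee_one, phi0_z] at this
    rcases h i hi with h1 | h1
    · left
      rw [cj_of_comm h1] at e
      exact ee_inj hyp hj hi e.symm
    · right
      have h2 : cj x (ee phi0 i) = Z * ee phi0 i := by
        rw [cj_def]
        have h3 : ee phi0 i * x = x * (Z * ee phi0 i) := by
          calc ee phi0 i * x = (Z * Z) * (ee phi0 i * x) := by rw [Z_sq, one_mul]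
            _ = Z * (Z * (ee phi0 i * x)) := by group
            _ = Z * (x * ee phi0 i) := by rw [h1]
            _ = (Z * x) * ee phi0 i := by group
            _ = x * (Z * ee phi0 i) := by rw [← hxZ]; group
        rw [mul_assoc, h3, inv_mul_cancel_left]
      rw [h2] at e
      have h4 : Z = ee phi0 1 := by rw [ee_one, phi0_z]
      rw [h4, ee_mul phi0 (by norm_num) hi] at e
      have h5 : 1 ^^^ i < 16 := xor_lt 1 (by norm_num) i hi
      exact ee_inj hyp hj h5 e.symm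
  refine ⟨?_, ?_, ?_⟩
  · exact key 2 b (by norm_num) hx.hb hx.h2
  · exact key 4 c (by norm_num) hx.hc hx.h4
  · exact key 8 d (by norm_num) hx.hd hx.h8

/-- elements commuting modulo `Z` have commuting actions -/
theorem act_comm {x u : G3} (h : CZ x u) {b c d b' c' d' : ℕ} (hx : Act phi0 x 1 b c d) (hu : Act phi0 u 1 b' c' d') :
    lin 1 b' c' d' b = lin 1 b c d b' ∧ lin 1 b' c' d' c = lin 1 b c d c' ∧ lin 1 b' c' d' d = lin 1 b c d d' := by
  have h1 := hx.mul hu
  have h2 := hu.mul hx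
  rw [lin1] at h1 h2
  have h3 : Act phi0 (x * u) 1 (lin 1 b c d b') (lin 1 b c d c') (lin 1 b c d d') := by
    rcases h with h | h
    · rw [h]; exact h2
    · rw [h]
      have h4 : Z = ee phi0 1 := by rw [ee_one, phi0_z]
      rw [h4]
      exact act_ee_mul (by norm_num) h2
  exact (act_unique h1 h3).2

/-- an element `ee i` commuting with the three generators modulo `Z` -/
theorem small_of_CZ {i : ℕ} (hi : i < 16) (h1 : CZ (ee phi0 i) (gm 1)) (h2 : CZ (ee phi0 i) (gm 2)) : i < 4 := by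
  have key : ∀ k, CZ (ee phi0 i) (gm k) → lin 1 (ga k).1 (ga k).2.1 (ga k).2.2 i = i ∨
      lin 1 (ga k).1 (ga k).2.1 (ga k).2.2 i = 1 ^^^ i := by
    intro k hk
    have hA := act_gm k
    have e := hA.all hi
    have hl := lin_lt hA.ha hA.hb hA.hc hA.hd i
    rcases hk with hk | hk
    · left
      rw [cj_of_comm hk.symm] at e
      exact ee_inj hyp hl hi e.symm
    · right
      have h3 : cj (gm k) (ee phi0 i) = ee phi0 (1 ^^^ i) := by
        rw [← ee_mul phi0 (by norm_num) hi, ee_one, phi0_z, cj_def, mul_assoc, hk]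
        have h4 : gm k * Z = Z * gm k := Z_comm_U (gm_mem k)
        calc (gm k)⁻¹ * (Z * (gm k * ee phi0 i)) = (gm k)⁻¹ * (Z * gm k) * ee phi0 i := by group
          _ = (gm k)⁻¹ * (gm k * Z) * ee phi0 i := by rw [h4]
          _ = Z * ee phi0 i := by group
      rw [h3] at e
      exact ee_inj hyp hl (xor_lt 1 (by norm_num) i hi) e.symm
  have k1 := key 1 h1
  have k2 := key 2 h2
  have hdec : ∀ i < 16, (lin 1 2 4 12 i = i ∨ lin 1 2 4 12 i = 1 ^^^ i) →
      (lin 1 2 6 9 i = i ∨ lin 1 2 6 9 i = 1 ^^^ i) → i < 4 := by decide +kernel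
  exact hdec i hi k1 k2

/-- the lift of a transvection in the second centre -/
noncomputable def x0 : G3 := phi0 (v [6])

theorem chk6 : chk ([6], 2, 4, 9) = true := by decide +kernel

theorem act_x0 : Act phi0 x0 1 2 4 9 := act_of_chk phi0 chk6

theorem v6 : v [6] = gen 6 := by
  show wv gen z [6] = _
  rw [wv_cons, wv_nil, mul_one]
  rfl

theorem x0_sq : x0 * x0 = Z := by
  rw [x0, ← map_mul, v6, rels.sq, phi0_z]

theorem x0_gm (k : ℕ) : CZ x0 (gm k) := by
  have key : ∀ w : List ℕ, (Nat.beq (wN (6 :: w)) (wN (w ++ [6])) || Nat.beq (wN (6 :: w)) (wN (7 :: (w ++ [6])))) = true →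
      CZ x0 (phi0 (v w)) := by
    intro w h
    have e1 : v [6] * v w = v (6 :: w) := by
      show wv gen z [6] * wv gen z w = wv gen z ([6] ++ w)
      rw [wv_append]
    have e2 : v w * v [6] = v (w ++ [6]) := by
      show wv gen z w * wv gen z [6] = wv gen z (w ++ [6])
      rw [wv_append]
    have e3 : z * v (w ++ [6]) = v (7 :: (w ++ [6])) := by
      show z * wv gen z (w ++ [6]) = wv gen z (7 :: (w ++ [6]))
      rw [wv_cons]
      rfl
    rw [Bool.or_eq_true] at h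
    rcases h with h | h
    · left
      have h1 : v (6 :: w) = v (w ++ [6]) := cd_injective ((cd_wv _).trans ((Nat.eq_of_beq_eq_true h).trans (cd_wv _).symm))
      rw [x0, ← map_mul, ← map_mul, e1, e2, h1]
    · right
      have h1 : v (6 :: w) = v (7 :: (w ++ [6])) :=
        cd_injective ((cd_wv _).trans ((Nat.eq_of_beq_eq_true h).trans (cd_wv _).symm))
      rw [x0, ← map_mul, ← map_mul, e1, e2, ← phi0_z, ← map_mul, e3, h1]
  match k with
  | 0 => exact key [0] (by decide +kernel)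
  | 1 => exact key t1W (by decide +kernel)
  | k + 2 => exact key t2W (by decide +kernel)

theorem Z_x0 : x0 * Z = Z * x0 := by
  rw [← x0_sq]; group

/-- **the involutions of the second centre** -/
theorem second {x : G3} (hx : x ∈ U) (h2 : x * x = 1) (h : ∀ u ∈ U, CZ x u) : ∃ i < 4, x = ee phi0 i := by
  obtain ⟨b, c, d, hA, b2, b4, c4, c8, d8⟩ := hx
  have hx : x ∈ U := ⟨b, c, d, hA, b2, b4, c4, c8, d8⟩
  obtain ⟨hb, hc, hd⟩ := act_of_CZ hA fun i hi => h _ (ee_mem hi)
  have k1 := act_comm (h _ (gm_mem 1)) hA (act_gm 1)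
  have k2 := act_comm (h _ (gm_mem 2)) hA (act_gm 2)
  have hbc : b = 2 ∧ c = 4 := by
    have k3 := k1.2.2
    have k4 := k2.2.1
    change lin 1 2 4 12 d = lin 1 b c d 12 at k3
    change lin 1 2 6 9 c = lin 1 b c d 6 at k4
    clear k1 k2 hA hx h b2 b4 c4 c8 d8
    rcases hb with rfl | rfl <;> rcases hc with rfl | rfl <;> rcases hd with rfl | rfl <;>
      first
      | exact ⟨rfl, rfl⟩
      | (revert k3; decide)
      | (revert k4; decide)
  obtain ⟨rfl, rfl⟩ := hbc
  rcases hd with rfl | rfl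
  · obtain ⟨i, hi, rfl⟩ := exists_ee hyp hA
    exact ⟨i, small_of_CZ hi (h _ (gm_mem 1)) (h _ (gm_mem 2)), rfl⟩
  · exfalso
    obtain ⟨i, hi, e⟩ := hA.eq_mul hyp act_x0
    -- `x = ee i * x0`
    have hxZ := Z_comm_U hx
    have hinv : ∀ k, CZ x0⁻¹ (gm k) := by
      intro k
      have h3 : x0⁻¹ = x0 * Z := by
        rw [inv_eq_iff_mul_eq_one, ← mul_assoc, x0_sq, Z_sq]
      have h4 : CZ Z (gm k) := Or.inl (Z_comm_U (gm_mem k)).symm
      rw [h3]
      exact (x0_gm k).mul Z_x0 h4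
    have h5 : ∀ k, CZ (ee phi0 i) (gm k) := by
      intro k
      have h6 : ee phi0 i = x * x0⁻¹ := by rw [e, mul_inv_cancel_right]
      rw [h6]
      exact (h _ (gm_mem k)).mul hxZ (hinv k)
    have h7 := small_of_CZ hi (h5 1) (h5 2)
    have h8 : cj x0 (ee phi0 i) = ee phi0 i := by
      rw [act_x0.all hi]
      have hdec2 : ∀ i < 4, lin 1 2 4 9 i = i := by decide +kernel
      rw [hdec2 i h7]
    have h9 := comm_of_cj h8
    apply Z_ne
    calc Z = (ee phi0 i * ee phi0 i) * (x0 * x0) := by rw [ee_sq phi0 hi, x0_sq, one_mul]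
      _ = ee phi0 i * (ee phi0 i * x0) * x0 := by group
      _ = ee phi0 i * (x0 * ee phi0 i) * x0 := by rw [h9]
      _ = (ee phi0 i * x0) * (ee phi0 i * x0) := by group
      _ = 1 := by rw [← e, h2]

/-- the four-group `⟨Z, b⟩` -/
def V : Subgroup G3 where
  carrier := {x | ∃ i < 4, x = ee phi0 i}
  one_mem' := ⟨0, by norm_num, (ee_zero phi0).symm⟩
  mul_mem' := by
    rintro x y ⟨i, hi, rfl⟩ ⟨j, hj, rfl⟩
    refine ⟨i ^^^ j, ?_, ee_mul phi0 (by omega) (by omega)⟩
    exact Nat.xor_lt_two_pow (n := 2) hi hj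
  inv_mem' := by
    rintro x ⟨i, hi, rfl⟩
    exact ⟨i, hi, ee_inv phi0 (by omega)⟩

theorem V_prop {x : G3} (hx : x ∈ V) : x ∈ U ∧ x * x = 1 ∧ ∀ u ∈ U, CZ x u := by
  obtain ⟨i, hi, rfl⟩ := hx
  refine ⟨ee_mem (by omega), ee_sq phi0 (by omega), ?_⟩
  rintro u ⟨b, c, d, hA, b2, b4, c4, c8, d8⟩
  have e := hA.all (i := i) (by omega)
  have hdec : ∀ b < 4, 2 ≤ b → ∀ i < (4 : ℕ), (((bif i.testBit 0 then 1 else 0) ^^^ (bif i.testBit 1 then b else 0)) = i ∨
      ((bif i.testBit 0 then 1 else 0) ^^^ (bif i.testBit 1 then b else 0)) = 1 ^^^ i) := by decide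
  have hl : lin 1 b c d i = ((bif i.testBit 0 then 1 else 0) ^^^ (bif i.testBit 1 then b else 0)) := by
    have h2 : i.testBit 2 = false := Nat.testBit_lt_two_pow (by omega)
    have h3 : i.testBit 3 = false := Nat.testBit_lt_two_pow (by omega)
    rw [lin_def, h2, h3]
    simp
  have hu : u * Z = Z * u := Z_comm_U ⟨b, c, d, hA, b2, b4, c4, c8, d8⟩
  rcases hdec b b4 b2 i hi with h | h
  · left
    rw [hl, h] at e
    exact (comm_of_cj e).symm
  · right
    rw [hl, h, ← ee_mul phi0 (by norm_num) (by omega), ee_one, phi0_z, cj_def] at e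
    have e1 : ee phi0 i * u = u * (Z * ee phi0 i) := by
      rw [← e]; group
    calc ee phi0 i * u = (u * Z) * ee phi0 i := by rw [e1]; group
      _ = Z * (u * ee phi0 i) := by rw [hu]; group

/-- `W0` normalizes `V` -/
theorem W0_inv (x : G3) (hx : x ∈ V) : W0⁻¹ * x * (W0⁻¹)⁻¹ ∈ V := by
  have h1 : W0⁻¹ * ee phi0 1 * W0 = ee phi0 2 := by
    rw [ee_one, mul_assoc, wrel0.hz, inv_mul_cancel_left]; rfl
  have h2 : W0⁻¹ * ee phi0 2 * W0 = ee phi0 3 := by
    have e : ee phi0 2 * W0 = W0 * (ee phi0 1 * ee phi0 2) := by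
      have := wrel0.hB
      rw [map_mul] at this
      rw [ee_one]
      exact this
    rw [mul_assoc, e, inv_mul_cancel_left, ee_mul phi0 (by norm_num) (by norm_num)]
    rfl
  obtain ⟨i, hi, rfl⟩ := hx
  rw [inv_inv]
  interval_cases i
  · rw [ee_zero, mul_one, inv_mul_cancel]; exact V.one_mem
  · rw [h1]; exact ⟨2, by norm_num, rfl⟩
  · rw [h2]; exact ⟨3, by norm_num, rfl⟩
  · have e : W0⁻¹ * ee phi0 3 * W0 = (W0⁻¹ * ee phi0 1 * W0) * (W0⁻¹ * ee phi0 2 * W0) := by
      rw [show (3 : ℕ) = 1 ^^^ 2 by decide, ← ee_mul phi0 (by norm_num) (by norm_num)]; group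
    rw [e, h1, h2]
    exact V.mul_mem ⟨2, by norm_num, rfl⟩ ⟨3, by norm_num, rfl⟩

theorem W0_mem (x : G3) (hx : x ∈ V) : W0 * x * W0⁻¹ ∈ V := by
  have := finite_G3
  have h1 : W0⁻¹ ∈ normalizer (V : Set G3) := mem_normalizer_of_conj W0_inv
  have h2 : W0 ∈ normalizer (V : Set G3) := by
    have := inv_mem h1
    rwa [inv_inv] at this
  exact (mem_normalizer_iff.1 h2 x).1 hx

theorem hgen : closure ({c : G3 | c * Z = Z * c} ∪ {W0}) = ⊤ := by
  rw [eq_top_iff, ← closure_phi0]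
  apply Subgroup.closure_mono
  rintro x (⟨m, rfl⟩ | hx)
  · left
    show phi0 m * Z = Z * phi0 m
    rw [← phi0_z, ← map_mul, ← map_mul, z_comm]
  · exact Or.inr hx

theorem not_comm : ¬ IsMulCommutative G3 := by
  intro h
  have h1 : W0⁻¹ * ee phi0 1 * W0 = ee phi0 2 := by
    rw [ee_one, mul_assoc, wrel0.hz, inv_mul_cancel_left]; rfl
  have h2 := h.is_comm.comm (ee phi0 1) W0
  rw [mul_assoc, h2, inv_mul_cancel_left] at h1
  exact absurd (ee_inj hyp (by norm_num) (by norm_num) h1) (by norm_num)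

/-- **`Co₃`** (the model `G3`): no unique maximal 2-local subgroup over `N_G(T)`. -/
theorem nun_G3 : NUN G3 := by
  have := finite_G3
  have hs : IsSimpleGroup G3 := isCo3_G3.1
  obtain ⟨T, hT⟩ := exists_T
  have hm : ∀ x, x ∈ T ↔ x ∈ U := fun x => by
    rw [← hT]; rfl
  have hZU : Z ∈ U := by
    have := ee_mem (i := 1) (by norm_num)
    rwa [ee_one, phi0_z] at this
  refine nun_of_second' not_comm T (z := Z) (U := V) (n := W0) Z_ne ((hm _).2 hZU)
    (fun t ht => Z_comm_U ((hm _).1 ht)) (fun y _ h => cent_U fun x hx => h x ((hm _).2 hx))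
    (fun x hx h2 h => second ((hm _).1 hx) h2 fun u hu => h u ((hm _).2 hu))
    (fun x hx => ⟨(hm _).2 (V_prop hx).1, (V_prop hx).2.1, fun t ht => (V_prop hx).2.2 t ((hm _).1 ht)⟩)
    W0_mem hgen

/-- **`Co₃`**: no unique maximal 2-local subgroup over `N_G(T)`. -/
theorem nun : NUN Spor.Co3 := by
  have := finite_G3
  exact nun_G3.congr Cfsg.Agent.SporRec.Co3.Model.equivCo3

end Cfsg.Agent.UniqLoc.Co3

end

-- merged: Cfsg.Agent.UniqSheet.Base
section

/-!
# S1808: no unique maximal 2-local subgroup over `N_G(S)` (helper87)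

* `NotUniqueN G`: for no Sylow 2-subgroup `S` is there exactly one maximal 2-local subgroup over `N_G(S)`;
* `NotUniqueN.congr`;
* `SelfNorm G`: the Sylow 2-subgroups of `G` are self-normalizing; `selfNorm_of`: from the centralizer of a 2-central
  involution `z` with `Z(S) = ⟨z⟩` and a quotient with self-normalizing Sylow 2-subgroups;
* `notUniqueN_of_selfNorm`: `QTUnique.NotUnique G` and `SelfNorm G` give `NotUniqueN G`;
* `notUnique_of_large`: the criterion from a large subgroup `R` of `C(z)` with `R/⟨z⟩` irreducible.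
-/

set_option autoImplicit false

namespace Cfsg.Agent.UniqSheet

open Subgroup Cfsg Cfsg.Agent.QTUnique

/-- For no Sylow 2-subgroup `S` is there exactly one maximal 2-local subgroup over `N_G(S)`. -/
def NotUniqueN (G : Type*) [Group G] : Prop :=
  ∀ (S : Sylow 2 G) (M : Subgroup G), maxTwoLocalsOver (S : Subgroup G) ≠ {M}

/-- The Sylow 2-subgroups are self-normalizing. -/
def SelfNorm (G : Type*) [Group G] : Prop :=
  ∀ S : Sylow 2 G, normalizer ((S : Subgroup G) : Set G) = S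

section transport

variable {G H : Type*} [Group G] [Group H]

theorem exists_sylow_map [Finite G] (e : G ≃* H) (T : Sylow 2 H) :
    ∃ T' : Sylow 2 G, (T' : Subgroup G) = (T : Subgroup H).map e.symm.toMonoidHom := by
  obtain ⟨P, hP⟩ := (T.isPGroup'.map e.symm.toMonoidHom).exists_le_sylow
  refine ⟨P, le_antisymm ?_ hP⟩
  have h3 : (T : Subgroup H) ≤ (P : Subgroup G).map e.toMonoidHom := by
    have := map_mono (f := e.toMonoidHom) hP
    rwa [map_map_symm] at this
  have h4 := T.is_maximal' (P.isPGroup'.map e.toMonoidHom) h3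
  rw [← h4, map_symm_map]

theorem SelfNorm.congr [Finite G] (e : G ≃* H) (h : SelfNorm G) : SelfNorm H := by
  intro T
  obtain ⟨T', hT'⟩ := exists_sylow_map e T
  have h1 : (T : Subgroup H) = (T' : Subgroup G).map e.toMonoidHom := by rw [hT', map_map_symm]
  rw [h1, ← map_normalizer_equiv, h T']

/-- One Sylow 2-subgroup is enough. -/
theorem selfNorm_of_sylow [Finite G] (T : Sylow 2 G)
    (h : normalizer ((T : Subgroup G) : Set G) = T) : SelfNorm G := by
  have h2 : Fact (Nat.Prime 2) := ⟨Nat.prime_two⟩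
  intro T'
  obtain ⟨g, hg⟩ := MulAction.exists_smul_eq G T T'
  have h1 : (T' : Subgroup G) = (T : Subgroup G).map (MulAut.conj g).toMonoidHom := by rw [← hg]; rfl
  rw [h1, ← map_normalizer_equiv, h]

theorem maxTwoLocalsOver_eq_of_selfNorm {S : Subgroup G} (h : normalizer (S : Set G) = S) :
    maxTwoLocalsOver S = maxTwoLocalsContaining S := by
  simp only [maxTwoLocalsOver, maxTwoLocalsContaining, h]

theorem notUniqueN_of_selfNorm (h : SelfNorm G) (h' : NotUnique G) : NotUniqueN G := by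
  intro S M hM
  rw [maxTwoLocalsOver_eq_of_selfNorm (h S)] at hM
  exact h' S M hM

theorem maxTwoLocalsOver_map (e : G ≃* H) (X : Subgroup G) :
    maxTwoLocalsOver (X.map e.toMonoidHom) =
      (fun M : Subgroup G => M.map e.toMonoidHom) '' maxTwoLocalsOver X := by
  have h1 := maxTwoLocalsContaining_map e (normalizer (X : Set G))
  have h2 : maxTwoLocalsContaining (normalizer (X : Set G)) = maxTwoLocalsOver X := rfl
  rw [map_normalizer_equiv, h2] at h1
  exact h1

theorem NotUniqueN.congr [Finite G] (e : G ≃* H) (h : NotUniqueN G) : NotUniqueN H := by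
  intro T M hM
  obtain ⟨T', hT'⟩ := exists_sylow_map e T
  refine h T' (M.map e.symm.toMonoidHom) ?_
  have h1 : (T : Subgroup H) = (T' : Subgroup G).map e.toMonoidHom := by rw [hT', map_map_symm]
  have h2 := maxTwoLocalsOver_map e (T' : Subgroup G)
  rw [← h1, hM] at h2
  have h3 : Set.InjOn (fun M : Subgroup G => M.map e.toMonoidHom) Set.univ :=
    fun A _ B _ hAB => by
      have := congrArg (fun K : Subgroup H => K.map e.symm.toMonoidHom) hAB
      simpa only [map_symm_map] using this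
  ext N
  constructor
  · intro hN
    have : N.map e.toMonoidHom ∈ ({M} : Set (Subgroup H)) := by rw [h2]; exact ⟨N, hN, rfl⟩
    rw [Set.mem_singleton_iff] at this
    rw [Set.mem_singleton_iff, ← this, map_symm_map]
  · intro hN
    rw [Set.mem_singleton_iff] at hN
    have : M ∈ (fun M : Subgroup G => M.map e.toMonoidHom) '' maxTwoLocalsOver (T' : Subgroup G) := by
      rw [← h2]; rfl
    obtain ⟨K, hK, rfl⟩ := this
    rw [hN]
    simp only [map_symm_map]
    exact hK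

end transport

section selfnorm

variable {G : Type*} [Group G]

/-- `N_G(S) = S` from `C(z)`, `Z(S) = ⟨z⟩`. -/
theorem selfNorm_of [Finite G] {z : G} {R : Subgroup G}
    (hS : ∃ S : Sylow 2 G, z ∈ S ∧ (∀ x ∈ S, x * z = z * x) ∧
      ∀ y ∈ S, (∀ x ∈ S, x * y = y * x) → y = 1 ∨ y = z) (hz1 : z ≠ 1)
    (hR : ∀ S : Sylow 2 G, (∀ x ∈ S, x * z = z * x) → R ≤ S)
    {L : Type*} [Group L] (π : ↥(centralizer ({z} : Set G)) →* L) (hπ : Function.Surjective π)
    (hk : ∀ c, π c = 1 → (c : G) ∈ R) (hL : SelfNorm L) : SelfNorm G := by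
  have h2 : Fact (Nat.Prime 2) := ⟨Nat.prime_two⟩
  obtain ⟨S, hzS, hc, hu⟩ := hS
  have hSC : (S : Subgroup G) ≤ centralizer ({z} : Set G) := by
    intro x hx
    rw [mem_centralizer_singleton_iff]
    exact hc x hx
  refine selfNorm_of_sylow S (le_antisymm ?_ le_normalizer)
  intro g hg
  have hgz : g * z * g⁻¹ = z := by
    have h1 : g * z * g⁻¹ ∈ (S : Subgroup G) := (mem_normalizer_iff.1 hg z).1 hzS
    have h3 : ∀ x ∈ S, x * (g * z * g⁻¹) = (g * z * g⁻¹) * x := by
      intro x hx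
      have h4 : g⁻¹ * x * g ∈ (S : Subgroup G) := by
        have := (mem_normalizer_iff.1 (inv_mem hg) x).1 hx
        simpa using this
      have h5 := hc _ h4
      calc x * (g * z * g⁻¹) = g * ((g⁻¹ * x * g) * z) * g⁻¹ := by group
        _ = g * (z * (g⁻¹ * x * g)) * g⁻¹ := by rw [h5]
        _ = (g * z * g⁻¹) * x := by group
    rcases hu _ h1 h3 with h | h
    · exfalso
      apply hz1
      have : z = g⁻¹ * (g * z * g⁻¹) * g := by group
      rw [this, h]
      group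
    · exact h
  have hgC : g ∈ centralizer ({z} : Set G) := by
    rw [mem_centralizer_singleton_iff]
    calc g * z = (g * z * g⁻¹) * g := by group
      _ = z * g := by rw [hgz]
  -- the Sylow subgroup of the quotient
  let T : Sylow 2 ↥(centralizer ({z} : Set G)) := S.subtype hSC
  have hT : ∀ c : ↥(centralizer ({z} : Set G)), c ∈ (T : Subgroup ↥(centralizer ({z} : Set G))) ↔ (c : G) ∈ S := by
    intro c
    rfl
  let T' : Sylow 2 L := T.mapSurjective hπ
  have hT' : (T' : Subgroup L) = (T : Subgroup ↥(centralizer ({z} : Set G))).map π := rfl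
  have h6 : π ⟨g, hgC⟩ ∈ normalizer ((T' : Subgroup L) : Set L) := by
    rw [hT', mem_normalizer_iff]
    intro y
    constructor
    · rintro ⟨x, hx, rfl⟩
      refine ⟨⟨g, hgC⟩ * x * ⟨g, hgC⟩⁻¹, ?_, by simp⟩
      exact (mem_normalizer_iff.1 hg _).1 hx
    · rintro ⟨x, hx, hxy⟩
      refine ⟨⟨g, hgC⟩⁻¹ * x * ⟨g, hgC⟩, ?_, ?_⟩
      · have h7 := (mem_normalizer_iff.1 (inv_mem hg) (x : G)).1 hx
        rw [inv_inv] at h7
        exact h7
      · simp [hxy, mul_assoc]
  rw [hL T', hT'] at h6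
  obtain ⟨c, hcT, hcg⟩ := h6
  have h8 : π (c⁻¹ * ⟨g, hgC⟩) = 1 := by rw [map_mul, map_inv, hcg, inv_mul_cancel]
  have h9 : ((c⁻¹ * ⟨g, hgC⟩ : ↥(centralizer ({z} : Set G))) : G) ∈ R := hk _ h8
  have h10 := hR S hc h9
  have h11 : (c : G) * ((c⁻¹ * ⟨g, hgC⟩ : ↥(centralizer ({z} : Set G))) : G) = g := by simp
  rw [← h11]
  exact mul_mem hcT h10

end selfnorm

section large

variable {G : Type*} [Group G]

/-- The criterion: `R = O₂(C(z))` with `Z(R) = ⟨z⟩` and `R/⟨z⟩` irreducible; a second 2-local subgroup `N(E)` of odd index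
not in a conjugate of `C(z)`. -/
theorem notUnique_of_large [Finite G] {z : G} {R E : Subgroup G} (hz1 : z ≠ 1) (hzz : z * z = 1)
    (hS : ∃ S : Sylow 2 G, z ∈ S ∧ (∀ x ∈ S, x * z = z * x))
    (hzR : z ∈ R) (hRz : ∀ x : G, (∀ r ∈ R, x * r * x⁻¹ ∈ R) → x * z * x⁻¹ = z)
    (hRmax : ∀ B : Subgroup G, IsPGroup 2 B → B ≤ centralizer ({z} : Set G) →
      (∀ x ∈ centralizer ({z} : Set G), ∀ b ∈ B, x * b * x⁻¹ ∈ B) → B ≤ R)
    (hRmin : ∀ B : Subgroup G, B ≤ R → (∀ x ∈ centralizer ({z} : Set G), ∀ b ∈ B, x * b * x⁻¹ ∈ B) →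
      (∀ b ∈ B, b = 1 ∨ b = z) ∨ B = R)
    (hE2 : IsPGroup 2 E) (hE1 : E ≠ ⊥) (hEodd : ¬ 2 ∣ (normalizer (E : Set G)).index)
    (hE : ∀ g : G, ¬ (normalizer (E : Set G)).map (MulAut.conj g).toMonoidHom ≤ centralizer ({z} : Set G)) :
    NotUnique G := by
  have h2 : Fact (Nat.Prime 2) := ⟨Nat.prime_two⟩
  obtain ⟨S, hzS, hc⟩ := hS
  refine notUnique_of_sylow S fun M hM => ?_
  -- a conjugate of `N(E)` over `S`
  obtain ⟨P, hP⟩ : ∃ P : Sylow 2 G, (P : Subgroup G) ≤ normalizer (E : Set G) := by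
    obtain ⟨Q⟩ : Nonempty (Sylow 2 ↥(normalizer (E : Set G))) := inferInstance
    have h3 : ¬ 2 ∣ ((Q : Subgroup ↥(normalizer (E : Set G))).map (normalizer (E : Set G)).subtype).index := by
      rw [index_map_subtype]
      intro h
      rcases (Nat.prime_two.dvd_mul).1 h with h | h
      · exact Q.not_dvd_index h
      · exact hEodd h
    refine ⟨(Q.isPGroup'.map _).toSylow h3, ?_⟩
    exact map_subtype_le _
  obtain ⟨g, hg⟩ := MulAction.exists_smul_eq G P S
  have hSg : (S : Subgroup G) = (P : Subgroup G).map (MulAut.conj g).toMonoidHom := by rw [← hg]; rfl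
  have hNE : (normalizer (E : Set G)).map (MulAut.conj g).toMonoidHom ≤ M := by
    have h4 : (S : Subgroup G) ≤ normalizer ((E.map (MulAut.conj g).toMonoidHom : Subgroup G) : Set G) := by
      rw [← map_normalizer_equiv, hSg]
      exact map_mono hP
    rw [map_normalizer_equiv]
    refine normalizer_le hM (hE2.map _) ?_ h4
    rwa [Ne, map_eq_bot_iff_of_injective _ (MulAut.conj g).injective]
  -- `M` contains `C(z)`
  have hSC : (S : Subgroup G) ≤ centralizer ({z} : Set G) := by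
    intro x hx
    rw [mem_centralizer_singleton_iff]
    exact hc x hx
  have hCM : centralizer ({z} : Set G) ≤ M := by
    refine le_of_unique' hM hSC (U := zpowers z) ?_ ?_ ?_
    · refine IsPGroup.of_card (n := 1) ?_
      rw [Nat.card_zpowers, pow_one, orderOf_eq_prime (by rw [pow_two]; exact hzz) hz1]
    · rwa [Ne, zpowers_eq_bot]
    · intro x hx
      rw [mem_centralizer_singleton_iff] at hx
      have h5 : x * z * x⁻¹ = z := by rw [hx]; group
      rw [mem_normalizer_iff]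
      intro y
      constructor
      · rintro ⟨k, rfl⟩
        refine ⟨k, ?_⟩
        change z ^ k = x * z ^ k * x⁻¹
        rw [← conj_zpow, h5]
      · rintro ⟨k, hk⟩
        refine ⟨k, ?_⟩
        change z ^ k = y
        change z ^ k = x * y * x⁻¹ at hk
        have h6 : y = x⁻¹ * z ^ k * x := by rw [hk]; group
        have h7 : x * z ^ k * x⁻¹ = z ^ k := by rw [← conj_zpow, h5]
        have h71 : x * z ^ k = z ^ k * x := by
          calc x * z ^ k = (x * z ^ k * x⁻¹) * x := by group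
            _ = z ^ k * x := by rw [h7]
        rw [h6, mul_assoc, ← h71, ← mul_assoc, inv_mul_cancel, one_mul]
  -- `M = N(U)`
  obtain ⟨⟨U, hU2, hU1, rfl⟩, -⟩ := (unique_mem hM).1
  have hSU : (S : Subgroup G) ≤ normalizer (U : Set G) := hSC.trans hCM
  have hUS : U ≤ S := by
    have h8 : IsPGroup 2 ↥(U ⊔ (S : Subgroup G)) := by
      rw [sup_comm]
      exact S.isPGroup'.to_sup_of_normal_right' hU2 hSU
    have h9 := S.is_maximal' h8 le_sup_right
    rw [← h9]
    exact le_sup_left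
  have hUn : ∀ x ∈ centralizer ({z} : Set G), ∀ b ∈ U, x * b * x⁻¹ ∈ U :=
    fun x hx b hb => (mem_normalizer_iff.1 (hCM hx) b).1 hb
  have hUR : U ≤ R := hRmax U hU2 (hUS.trans hSC) hUn
  have hnz : ∀ x ∈ normalizer (U : Set G), x * z * x⁻¹ = z := by
    intro x hx
    rcases hRmin U hUR hUn with h | h
    · obtain ⟨u, hu1⟩ := (Subgroup.ne_bot_iff_exists_ne_one (H := U)).1 hU1
      have huz : (u : G) = z := (h u u.2).resolve_left fun h' => hu1 (Subtype.ext h')
      have h10 : x * z * x⁻¹ ∈ U := (mem_normalizer_iff.1 hx z).1 (huz ▸ u.2)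
      rcases h _ h10 with h' | h'
      · exfalso
        apply hz1
        have : z = x⁻¹ * (x * z * x⁻¹) * x := by group
        rw [this, h']
        group
      · exact h'
    · subst h
      exact hRz x fun r hr => (mem_normalizer_iff.1 hx r).1 hr
  have hMC : normalizer (U : Set G) ≤ centralizer ({z} : Set G) := by
    intro x hx
    rw [mem_centralizer_singleton_iff]
    have := hnz x hx
    calc x * z = (x * z * x⁻¹) * x := by group
      _ = z * x := by rw [this]
  exact hE g (hNE.trans hMC)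

end large

end Cfsg.Agent.UniqSheet

end

-- merged: Cfsg.Agent.UniqSheet.SpSix
section

/-!
# The Sylow 2-subgroups of `Sp₆(2)` are self-normalizing (helper87)
-/

set_option autoImplicit false

namespace Cfsg.Agent.UniqSheet.SpSix

open Subgroup Cfsg Matrix

/-- `Sp₆(2)` -/
abbrev Sp : Type := Matrix.symplecticGroup (Fin 3) (ZMod 2)

/-- column vectors -/
abbrev V : Type := Fin 3 ⊕ Fin 3 → ZMod 2

/-- the matrix -/
abbrev mt (g : Sp) : Matrix (Fin 3 ⊕ Fin 3) (Fin 3 ⊕ Fin 3) (ZMod 2) := g.1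

theorem mt_mul (g h : Sp) : mt (g * h) = mt g * mt h := rfl

theorem mt_one : mt 1 = 1 := rfl

/-- the flag -/
def Fl (k : ℕ) : Set V :=
  {v | (∀ i : Fin 3, k < (i : ℕ) → v (Sum.inl i) = 0) ∧ ∀ i : Fin 3, v (Sum.inr i) = 0}

instance (k : ℕ) (v : V) : Decidable (v ∈ Fl k) :=
  inferInstanceAs (Decidable ((∀ i : Fin 3, k < (i : ℕ) → v (Sum.inl i) = 0) ∧ ∀ i : Fin 3, v (Sum.inr i) = 0))

/-- the Borel subgroup -/
def B : Subgroup Sp := ⨅ k : Fin 3, Cfsg.stabilizing (Cfsg.spToMat 3 (ZMod 2)) {v : Fin 3 ⊕ Fin 3 → ZMod 2 |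
  (∀ i : Fin 3, (k : ℕ) < (i : ℕ) → v (Sum.inl i) = 0) ∧ ∀ i : Fin 3, v (Sum.inr i) = 0}

theorem card_B : Nat.card B = 512 := by
  have h : Fintype.card (ZMod 2) = 2 := ZMod.card 2
  have := Cfsg.Agent.S0774.result h 3
  exact this.trans (by norm_num)

theorem card_Sp : Nat.card Sp = 1451520 := by
  rw [Cfsg.Agent.LieClassical.SympCount.card_symplecticGroup, ZMod.card]
  simp [Finset.prod_range_succ]

theorem mem_B {h : Sp} : h ∈ B ↔ ∀ k : Fin 3, ∀ v : V, v ∈ Fl k ↔ mt h *ᵥ v ∈ Fl k := by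
  rw [B, mem_iInf]
  exact Iff.rfl

/-- the three elements of the Borel subgroup -/
def s (j : Fin 3) : Matrix (Fin 3 ⊕ Fin 3) (Fin 3 ⊕ Fin 3) (ZMod 2) :=
  match j with
  | 0 => fromBlocks !![1, 1, 0; 0, 1, 0; 0, 0, 1] 0 0 !![1, 0, 0; 1, 1, 0; 0, 0, 1]
  | 1 => fromBlocks !![1, 0, 0; 0, 1, 1; 0, 0, 1] 0 0 !![1, 0, 0; 0, 1, 0; 0, 1, 1]
  | 2 => fromBlocks 1 !![0, 0, 0; 0, 0, 0; 0, 0, 1] 0 1

theorem s_mem (j : Fin 3) : s j ∈ Matrix.symplecticGroup (Fin 3) (ZMod 2) := by
  rw [SymplecticGroup.mem_iff]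
  revert j
  decide +kernel

theorem s_B (j : Fin 3) : (⟨s j, s_mem j⟩ : Sp) ∈ B := by
  rw [mem_B]
  revert j
  decide +kernel

theorem fix (v : V) (h : ∀ j, s j *ᵥ v = v) : v ∈ Fl 0 := by
  revert v
  decide +kernel

theorem fixOne (v : V) (h : ∀ j, s j *ᵥ v - v ∈ Fl 0) : v ∈ Fl 1 := by
  revert v
  decide +kernel

theorem fixTwo (v : V) (h : ∀ j, s j *ᵥ v - v ∈ Fl 1) : v ∈ Fl 2 := by
  revert v
  decide +kernel

theorem diff_mem {v w : V} {k : ℕ} (hk : k < 2) (hv : v ∈ Fl (k + 1)) (hw : w ∈ Fl (k + 1)) (h1 : v ∉ Fl k)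
    (h2 : w ∉ Fl k) : w - v ∈ Fl k := by
  have hcoord : ∀ u : V, u ∈ Fl (k + 1) → u ∉ Fl k → u (Sum.inl ⟨k + 1, by omega⟩) = 1 := by
    intro u hu hu'
    by_contra hne
    have h0 : u (Sum.inl ⟨k + 1, by omega⟩) = 0 := by
      have : ∀ x : ZMod 2, x ≠ 1 → x = 0 := by decide
      exact this _ hne
    apply hu'
    refine ⟨fun i hi => ?_, hu.2⟩
    by_cases hik : (i : ℕ) = k + 1
    · have : i = ⟨k + 1, by omega⟩ := Fin.ext hik
      rw [this]; exact h0
    · exact hu.1 i (by omega)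
  refine ⟨fun i hi => ?_, fun i => ?_⟩
  · by_cases hik : (i : ℕ) = k + 1
    · have : i = ⟨k + 1, by omega⟩ := Fin.ext hik
      rw [this, Pi.sub_apply, hcoord w hw h2, hcoord v hv h1, sub_self]
    · rw [Pi.sub_apply, hw.1 i (by omega), hv.1 i (by omega), sub_self]
  · rw [Pi.sub_apply, hw.2 i, hv.2 i, sub_self]

theorem sub_mem' {v w : V} {k : ℕ} (hv : v ∈ Fl k) (hw : w ∈ Fl k) : w - v ∈ Fl k :=
  ⟨fun i hi => by rw [Pi.sub_apply, hw.1 i hi, hv.1 i hi, sub_self],
    fun i => by rw [Pi.sub_apply, hw.2 i, hv.2 i, sub_self]⟩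

/-- the Borel subgroup is unipotent on the flag -/
theorem unip {h : Sp} (hh : h ∈ B) {k : ℕ} (hk : k < 2) {v : V} (hv : v ∈ Fl (k + 1)) :
    mt h *ᵥ v - v ∈ Fl k := by
  rw [mem_B] at hh
  have h1 := hh ⟨k + 1, by omega⟩ v
  have h2 := hh ⟨k, by omega⟩ v
  simp only at h1 h2
  by_cases hvk : v ∈ Fl k
  · exact sub_mem' hvk (h2.1 hvk)
  · exact diff_mem hk hv (h1.1 hv) hvk fun h => hvk (h2.2 h)

theorem unip_zero {h : Sp} (hh : h ∈ B) {v : V} (hv : v ∈ Fl 0) : mt h *ᵥ v = v := by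
  rw [mem_B] at hh
  have h1 := (hh 0 v).1 hv
  have h01 : ∀ u : V, u ∈ Fl 0 → u ≠ 0 → u = Pi.single (Sum.inl 0) 1 := by decide +kernel
  have hinj : v ≠ 0 → mt h *ᵥ v ≠ 0 := by
    intro hv0 h0
    apply hv0
    have h2 : mt (h⁻¹ * h) *ᵥ v = 0 := by
      rw [mt_mul, ← Matrix.mulVec_mulVec, h0, Matrix.mulVec_zero]
    rwa [inv_mul_cancel, mt_one, Matrix.one_mulVec] at h2
  by_cases hv0 : v = 0
  · rw [hv0, Matrix.mulVec_zero]
  · rw [h01 _ h1 (hinj hv0), h01 v hv hv0]

theorem conj_B {g : Sp} (hg : g ∈ normalizer (B : Set Sp)) {h : Sp} (hh : h ∈ B) : g⁻¹ * h * g ∈ B := by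
  have := (mem_normalizer_iff.1 (inv_mem hg) h).1 hh
  simpa using this

theorem swap_eq (g h : Sp) (v : V) :
    mt h *ᵥ (mt g *ᵥ v) =
      mt g *ᵥ (mt (g⁻¹ * h * g) *ᵥ v) := by
  rw [Matrix.mulVec_mulVec, Matrix.mulVec_mulVec, ← mt_mul, ← mt_mul, show g * (g⁻¹ * h * g) = h * g by group]

theorem norm_zero {g : Sp} (hg : g ∈ normalizer (B : Set Sp)) {v : V} (hv : v ∈ Fl 0) :
    mt g *ᵥ v ∈ Fl 0 := by
  apply fix
  intro j
  have h := swap_eq g ⟨s j, s_mem j⟩ v
  rw [unip_zero (conj_B hg (s_B j)) hv] at h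
  exact h

theorem norm_step {g : Sp} (hg : g ∈ normalizer (B : Set Sp)) {k : ℕ} (hk : k < 2)
    (ih : ∀ v : V, v ∈ Fl k → mt g *ᵥ v ∈ Fl k)
    (hfix : ∀ v : V, (∀ j, s j *ᵥ v - v ∈ Fl k) → v ∈ Fl (k + 1)) {v : V} (hv : v ∈ Fl (k + 1)) :
    mt g *ᵥ v ∈ Fl (k + 1) := by
  apply hfix
  intro j
  have h := swap_eq g ⟨s j, s_mem j⟩ v
  change s j *ᵥ _ = _ at h
  rw [h, ← Matrix.mulVec_sub]
  exact ih _ (unip (conj_B hg (s_B j)) hk hv)

theorem norm_mem {g : Sp} (hg : g ∈ normalizer (B : Set Sp)) (k : Fin 3) {v : V} (hv : v ∈ Fl k) :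
    mt g *ᵥ v ∈ Fl k := by
  have h0 : ∀ v : V, v ∈ Fl 0 → mt g *ᵥ v ∈ Fl 0 := fun v hv => norm_zero hg hv
  have h1 : ∀ v : V, v ∈ Fl 1 → mt g *ᵥ v ∈ Fl 1 :=
    fun v hv => norm_step hg (k := 0) (by norm_num) h0 fixOne hv
  have h2 : ∀ v : V, v ∈ Fl 2 → mt g *ᵥ v ∈ Fl 2 :=
    fun v hv => norm_step hg (k := 1) (by norm_num) h1 fixTwo hv
  fin_cases k
  · exact h0 v hv
  · exact h1 v hv
  · exact h2 v hv

theorem normalizer_B : normalizer (B : Set Sp) = B := by
  refine le_antisymm (fun g hg => ?_) le_normalizer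
  rw [mem_B]
  intro k v
  refine ⟨fun hv => norm_mem hg k hv, fun hv => ?_⟩
  have h := norm_mem (inv_mem hg) k hv
  rwa [Matrix.mulVec_mulVec, ← mt_mul, inv_mul_cancel, mt_one, Matrix.one_mulVec] at h

/-- **The Sylow 2-subgroups of `Sp₆(2)` are self-normalizing.** -/
theorem selfNorm : SelfNorm Sp := by
  have h2 : Fact (Nat.Prime 2) := ⟨Nat.prime_two⟩
  have : Finite Sp := Nat.finite_of_card_ne_zero (by rw [card_Sp]; norm_num)
  have hB : IsPGroup 2 B := IsPGroup.of_card (n := 9) (by rw [card_B]; norm_num)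
  have hi : ¬ 2 ∣ B.index := by
    have h := B.card_mul_index
    rw [card_B, card_Sp] at h
    omega
  exact selfNorm_of_sylow (hB.toSylow hi) normalizer_B

end Cfsg.Agent.UniqSheet.SpSix

end

-- merged: Cfsg.Agent.UniqSheet.Co2
section

/-!
# S1808, the row `Co₂` (helper87)

`nun` : no normalizer of a Sylow 2-subgroup of `Co₂` lies in exactly one maximal 2-local subgroup;
`C(z) = 2¹⁺⁸.Sp₆(2)` and `N(E) = 2¹⁰.M₂₂.2`.
-/

set_option autoImplicit false

namespace Cfsg.Agent.UniqSheet.Co2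

open Subgroup Cfsg
open Cfsg.Agent.SporadicA.GolayBase Cfsg.Agent.SporadicA.GolayPerm
open Cfsg.Agent.SporadicStructure.M24El
open Cfsg.Agent.Co2Type.Mono Cfsg.Agent.Co2Type.TGroup Cfsg.Agent.Co2Type.TData Cfsg.Agent.Co2Type.FactsD
open Cfsg.Agent.Co2Type.Quad Cfsg.Agent.KFacts.AutLarge Cfsg.Agent.KFacts
open Cfsg.Agent.KFacts.CoTwo.RSub Cfsg.Agent.QTUnique

/-- `i ↦ 2 i` -/
def P11 : ℕ := 0xbd6717b56939461b52507314831040

private noncomputable def _root_.Cfsg.Agent.GolayF.f0 : {f // @Cfsg.Agent.Co2Type.Mono.okP = f} :=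
  ⟨_, by delta Cfsg.Agent.Co2Type.Mono.okP Cfsg.Agent.SporadicStructure.M24El.ok; rewrite [Cfsg.Agent.GolayF.papp_eq, Cfsg.Agent.GolayF.isPerm_eq, Cfsg.Agent.GolayF.isAut_eq]; exact rfl⟩

theorem chk : (okP P11 && Nat.blt P11 (2 ^ 120) && !(Nat.beq P11 idP)) = true := by (rewrite [Cfsg.Agent.GolayF.f0.2]; decide +kernel)

theorem okP11 : okP P11 = true := by
  have h := chk
  rw [Bool.and_eq_true, Bool.and_eq_true] at h
  exact h.1.1

theorem P11_lt : P11 < 2 ^ 120 := by
  have h := chk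
  rw [Bool.and_eq_true, Bool.and_eq_true, Nat.blt_eq] at h
  exact h.1.2

theorem P11_ne : P11 ≠ idP := by decide +kernel

/-- the powers -/
def pw : ℕ → ℕ
  | 0 => idP
  | n + 1 => pcomp (pw n) P11

private noncomputable def _root_.Cfsg.Agent.GolayF.f1 : {f // @Cfsg.Agent.UniqSheet.Co2.pw = f} :=
  ⟨_, by delta Cfsg.Agent.UniqSheet.Co2.pw Cfsg.Agent.UniqSheet.Co2.pw._f; rewrite [Cfsg.Agent.GolayF.pcomp_eq]; exact rfl⟩

theorem pw11 : pw 11 = idP := by (rewrite [Cfsg.Agent.GolayF.f1.2]; decide +kernel)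

theorem okP_pw (n : ℕ) : okP (pw n) = true := by
  induction n with
  | zero => exact okP_idP
  | succ n ih => exact okP_pcomp ih okP11

theorem pow_eq (n : ℕ) : (mo2 0 P11) ^ n = mo2 0 (pw n) := by
  induction n with
  | zero => rw [pow_zero]; exact mo2_one.symm
  | succ n ih =>
    rw [pow_succ, ih, mo2_mul inE_zero inE_zero (okP_pw n) okP11, pimg_zero (isPerm_of_ok (ok_of_okP (okP_pw n))),
      Nat.xor_zero]
    rfl

theorem orderOf_x : orderOf (mo2 0 P11) = 11 := by
  have : Fact (Nat.Prime 11) := ⟨by norm_num⟩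
  apply orderOf_eq_prime
  · rw [pow_eq, pw11, mo2_one]
  · intro h
    rw [← mo2_one] at h
    exact P11_ne (mo2_inj inE_zero inE_zero okP11 okP_idP P11_lt idP_lt h).2

theorem x_mem [Finite Spor.Co2] : mo2 0 P11 ∈ normalizer (E : Set Spor.Co2) := by
  apply mem_normalizer_fintype
  rintro _ ⟨n, hn, rfl⟩
  rw [mo2_conj_E inE_zero hn okP11 P11_lt, mul_assoc, mul_inv_cancel, mul_one]
  exact mo2_mem_E (inE_pimg okP11 hn)

theorem T_le [Finite Spor.Co2] : T ≤ normalizer (E : Set Spor.Co2) := by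
  intro t ht
  apply mem_normalizer_fintype
  exact fun e he => E_normal t ht e he

theorem card_eq : Nat.card Spor.Co2 = 42305421312000 := Cfsg.Agent.Schreier.CoTwoStab.card

theorem odd_index [Finite Spor.Co2] : ¬ 2 ∣ (normalizer (E : Set Spor.Co2)).index := by
  intro h
  have h2 := h.trans (index_dvd_of_le T_le)
  have h3 := T.card_mul_index
  rw [Cfsg.Agent.Co2Type.TCard.card_T, card_eq] at h3
  omega

/-- **`NotUnique Co₂` and self-normalizing Sylow 2-subgroups.** -/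
theorem both : NotUnique Spor.Co2 ∧ SelfNorm Spor.Co2 := by
  have hfin := Cfsg.Agent.Schreier.CoTwoStab.finite
  have h2 : Fact (Nat.Prime 2) := ⟨Nat.prime_two⟩
  have D := Cfsg.Agent.KFacts.CoTwo.QuotInst.dataT
  have hl := D.large
  obtain ⟨S, hzS, hc, hu⟩ := D.sheet.syl
  obtain ⟨π, hπ, hk⟩ := D.quot
  have hmemC : ∀ {c : Spor.Co2}, c ∈ centralizer ({ge mz} : Set Spor.Co2) ↔ c * ge mz = ge mz * c :=
    fun {c} => mem_centralizer_singleton_iff
  constructor
  · refine notUnique_of_large hl.z_ne hl.z_sq ⟨S, hzS, hc⟩ hl.z_mem ?_ (fun B hB hBC hBn => ?_) (fun B hBR hBn => ?_)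
      ?_ ?_ odd_index ?_ (E := E) (R := R)
    · intro x hx
      have h3 : ∀ r ∈ R, r * (x * ge mz * x⁻¹) = (x * ge mz * x⁻¹) * r := by
        intro r hr
        have hmem : x⁻¹ * r * x ∈ R := by
          have hxn : x ∈ normalizer (R : Set Spor.Co2) := mem_normalizer_fintype fun n hn => hx n hn
          have := (mem_normalizer_iff.1 (inv_mem hxn) r).1 hr
          rwa [inv_inv] at this
        have h5 := hl.comm_z _ hmem
        calc r * (x * ge mz * x⁻¹) = x * ((x⁻¹ * r * x) * ge mz) * x⁻¹ := by group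
          _ = x * (ge mz * (x⁻¹ * r * x)) * x⁻¹ := by rw [h5]
          _ = (x * ge mz * x⁻¹) * r := by group
      have h4 := hl.cent _ (hx _ hl.z_mem) fun y hy => (h3 y hy).symm
      rcases h4 with h | h
      · exfalso
        apply hl.z_ne
        have : ge mz = x⁻¹ * (x * ge mz * x⁻¹) * x := by group
        rw [this, h]
        group
      · exact h
    · exact D.sheet.Rmax B hBC hB fun x hx b hb => hBn x hx b hb
    · exact D.sheet.Rmin B hBR fun x hx b hb => hBn x hx b hb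
    · exact IsPGroup.of_card (n := 10) Cfsg.Agent.Co2Type.TCard.card_E
    · intro h
      have h3 := Cfsg.Agent.Co2Type.TCard.card_E
      rw [h, card_bot] at h3
      norm_num at h3
    · intro g hg
      have h3 : MulAut.conj g (mo2 0 P11) ∈ centralizer ({ge mz} : Set Spor.Co2) := hg ⟨_, x_mem, rfl⟩
      have h4 : 11 ∣ Nat.card (centralizer ({ge mz} : Set Spor.Co2)) := by
        have h5 : orderOf (⟨_, h3⟩ : ↥(centralizer ({ge mz} : Set Spor.Co2))) = 11 := by
          rw [← orderOf_x, ← Subgroup.orderOf_coe]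
          exact MulEquiv.orderOf_eq (MulAut.conj g) _
        rw [← h5]
        exact orderOf_dvd_natCard _
      have h5 : Nat.card (centralizer ({ge mz} : Set Spor.Co2)) = 1451520 * 2 ^ 9 := by
        have hker : π.ker = R.subgroupOf (centralizer ({ge mz} : Set Spor.Co2)) := by
          ext c
          rw [MonoidHom.mem_ker, hk, mem_subgroupOf]
        have hRC : R ≤ centralizer ({ge mz} : Set Spor.Co2) := fun x hx => hmemC.2 (hl.comm_z x hx)
        have h6 := π.ker.index_mul_card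
        rw [index_ker, MonoidHom.range_eq_top.2 hπ, card_top] at h6
        rw [← h6, hker, Nat.card_congr (subgroupOfEquivOfLe hRC).toEquiv,
          Cfsg.Agent.KFacts.CoTwo.RLarge.card_R]
        congr 1
        exact SpSix.card_Sp
      rw [h5] at h4
      norm_num at h4
  · refine selfNorm_of ⟨S, hzS, hc, hu⟩ hl.z_ne ?_ π hπ (fun c h => (hk c).1 h) SpSix.selfNorm (R := R)
    intro S' hS'
    have hR2 : IsPGroup 2 R := Cfsg.Agent.LargeExtra.Base.isPGroup hl
    have hn : (S' : Subgroup Spor.Co2) ≤ normalizer (R : Set Spor.Co2) := by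
      intro x hx
      exact mem_normalizer_fintype fun n hn => hl.conj_mem x (hS' x hx) n hn
    have h8 : IsPGroup 2 ↥((S' : Subgroup Spor.Co2) ⊔ R) := S'.isPGroup'.to_sup_of_normal_right' hR2 hn
    have h9 := S'.is_maximal' h8 le_sup_left
    rw [← SetLike.coe_subset_coe]
    change R ≤ (S' : Subgroup Spor.Co2)
    rw [← h9]
    exact le_sup_right

theorem notUnique : NotUnique Spor.Co2 := both.1

theorem selfNorm : SelfNorm Spor.Co2 := both.2

/-- **The row `Co₂`.** -/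
theorem nun : Cfsg.Agent.UniqLoc.NUN Spor.Co2 := notUniqueN_of_selfNorm selfNorm notUnique

end Cfsg.Agent.UniqSheet.Co2

end

-- merged: Cfsg.Agent.UniqSheet.Th
section

/-!
# S1808, the row `Th` (helper87)

`nun` : no normalizer of a Sylow 2-subgroup of `Th` lies in exactly one maximal 2-local subgroup;
`C(z) = 2¹⁺⁸.A₉` and `N(E) = 2⁵.L₅(2)`.
-/

set_option autoImplicit false

namespace Cfsg.Agent.UniqSheet.Th

open Subgroup Cfsg Cfsg.Agent.ThType.SpinData Cfsg.Agent.ThType.ElemE Cfsg.Agent.ThType.NormE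
open Cfsg.Agent.UniqLoc

section spin

variable {G : Type*} [Group G] [Finite G] {z : G} (S : SpinAt G z)

theorem mem_N_iff {c : G} (hc : c * z = z * c) : c ∈ normalizer (El S 8 : Set G) ↔ (S.φ c).1 8 = 8 := by
  rw [← norm_iff_letter S hc 8]
  constructor
  · intro h e he
    exact (mem_normalizer_iff.1 h e).1 he
  · intro h
    exact mem_normalizer_fintype h

theorem relIndex_eq : (normalizer (El S 8 : Set G)).relIndex (C z) = 9 := by
  let _ : MulAction (C z) (Fin 9) := MulAction.compHom _ (((alternatingGroup (Fin 9)).subtype).comp (phiHom S))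
  have hsm : ∀ (c : C z) (i : Fin 9), c • i = (S.φ (c : G)).1 i := fun _ _ => rfl
  have h1 : MulAction.stabilizer (C z) (8 : Fin 9) = (normalizer (El S 8 : Set G)).subgroupOf (C z) := by
    ext c
    rw [MulAction.mem_stabilizer_iff, mem_subgroupOf, mem_N_iff S (mem_C.1 c.2), hsm]
  have h2 : MulAction.orbit (C z) (8 : Fin 9) = Set.univ := by
    rw [Set.eq_univ_iff_forall]
    intro i
    obtain ⟨a, ha⟩ := Cfsg.Agent.ThType.SpinRep.exists_letter i
    obtain ⟨c, hc, hca⟩ := S.φ_surj a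
    refine ⟨⟨c, mem_C.2 hc⟩, ?_⟩
    change (S.φ c).1 8 = i
    rw [hca]
    exact ha
  rw [relIndex, ← h1, MulAction.index_stabilizer, h2, Set.ncard_univ, Nat.card_eq_fintype_card, Fintype.card_fin]

theorem odd_index (hc : Nat.card G = 90745943887872000) :
    ¬ 2 ∣ (normalizer (El S 8 : Set G) ⊓ C z).index := by
  intro h
  have h1 := (C z).card_mul_index
  rw [card_C S, hc] at h1
  have h2 : (C z).index = 976841775 := by omega
  rw [← relIndex_mul_index (inf_le_right : normalizer (El S 8 : Set G) ⊓ C z ≤ C z), inf_relIndex_right,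
    relIndex_eq S, h2] at h
  omega

theorem dvd_card (hF : ∃ g, g * z * g⁻¹ ∈ S.Q ∧ g * z * g⁻¹ ≠ z) :
    31 ∣ Nat.card (normalizer (El S 8 : Set G)) := by
  let _ : MulAction (normalizer (El S 8 : Set G)) G :=
    MulAction.compHom _ (MulAut.conj.comp (normalizer (El S 8 : Set G)).subtype)
  have hsm : ∀ (c : normalizer (El S 8 : Set G)) (i : G), c • i = (c : G) * i * (c : G)⁻¹ := fun _ _ => rfl
  have h1 : MulAction.orbit (normalizer (El S 8 : Set G)) z = (El S 8 : Set G) \ {1} := by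
    ext p
    constructor
    · rintro ⟨c, rfl⟩
      refine ⟨(mem_normalizer_iff.1 c.2 z).1 (z_mem_El S 8), ?_⟩
      rw [Set.mem_singleton_iff]
      intro h2
      change (c : G) * z * (c : G)⁻¹ = 1 at h2
      apply S.z_ne
      have h3 : (c : G)⁻¹ * ((c : G) * z * (c : G)⁻¹) * (c : G) = z := by group
      rw [← h3, h2]
      group
    · rintro ⟨hp, hp1⟩
      obtain ⟨g, hg, hn⟩ := exists_trans S hF hp (fun h => hp1 h)
      exact ⟨⟨g, mem_normalizer_fintype hn⟩, hg⟩
  have h2 := MulAction.index_stabilizer (normalizer (El S 8 : Set G)) z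
  rw [h1, Set.ncard_sdiff_singleton_of_mem (El S 8).one_mem, ← Nat.card_coe_set_eq] at h2
  have h3 : Nat.card ((El S 8 : Subgroup G) : Set G) = 32 := card_El S 8
  rw [h3] at h2
  exact ⟨_, by rw [← card_mul_index (MulAction.stabilizer (normalizer (El S 8 : Set G)) z), h2, mul_comm]⟩

theorem not_le (hF : ∃ g, g * z * g⁻¹ ∈ S.Q ∧ g * z * g⁻¹ ≠ z) :
    ¬ normalizer (El S 8 : Set G) ≤ centralizer ({z} : Set G) := by
  intro h
  have h1 := (dvd_card S hF).trans (card_dvd_of_le h)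
  have h2 : Nat.card (centralizer ({z} : Set G)) = 512 * 181440 := card_C S
  rw [h2] at h1
  omega

/-- the permutations with two fixed letters -/
theorem card_fix {j : Fin 9} (hj : j ≠ 8) (P : Subgroup (Equiv.Perm (Fin 9)))
    (h8 : ∀ p ∈ P, p 8 = 8) (hP : ∀ p ∈ P, p j = j) : Nat.card P ∣ 5040 := by
  let q : Fin 9 → Prop := fun x => x ≠ 8 ∧ x ≠ j
  have hq : ∀ p ∈ P, ∀ x, q (p x) ↔ q x := by
    intro p hp x
    have h1 : ∀ i, p i = i → (p x = i ↔ x = i) := by
      intro i hi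
      constructor
      · intro h
        apply p.injective
        rw [h, hi]
      · rintro rfl
        exact hi
    simp only [q, ne_eq, h1 8 (h8 p hp), h1 j (hP p hp)]
  let f : P →* Equiv.Perm {x // q x} :=
    { toFun := fun p => (p : Equiv.Perm (Fin 9)).subtypePerm (hq p p.2)
      map_one' := by
        ext x
        rfl
      map_mul' := fun a b => by
        ext x
        rfl }
  have hf : Function.Injective f := by
    rw [injective_iff_map_eq_one]
    intro p hp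
    apply Subtype.ext
    ext x
    by_cases hx : q x
    · have h2 := congrArg (fun e : Equiv.Perm {x // q x} => ((e ⟨x, hx⟩ : {x // q x}) : Fin 9)) hp
      exact congrArg Fin.val h2
    · simp only [q, not_and_or, not_not] at hx
      rcases hx with rfl | rfl
      · rw [h8 p p.2]; rfl
      · rw [hP p p.2]; rfl
  have h3 : Nat.card {x // q x} = 7 := by
    rw [Nat.card_eq_fintype_card]
    have : ∀ j : Fin 9, j ≠ 8 → Fintype.card {x : Fin 9 // x ≠ 8 ∧ x ≠ j} = 7 := by decide +kernel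
    exact this j hj
  have h4 : Nat.card (Equiv.Perm {x // q x}) = 5040 := by
    rw [Nat.card_perm, h3]
    rfl
  rw [← h4]
  exact card_dvd_of_injective f hf

/-- `N_G(T) ≤ N(E)` for a Sylow 2-subgroup `T ≤ N(E) ∩ C(z)`. -/
theorem normalizer_le (hc : Nat.card G = 90745943887872000) (T : Sylow 2 G)
    (hT : (T : Subgroup G) ≤ normalizer (El S 8 : Set G) ⊓ C z)
    (hN : normalizer ((T : Subgroup G) : Set G) ≤ C z) :
    normalizer ((T : Subgroup G) : Set G) ≤ normalizer (El S 8 : Set G) := by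
  have h2 : Fact (Nat.Prime 2) := ⟨Nat.prime_two⟩
  intro g hg
  have hgz : g * z = z * g := mem_C.1 (hN hg)
  have hgz' : g⁻¹ * z = z * g⁻¹ := ((show Commute g z from hgz).inv_left).eq
  rw [mem_N_iff S hgz]
  by_contra hne
  set j : Fin 9 := (S.φ g⁻¹).1 8 with hj
  have hj8 : j ≠ 8 := by
    intro h
    apply hne
    rw [phi_inv S g hgz] at hj
    have h3 : (S.φ g).1 ((S.φ g).1⁻¹ 8) = 8 := by simp
    have h4 : (S.φ g).1⁻¹ 8 = j := hj.symm
    rw [h4, h] at h3
    exact h3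
  have hTz : ∀ t ∈ (T : Subgroup G), t * z = z * t := fun t ht => mem_C.1 (hT ht).2
  -- the homomorphism
  let f : ↥(T : Subgroup G) →* Equiv.Perm (Fin 9) :=
    { toFun := fun t => (S.φ (t : G)).1
      map_one' := by
        change (S.φ (1 : G)).1 = 1
        rw [phi_one S]
        rfl
      map_mul' := fun a b => by
        change (S.φ ((a : G) * b)).1 = _
        rw [S.φ_mul a b (hTz a a.2) (hTz b b.2)]
        rfl }
  have hf8 : ∀ p ∈ f.range, p 8 = 8 := by
    rintro _ ⟨t, rfl⟩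
    exact (mem_N_iff S (hTz t t.2)).1 (hT t.2).1
  have hfj : ∀ p ∈ f.range, p j = j := by
    rintro _ ⟨t, rfl⟩
    change (S.φ (t : G)).1 j = j
    have h3 : g * t * g⁻¹ ∈ (T : Subgroup G) := (mem_normalizer_iff.1 hg t).1 t.2
    have h4 := (mem_N_iff S (hTz _ h3)).1 (hT h3).1
    have h5 : S.φ (t : G) = S.φ g⁻¹ * S.φ (g * t * g⁻¹) * (S.φ g⁻¹)⁻¹ := by
      rw [← phi_inv S g⁻¹ hgz', inv_inv]
      have h6 := hTz _ h3
      rw [← S.φ_mul _ _ hgz' h6, ← S.φ_mul _ _ _ hgz]
      · congr 1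
        group
      · exact ((show Commute g⁻¹ z from hgz').mul_left (show Commute _ z from h6)).eq
    rw [h5]
    change (S.φ g⁻¹).1 ((S.φ (g * t * g⁻¹)).1 ((S.φ g⁻¹).1⁻¹ j)) = j
    have h7 : (S.φ g⁻¹).1⁻¹ j = 8 := by rw [Equiv.Perm.inv_eq_iff_eq]
    rw [h7, h4]
  have h5 := card_fix hj8 f.range hf8 hfj
  -- the order of the image
  have h6 : Nat.card f.ker ∣ 512 := by
    have h7 : ∀ t : f.ker, ((t : ↥(T : Subgroup G)) : G) ∈ S.Q := by
      intro t
      rw [← S.φ_eq_one _ (hTz _ t.1.2)]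
      exact Subtype.ext (MonoidHom.mem_ker.1 t.2)
    rw [← card_Q S]
    let i : f.ker →* S.Q :=
      { toFun := fun t => ⟨_, h7 t⟩
        map_one' := rfl
        map_mul' := fun _ _ => rfl }
    refine card_dvd_of_injective i fun a b hab => ?_
    have h9 : ((a : ↥(T : Subgroup G)) : G) = ((b : ↥(T : Subgroup G)) : G) :=
      congrArg (fun q : S.Q => (q : G)) hab
    exact Subtype.ext (Subtype.ext h9)
  have h7 : 2 ^ 15 ∣ Nat.card ↥(T : Subgroup G) := by
    have h8 := (T : Subgroup G).card_mul_index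
    rw [hc] at h8
    have h9 : Nat.Coprime (2 ^ 15) (T : Subgroup G).index :=
      Nat.Coprime.pow_left 15 ((Nat.prime_two.coprime_iff_not_dvd).2 T.not_dvd_index)
    exact h9.dvd_of_dvd_mul_right (by rw [h8]; norm_num)
  have h8 : Nat.card ↥(T : Subgroup G) = Nat.card f.ker * Nat.card f.range := by
    rw [← f.ker.card_mul_index, index_ker]
  rw [h8] at h7
  have h9 : 2 ^ 15 ∣ 512 * 5040 := h7.trans (mul_dvd_mul h6 h5)
  norm_num at h9

end spin

theorem card_eq : Nat.card Spor.Th = 90745943887872000 := Cfsg.Agent.Th.Main1700.isTh.2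

/-- **The row `Th`.** -/
theorem nun : NUN Spor.Th := by
  have hfin : Finite Spor.Th := Cfsg.Agent.KFacts.Th.Main.finite
  have h2 : Fact (Nat.Prime 2) := ⟨Nat.prime_two⟩
  obtain ⟨S⟩ := Cfsg.Agent.Sigma.ThRow.exists_spin
  have hl := Cfsg.Agent.KFacts.Th.Main.large Cfsg.Agent.KFacts.Th.Main.ctx
  have hs := Cfsg.Agent.KFacts.Th.Main.sheet
  set z := Cfsg.Agent.Th.IndexUpper.gTh 1 with hz
  set R := Cfsg.Agent.Th.CStruct.Q0 Cfsg.Agent.Th.IndexUpper.gTh with hR
  -- the other conjugates of `z` in `Q`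
  have hF : ∃ g, g * z * g⁻¹ ∈ S.Q ∧ g * z * g⁻¹ ≠ z := by
    obtain ⟨x, hx, hxv⟩ := S.π_surj (Cfsg.Agent.ThType.SpinFacts.vec 1)
    have hx0 : S.π x ≠ 0 := by rw [hxv]; exact Cfsg.Agent.ThType.SpinRep.vec1_ne
    have hx1 : x ≠ 1 := fun h => hx0 ((S.π_eq_zero x hx).2 (Or.inl h))
    have hxz : x ≠ z := fun h => hx0 ((S.π_eq_zero x hx).2 (Or.inr h))
    have hx2 : x * x = 1 := (sq_eq_one_iff S hx).2 (by rw [hxv]; exact Cfsg.Agent.ThType.SpinRep.q0_vec1)
    have h1 : orderOf x = 2 := orderOf_eq_prime (by rw [pow_two]; exact hx2) hx1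
    obtain ⟨g, hg⟩ := isConj_iff.1 (Cfsg.Agent.MonsterX.ThOneClass.oneClass z x
      Cfsg.Agent.MonsterX.ThOneClass.orderOf_a h1)
    exact ⟨g, by rw [hg]; exact hx, by rw [hg]; exact hxz⟩
  -- the Sylow 2-subgroup
  obtain ⟨T, hT⟩ : ∃ T : Sylow 2 Spor.Th, (T : Subgroup Spor.Th) ≤ normalizer (El S 8 : Set Spor.Th) ⊓ C z := by
    set H := normalizer (El S 8 : Set Spor.Th) ⊓ C z with hH
    obtain ⟨P⟩ : Nonempty (Sylow 2 ↥H) := inferInstance
    have h3 : ¬ 2 ∣ ((P : Subgroup ↥H).map H.subtype).index := by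
      rw [index_map_subtype]
      intro h
      rcases (Nat.prime_two.dvd_mul).1 h with h | h
      · exact P.not_dvd_index h
      · exact odd_index S card_eq h
    exact ⟨(P.isPGroup'.map _).toSylow h3, map_subtype_le _⟩
  have hTz : ∀ x ∈ (T : Subgroup Spor.Th), x * z = z * x := fun x hx => mem_C.1 (hT hx).2
  have hRT : R ≤ T := by
    have hR2 : IsPGroup 2 R := Cfsg.Agent.LargeExtra.Base.isPGroup hl
    have hn : (T : Subgroup Spor.Th) ≤ normalizer (R : Set Spor.Th) := by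
      intro x hx
      exact mem_normalizer_fintype fun n hn => hl.conj_mem x (hTz x hx) n hn
    have h8 : IsPGroup 2 ↥((T : Subgroup Spor.Th) ⊔ R) := T.isPGroup'.to_sup_of_normal_right' hR2 hn
    have h9 := T.is_maximal' h8 le_sup_left
    rw [← h9]
    exact le_sup_right
  have hN : normalizer ((T : Subgroup Spor.Th) : Set Spor.Th) ≤ centralizer ({z} : Set Spor.Th) := by
    refine normalizer_le_centralizer hl.z_ne (hRT hl.z_mem) hTz fun y hy hyc => ?_
    have h3 : ∀ x ∈ R, y * x = x * y := fun x hx => (hyc x (hRT hx)).symm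
    exact hl.cent y (hl.self y (hTz y hy) h3) h3
  refine nun_of_large hl.z_ne hl.z_sq T hN (normalizer_le S card_eq T hT hN) ?_ (fun B hB hBC hBn => ?_)
    (fun B hBR hBn => ?_) ?_ ?_ (not_le S hF) (R := R)
  · intro x hx
    have h3 : ∀ r ∈ R, r * (x * z * x⁻¹) = (x * z * x⁻¹) * r := by
      intro r hr
      have hmem : x⁻¹ * r * x ∈ R := by
        have hxn : x ∈ normalizer (R : Set Spor.Th) := mem_normalizer_fintype fun n hn => hx n hn
        have := (mem_normalizer_iff.1 (inv_mem hxn) r).1 hr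
        rwa [inv_inv] at this
      have h5 := hl.comm_z _ hmem
      calc r * (x * z * x⁻¹) = x * ((x⁻¹ * r * x) * z) * x⁻¹ := by group
        _ = x * (z * (x⁻¹ * r * x)) * x⁻¹ := by rw [h5]
        _ = (x * z * x⁻¹) * r := by group
    have h4 := hl.cent _ (hx _ hl.z_mem) fun y hy => (h3 y hy).symm
    rcases h4 with h | h
    · exfalso
      apply hl.z_ne
      have : z = x⁻¹ * (x * z * x⁻¹) * x := by group
      rw [this, h]
      group
    · exact h
  · exact hs.Rmax B hBC hB fun x hx b hb => hBn x hx b hb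
  · exact hs.Rmin B hBR fun x hx b hb => hBn x hx b hb
  · exact IsPGroup.of_card (n := 5) (card_El S 8)
  · intro h
    have h3 := card_El S 8
    rw [h, card_bot] at h3
    norm_num at h3

end Cfsg.Agent.UniqSheet.Th

end

-- merged: Cfsg.Agent.UniqLoc.JFour
section

/-!
# The row `J₄` of S1808 (helper65)
-/

set_option autoImplicit false

namespace Cfsg.Agent.UniqLoc.JFour

open Cfsg Cfsg.Agent.QTUnique

universe u

theorem se_j4 {G : Type u} [Group G] [Finite G] [IsSimpleGroup G] (hna : ¬ IsMulCommutative G)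
    (hr : PRankAtLeast 2 3 G) (h : Spor.IsoJ4 G) : SE G :=
  CharTwo.se_of_charTwo hna (SevenCases.SporJ4.charTwo h) hr (QTNorm.JFour.nt_j4 h)

end Cfsg.Agent.UniqLoc.JFour

end

-- merged: Cfsg.Agent.UniqLoc.Table
section

/-!
# S1808: the rows with `σ(G) = ∅` (helper65)
-/

set_option autoImplicit false

namespace Cfsg.Agent.UniqLoc.Table

open Cfsg Cfsg.Agent.SevenCases Cfsg.Agent.QTUnique

universe u

theorem nun_iso {G : Type*} [Group G] [Finite G] {H : Type*} [Group H] (h : NUN H) (e : Nonempty (G ≃* H)) : NUN G := by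
  obtain ⟨e⟩ := e
  have : Finite H := Finite.of_equiv G e.toEquiv
  exact NUN.congr e.symm h

theorem se_ru {G : Type u} [Group G] [Finite G] (hN : QTNorm.NT G) (h : Spor.IsoRu G) : SE G :=
  (nun_of_notUnique (QTUnique.Ru.notUnique h) hN).se

/-- **the rows with `σ(G) = ∅`** -/
theorem seRows : Main.SERows.{u} where
  l43 := by
    rintro G _ _ _ hna hr ⟨F, iF, iFt, n, -, ⟨rfl, hF⟩, ⟨e⟩⟩
    exact (RowsN.nun_l43 hF e).se
  u43 := by
    rintro G _ _ _ hna hr ⟨F, iF, iFt, n, q, -, hc, ⟨rfl, rfl⟩, ⟨e⟩⟩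
    exact RowsC.se_u43 hna hr (by rw [hc]; norm_num) e
  g23 := by
    rintro G _ _ _ hna hr ⟨F, iF, iFt, -, hF, ⟨e⟩⟩
    exact RowsC.se_g23 hna hr hF e
  m22 := fun G _ _ _ hna hr h => RowsC.se_m22 hna hr h
  m23 := fun G _ _ _ hna hr h => RowsC.se_m23 hna hr h
  m24 := fun G _ _ _ hna hr h => RowsC.se_m24 hna hr h
  j2 := fun G _ _ _ hna _ h => (RowsN.nun_j2 hna (QTNorm.nt_j2 h) h).se
  j3 := fun G _ _ _ hna hr h => RowsC.se_j3 hna hr (QTNorm.nt_j3 h) h
  j4 := fun G _ _ _ hna hr h => JFour.se_j4 hna hr h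
  hs := fun G _ _ _ _ _ h => (RowsN.nun_hs (QTNorm.HSRow.nt_hs h) h).se
  he := fun G _ _ _ _ _ h => (RowsN.nun_he h).se
  ru := fun G _ _ _ _ _ h => se_ru (QTNorm.RuRow.nt_ru h) h
  suz := fun G _ _ _ _ _ h => (nun_iso Suz.nun h).se
  co2 := fun G _ _ _ _ _ h => (nun_iso UniqSheet.Co2.nun h).se
  co3 := fun G _ _ _ _ _ h => (nun_iso Co3.nun h).se
  hn := fun G _ _ _ _ _ h => (nun_iso HN.nun h).se
  th := fun G _ _ _ _ _ h => (nun_iso UniqSheet.Th.nun h).se

end Cfsg.Agent.UniqLoc.Table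

end

-- merged: Cfsg.Agent.UniqLoc.AssembleOf
section

/-!
# S1808: assembly from the last rows (helper65)

`s1808_of` : S1808 from S0000 and four rows: a `B₂`-group in `L₂(O'N)`, `σ(B) ⊆ {3}`, `σ(M) ⊆ {3}`, `σ(M) ≠ ∅`.
-/

set_option autoImplicit false

namespace Cfsg.Agent.UniqLoc.Assemble

open Cfsg Cfsg.Agent.SevenCases Cfsg.Agent.SigTab Cfsg.Agent.GammaTwo
open Cfsg.Agent.Sigma.Frame (SigNe SigRows)

universe u

theorem ne_of {G : Type u} [Group G] (h : 3 ∈ sigmaSet G) : sigmaSet G ≠ ∅ := fun h0 => by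
  rw [h0] at h
  exact h

theorem sigRows (m : SigNe.{u} (fun X _ => Spor.IsoM X)) : SigRows.{u} where
  o73 := CharThree.SW.ne_o73
  o8p3 := CharThree.SW.ne_o8p3
  o8m3 := CharThree.SW.ne_o8m3
  co1 := fun G _ _ _ h => ne_of (Sigma.CoOne.mem_sigma h)
  fi22 := fun G _ _ _ h => ne_of (Sigma.Fischer.mem_sigma22 h)
  fi23 := fun G _ _ _ h => ne_of (Sigma.Fischer.mem_sigma23 h)
  fi24 := fun G _ _ _ h => ne_of (Sigma.FiTF.mem_sigma24 h)
  b := Sigma.BabyRow.b
  m := m

theorem threeRows (b : SigThree.{u} (fun X _ => Spor.IsoB X)) (m : SigThree.{u} (fun X _ => Spor.IsoM X))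
    (nm : SigNe.{u} (fun X _ => Spor.IsoM X)) : Main.ThreeRows.{u} where
  s_o73 := CharThree.sig_o73
  s_o8p3 := CharThree.sig_o8p3
  s_o8m3 := CharThree.sig_o8m3
  s_co1 := fun _ _ _ h => Sigma.CoOneFive.sigma_subset h
  s_fi22 := LThreeFi22.Rows.sig
  s_fi23 := LThreeFi23.sigThree
  s_fi24 := LThreeFi24.sigThree
  s_b := b
  s_m := m
  ne := sigRows nm
  o73 := Own.noThree_o73
  o8p3 := Own.noThree_o8p3
  o8m3 := Own.noThree_o8m3
  co1 := SporDone.co1
  fi22 := SporDone.fi22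
  fi23 := SporDone.fi23
  fi24 := SporDone.fi24
  b := SporDone.ba
  m := SporDone.m

theorem resRows (hkn : ∀ (X : Type u) [Group X] [Finite X] [IsSimpleGroup X], IsKnownSimple' X)
    (on : BTwo.{u} (fun X _ => Spor.IsoON X)) : Main.ResRows.{u} where
  gen := OddTab.Rows.genRows hkn
  b := OddTab.Rows.bRows
  bc := NotResT.Inst.bNotC
  more := NotResT.All.notResMore_of on

/-- **S1808 from S0000 and four rows.** -/
theorem s1808_of (on : BTwo.{u} (fun X _ => Spor.IsoON X))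
    (b : SigThree.{u} (fun X _ => Spor.IsoB X)) (m : SigThree.{u} (fun X _ => Spor.IsoM X))
    (nm : SigNe.{u} (fun X _ => Spor.IsoM X))
    (hkn : ∀ (X : Type u) [Group X] [Finite X] [IsSimpleGroup X], IsKnownSimple' X)
    {G : Type u} [Group G] [Finite G] [IsSimpleGroup G] (hG : ¬ IsMulCommutative G) (hR : IsOfRestrictedEvenType G)
    (S : Sylow 2 G) (M : Subgroup G) (hM : maxTwoLocalsOver (S : Subgroup G) = {M}) (hσ : Main.Hσ G M) :
    IsStronglyPEmbedded 2 M :=
  Main.s1808 Table.seRows (threeRows b m nm) (resRows hkn on) (hkn G) hG hR S M hM hσ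

end Cfsg.Agent.UniqLoc.Assemble

end

-- merged: Cfsg.Agent.UniqLoc.Final
section

/-!
# S1808, all rows (no S0000) (helper65)
-/

set_option autoImplicit false

namespace Cfsg.Agent.UniqLoc.Final

open Cfsg

universe u

/-- **S1808 from S0000.** -/
theorem s1808 (hkn : ∀ (X : Type u) [Group X] [Finite X] [IsSimpleGroup X], IsKnownSimple' X)
    {G : Type u} [Group G] [Finite G] [IsSimpleGroup G] (hG : ¬ IsMulCommutative G)
    (hR : IsOfRestrictedEvenType G) (S : Sylow 2 G) (M : Subgroup G)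
    (hM : maxTwoLocalsOver (S : Subgroup G) = {M})
    (hσ : sigmaSet G = ∅ ∨
      ((∃ p : ℕ, p.Prime ∧ p ≠ 2 ∧ PRankAtLeast p 4 ↥M) ∧
        ∀ p : ℕ, p.Prime → p ≠ 2 → PRankAtLeast p 4 ↥M → IsPUniquenessSubgroup p M)) :
    IsStronglyPEmbedded 2 M :=
  Assemble.s1808_of (fun _ _ _ h => GTwoRows.lpExists_on h) SigB.Row.sigThree LThreeM.SigRow.sigThree
    (fun _ _ _ _ h => Assemble.ne_of (Sigma.MonsterFin.mem_sigma h)) hkn hG hR S M hM hσ

end Cfsg.Agent.UniqLoc.Final

end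

private theorem dce_e1f9df8b4541 : _root_.True := by
  try have : _root_.True := by simp only [_root_.Cfsg.Agent.UniqLoc.HN.cW.eq_1]
  try have : _root_.True := by simp only [_root_.Cfsg.maxTwoLocalsOver.eq_1]
  try have : _root_.True := by simp only [_root_.Cfsg.Agent.OddHalf.Small.M2223.octMask'.eq_1]
  try have : _root_.True := by simp only [_root_.Cfsg.Agent.ChevalleyStructure.Tits.Sat.rd.congr_simp]
  try have : _root_.True := by simp only [_root_.Cfsg.Agent.UniqLoc.HN.L3.eq_1]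
  try have : _root_.True := by simp only [_root_.Cfsg.Agent.UniqLoc.Tits.sqRels.eq_1]
  try have : _root_.True := by simp only [_root_.Cfsg.Agent.UniqLoc.HN.y.eq_1]
  try have : _root_.True := by simp only [_root_.Cfsg.Agent.UniqSheet.SpSix.B.eq_1]
  try have : _root_.True := by simp only [_root_.Cfsg.Agent.UniqLoc.Co3.x0.eq_1]
  try have : _root_.True := by simp only [_root_.Cfsg.Agent.UniqLoc.HN.G3.eq_1]
  exact _root_.True.intro
end
end
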